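/- Kernel checks of the tables of type E8. -/
import Cfsg.Agent.H65.ChkE8a
import Cfsg.Agent.H65.ChkE8b
import Cfsg.Agent.H65.ChkE8c
import Cfsg.Agent.H65.ChkE8d

namespace H65

open Cfsg.Lie

set_option Elab.async false


theorem tabE8 [H63.RS chevE8] : Tab chevE8 :=
  tab_of_chk packedE8 chkExpE8 chkGenE8 (by
    intro p hp
    simp only [List.mem_cons, List.not_mem_nil, or_false] at hp
    rcases hp with rfl | rfl | rfl | rfl | rfl | rfl | rfl | rfl | rfl
    exacts [jacE8_0, jacE8_162, jacE8_141, jacE8_135, jacE8_130, jacE8_126, jacE8_123, jacE8_121, jacE8_120])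

end H65
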