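/- Cubic forms given by lists of monomials, their polarisations and isometry groups. -/
import Cfsg.Agent.H65.RepChk
import Cfsg.Agent.H65.Engine
import Cfsg.Prelude.Def_E6

set_option autoImplicit false
set_option linter.unusedSectionVars false

namespace H65

open Matrix Cfsg.Lie

variable {ι : Type} {R : Type*} [CommRing R]

/-- Lists of signed monomials of degree three. -/
abbrev TL (ι : Type) : Type := List (ι × ι × ι × ℤ)

/-- The cubic form. -/
def cN (L : TL ι) (v : ι → R) : R := (L.map fun t => (t.2.2.2 : R) * (v t.1 * v t.2.1 * v t.2.2.1)).sum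
/-- The part of `cN (x + y)` that is quadratic in `x` and linear in `y`. -/
def cA (L : TL ι) (x y : ι → R) : R := (L.map fun t => (t.2.2.2 : R) *
  (x t.1 * x t.2.1 * y t.2.2.1 + x t.1 * y t.2.1 * x t.2.2.1 + y t.1 * x t.2.1 * x t.2.2.1)).sum
/-- The trilinear form. -/
def cT (L : TL ι) (x y z : ι → R) : R := (L.map fun t => (t.2.2.2 : R) *
  (x t.1 * y t.2.1 * z t.2.2.1 + x t.1 * z t.2.1 * y t.2.2.1 + y t.1 * x t.2.1 * z t.2.2.1 +
    y t.1 * z t.2.1 * x t.2.2.1 + z t.1 * x t.2.1 * y t.2.2.1 + z t.1 * y t.2.1 * x t.2.2.1)).sum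

variable (L : TL ι)

theorem cN_add_smul (x y : ι → R) (t : R) :
    cN L (x + t • y) = cN L x + t * cA L x y + t ^ 2 * cA L y x + t ^ 3 * cN L y := by
  induction L with
  | nil => simp [cN, cA]
  | cons p L ih =>
    simp only [cN, cA, List.map_cons, List.sum_cons, Pi.add_apply, Pi.smul_apply, smul_eq_mul] at ih ⊢
    rw [ih]; ring

theorem cA_add (x x' y : ι → R) : cA L (x + x') y = cA L x y + cA L x' y + cT L x x' y := by
  induction L with
  | nil => simp [cT, cA]
  | cons p L ih =>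
    simp only [cT, cA, List.map_cons, List.sum_cons, Pi.add_apply] at ih ⊢
    rw [ih]; ring

theorem cT_swap12 (x y z : ι → R) : cT L x y z = cT L y x z := by
  unfold cT; congr 2; funext t; ring

theorem cT_swap23 (x y z : ι → R) : cT L x y z = cT L x z y := by
  unfold cT; congr 2; funext t; ring

theorem cT_add (x x' y z : ι → R) : cT L (x + x') y z = cT L x y z + cT L x' y z := by
  induction L with
  | nil => simp [cT]
  | cons p L ih =>
    simp only [cT, List.map_cons, List.sum_cons, Pi.add_apply] at ih ⊢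
    rw [ih]; ring

theorem cT_smul (c : R) (x y z : ι → R) : cT L (c • x) y z = c * cT L x y z := by
  induction L with
  | nil => simp [cT]
  | cons p L ih =>
    simp only [cT, List.map_cons, List.sum_cons, Pi.smul_apply, smul_eq_mul] at ih ⊢
    rw [ih]; ring

theorem cA_eq_zero {Z : ι → Prop} (h : ∀ t ∈ L, (Z t.1 ∧ Z t.2.1) ∨ (Z t.1 ∧ Z t.2.2.1) ∨ (Z t.2.1 ∧ Z t.2.2.1))
    {x : ι → R} (hx : ∀ i, Z i → x i = 0) (y : ι → R) : cA L x y = 0 := by
  refine List.sum_eq_zero fun a ha => ?_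
  obtain ⟨t, ht, rfl⟩ := List.mem_map.1 ha
  rcases h t ht with ⟨h1, h2⟩ | ⟨h1, h2⟩ | ⟨h1, h2⟩ <;> simp [hx _ h1, hx _ h2]

theorem cA_eq_zero' {Z : ι → Prop} (h : ∀ t ∈ L, Z t.1 ∨ Z t.2.1 ∨ Z t.2.2.1)
    {x y : ι → R} (hx : ∀ i, Z i → x i = 0) (hy : ∀ i, Z i → y i = 0) : cA L x y = 0 := by
  refine List.sum_eq_zero fun a ha => ?_
  obtain ⟨t, ht, rfl⟩ := List.mem_map.1 ha
  rcases h t ht with h1 | h1 | h1 <;> simp [hx _ h1, hy _ h1]

variable [Fintype ι] [DecidableEq ι]

theorem cT_eq_sum (x y z : ι → R) : cT L x y z = ∑ a, x a * cT L (Pi.single a 1) y z := by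
  let f : (ι → R) →ₗ[R] R := ⟨⟨fun x => cT L x y z, fun x x' => cT_add L x x' y z⟩, fun c x => cT_smul L c x y z⟩
  have := f.pi_apply_eq_sum_univ x
  simp only [f, LinearMap.coe_mk, AddHom.coe_mk, smul_eq_mul] at this
  rw [this]
  refine Finset.sum_congr rfl fun a _ => ?_
  congr 2; funext j; simp [Pi.single_apply, eq_comm]

/-- The linear form `cT e_a e_b` as a sparse vector. -/
def tsv (L : TL ι) (a b : ι) : List (ι × ℤ) := L.flatMap fun t =>
  (if t.1 = a ∧ t.2.1 = b then [(t.2.2.1, t.2.2.2)] else []) ++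
  (if t.1 = a ∧ t.2.2.1 = b then [(t.2.1, t.2.2.2)] else []) ++
  (if t.1 = b ∧ t.2.1 = a then [(t.2.2.1, t.2.2.2)] else []) ++
  (if t.1 = b ∧ t.2.2.1 = a then [(t.2.1, t.2.2.2)] else []) ++
  (if t.2.1 = a ∧ t.2.2.1 = b then [(t.1, t.2.2.2)] else []) ++
  (if t.2.1 = b ∧ t.2.2.1 = a then [(t.1, t.2.2.2)] else [])

theorem cT_single_single (a b : ι) (z : ι → R) :
    cT L (Pi.single a 1) (Pi.single b 1) z = ((tsv L a b).map fun p => (p.2 : R) * z p.1).sum := by
  induction L with
  | nil => simp [cT, tsv]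
  | cons t L ih =>
    simp only [cT, tsv, List.map_cons, List.sum_cons, List.flatMap_cons, List.map_append, List.sum_append] at ih ⊢
    rw [ih]
    congr 1
    simp only [Pi.single_apply, ite_and, apply_ite (List.map _), apply_ite List.sum, List.map_cons, List.map_nil,
      List.sum_cons, List.sum_nil, mul_add]
    congr 1; congr 1; congr 1; congr 1; congr 1 <;> split_ifs <;> simp
    all_goals split_ifs <;> simp

theorem cT_single {tp : ι → ι → ι} {ts : ι → ι → ℤ}
    (h : ∀ a b, tsv L a b = if ts a b = 0 then [] else [(tp a b, ts a b)]) (a : ι) (y z : ι → R) :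
    cT L (Pi.single a 1) y z = ∑ b, (ts a b : R) * (y b * z (tp a b)) := by
  rw [cT_swap12, cT_eq_sum]
  refine Finset.sum_congr rfl fun b _ => ?_
  rw [cT_swap12, cT_single_single, h]
  split_ifs with h0
  · simp [h0]
  · simp; ring

variable {F : Type*} [Field F]

theorem mem_funStab {f : (ι → F) → F} {g : GL ι F} :
    g ∈ funStab F f ↔ ∀ v, f ((g : Matrix ι ι F) *ᵥ v) = f v := Iff.rfl

variable {L}

theorem cA_mulVec (hF : ∃ a : F, a ≠ 0 ∧ a ≠ 1) {g : GL ι F} (hg : g ∈ funStab F (cN L)) (x y : ι → F) :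
    cA L ((g : Matrix ι ι F) *ᵥ x) ((g : Matrix ι ι F) *ᵥ y) = cA L x y := by
  obtain ⟨c, c0, c1⟩ := hF
  have h : ∀ t : F, _ := fun t => mem_funStab.1 hg (x + t • y)
  simp only [Matrix.mulVec_add, Matrix.mulVec_smul, cN_add_smul, mem_funStab.1 hg] at h
  apply mul_left_cancel₀ (mul_ne_zero c0 (sub_ne_zero.2 c1))
  linear_combination c ^ 2 * h 1 - h c

theorem cT_mulVec (hF : ∃ a : F, a ≠ 0 ∧ a ≠ 1) {g : GL ι F} (hg : g ∈ funStab F (cN L)) (x y z : ι → F) :
    cT L ((g : Matrix ι ι F) *ᵥ x) ((g : Matrix ι ι F) *ᵥ y) ((g : Matrix ι ι F) *ᵥ z) = cT L x y z := by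
  have h := cA_mulVec hF hg (x + y) z
  simp only [Matrix.mulVec_add, cA_add, cA_mulVec hF hg] at h
  linear_combination h

/-- Transport of isometry groups along a linear equivalence. -/
theorem funStab_equiv {κ : Type} [Fintype κ] [DecidableEq κ] (e : (ι → F) ≃ₗ[F] (κ → F)) {f : (ι → F) → F}
    {f' : (κ → F) → F} (h : ∀ v, f' (e v) = f v) : Nonempty (funStab F f ≃* funStab F f') := by
  let φ : GL ι F ≃* GL κ F := (Matrix.GeneralLinearGroup.toLin.trans
    (LinearMap.GeneralLinearGroup.congrLinearEquiv e)).trans Matrix.GeneralLinearGroup.toLin.symm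
  have h1 : ∀ g v, ((φ g : GL κ F) : Matrix κ κ F) *ᵥ e v = e ((g : Matrix ι ι F) *ᵥ v) := fun g v => by
    have h2 : ∀ (k : LinearMap.GeneralLinearGroup F (κ → F)) w,
        ((Matrix.GeneralLinearGroup.toLin.symm k : GL κ F) : Matrix κ κ F) *ᵥ w = (k : _ →ₗ[F] _) w := fun k w => by
      obtain ⟨k, rfl⟩ := Matrix.GeneralLinearGroup.toLin.surjective k
      simp
    simp [φ, h2]
  refine ⟨(φ.subgroupMap _).trans (MulEquiv.subgroupCongr ?_)⟩
  ext g
  obtain ⟨g, rfl⟩ := φ.surjective g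
  refine (Subgroup.mem_map_iff_mem (f := (φ : GL ι F →* GL κ F)) φ.injective).trans ?_
  rw [mem_funStab, mem_funStab, e.surjective.forall]
  simp only [h1, h]

/-! ### A reflective check of invariance -/

/-- The value of a sparse polynomial. -/
def pe (ev : ℕ →* R) (l : SV) : R := (l.map fun p => (p.2 : R) * ev p.1).sum

/-- Add `c m` times a sparse polynomial. -/
noncomputable def pAdd (m : ℕ) (c : ℤ) (l acc : SV) : SV :=
  List.rec (motive := fun _ => SV) acc (fun hd _ ih => ins (Nat.mul m hd.1) (Int.mul c hd.2) ih) l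

/-- Add `c m` times the product of two sparse polynomials. -/
noncomputable def pAdd2 (m : ℕ) (c : ℤ) (l l' acc : SV) : SV :=
  List.rec (motive := fun _ => SV) acc (fun hd _ ih => pAdd (Nat.mul m hd.1) (Int.mul c hd.2) l' ih) l

/-- Add `c` times the product of three sparse polynomials. -/
noncomputable def pAdd3 (c : ℤ) (l l' l'' acc : SV) : SV :=
  List.rec (motive := fun _ => SV) acc (fun hd _ ih => pAdd2 hd.1 (Int.mul c hd.2) l' l'' ih) l

/-- Add `c` times the value of a cubic form on a vector of sparse polynomials. -/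
noncomputable def pAddN {ι : Type} (c : ℤ) (L : TL ι) (v : ι → SV) (acc : SV) : SV :=
  List.rec (motive := fun _ => SV) acc
    (fun t _ ih => pAdd3 (Int.mul c t.2.2.2) (v t.1) (v t.2.1) (v t.2.2.1) ih) L

variable (ev : ℕ →* R)

theorem pe_cons (p : ℕ × ℤ) (l : SV) : pe ev (p :: l) = (p.2 : R) * ev p.1 + pe ev l := by simp [pe]

theorem pe_ins (k : ℕ) (a : ℤ) (acc : SV) : pe ev (ins k a acc) = pe ev acc + a * ev k := by
  induction acc with
  | nil => simp [ins, pe]
  | cons hd tl ih =>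
    show pe ev (Bool.rec (motive := fun _ => SV) (hd :: ins k a tl) ((k, hd.2 + a) :: tl) (Nat.beq hd.1 k)) = _
    cases h : Nat.beq hd.1 k
    · simp only [pe_cons, ih, add_assoc]
    · have := Nat.eq_of_beq_eq_true h
      simp only [pe_cons, this, Int.cast_add]; ring

theorem pe_of_allZero {l : SV} (h : allZero l = true) : pe ev l = 0 := by
  induction l with
  | nil => rfl
  | cons hd tl ih =>
    obtain ⟨k, a⟩ := hd
    rcases a with (_ | m) | m
    · have : allZero tl = true := h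
      simp [pe_cons, ih this]
    · exact absurd h (by simp [allZero])
    · exact absurd h (by simp [allZero])

theorem pe_pAdd (m : ℕ) (c : ℤ) (l acc : SV) : pe ev (pAdd m c l acc) = pe ev acc + c * ev m * pe ev l := by
  induction l with
  | nil => simp [pAdd, pe]
  | cons p l ih =>
    refine (pe_ins ev (m * p.1) (c * p.2) _).trans ?_
    rw [show pe ev (List.rec _ _ l) = _ from ih, pe_cons, map_mul, Int.cast_mul]; ring

theorem pe_pAdd2 (m : ℕ) (c : ℤ) (l l' acc : SV) :
    pe ev (pAdd2 m c l l' acc) = pe ev acc + c * ev m * (pe ev l * pe ev l') := by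
  induction l with
  | nil => simp [pAdd2, pe]
  | cons p l ih =>
    refine (pe_pAdd ev (m * p.1) (c * p.2) _ _).trans ?_
    rw [show pe ev (List.rec _ _ l) = _ from ih, pe_cons, map_mul, Int.cast_mul]; ring

theorem pe_pAdd3 (c : ℤ) (l l' l'' acc : SV) :
    pe ev (pAdd3 c l l' l'' acc) = pe ev acc + c * (pe ev l * pe ev l' * pe ev l'') := by
  induction l with
  | nil => simp [pAdd3, pe]
  | cons p l ih =>
    refine (pe_pAdd2 ev p.1 (c * p.2) _ _ _).trans ?_
    rw [show pe ev (List.rec _ _ l) = _ from ih, pe_cons, Int.cast_mul]; ring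

omit [Fintype ι] [DecidableEq ι] in
theorem pe_pAddN (c : ℤ) (L : TL ι) (v : ι → SV) (acc : SV) :
    pe ev (pAddN c L v acc) = pe ev acc + c * cN L fun i => pe ev (v i) := by
  induction L with
  | nil => simp [pAddN, cN]
  | cons t L ih =>
    refine (pe_pAdd3 ev (c * t.2.2.2) _ _ _ _).trans ?_
    rw [show pe ev (List.rec _ _ L) = _ from ih, Int.cast_mul]
    simp only [cN, List.map_cons, List.sum_cons]; ring

end H65
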