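/- Data and kernel-checked combinatorial facts for the 27-dimensional module of type E6. -/
import Cfsg.Agent.H65.Cubic
import Cfsg.Agent.H65.RepE6v27
import Cfsg.Agent.H65.OrthD4

set_option autoImplicit false
set_option Elab.async false

namespace H65

open Matrix

/-- The 45 monomials of the cubic form. -/
def L27 : TL (Fin 27) := [(0, 17, 22, 1), (0, 18, 23, 1), (0, 19, 24, 1), (0, 20, 25, 1), (0, 21, 26, 1), (1, 3, 22, -1), (1, 4, 18, 1), (1, 5, 24, 1), (1, 6, 25, 1), (1, 7, 26, 1), (2, 3, 23, -1), (2, 4, 17, -1), (2, 8, 24, 1), (2, 9, 25, 1), (2, 10, 26, 1), (3, 11, 19, -1), (3, 13, 20, -1), (3, 15, 21, -1), (4, 12, 19, -1), (4, 14, 20, -1), (4, 16, 21, -1), (5, 9, 21, 1), (5, 10, 20, -1), (5, 11, 17, -1), (5, 12, 23, 1), (6, 8, 21, -1), (6, 10, 19, 1), (6, 13, 17, -1), (6, 14, 23, 1), (7, 8, 20, 1), (7, 9, 19, -1), (7, 15, 17, -1), (7, 16, 23, 1), (8, 11, 18, -1), (8, 12, 22, -1), (9, 13, 18, -1),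 (9, 14, 22, -1), (10, 15, 18, -1), (10, 16, 22, -1), (11, 14, 26, -1), (11, 16, 25, 1), (12, 13, 26, 1), (12, 15, 25, -1), (13, 16, 24, -1), (14, 15, 24, 1)]

/-- The third index of the monomial through two indices. -/
noncomputable def tp27 (a b : Fin 27) : Fin 27 := Fin.ofNat 27 (fld 5 31 (getRow [0x569394759c5ec000000000000000000000, 0x1cc500c00010000000000000d6712b0000, 0x292818000000800000006b3800011b8000, 0x105ed58000a8280980000000005ec0, 0x20e6045505013000000000004640, 0x16012a00160000178d2a00000000300, 0x2070100501a005e2004c150000000320, 0x40080008481f788000002740000000340, 0x2030c702c000001690000a540006000, 0x40038a03b40005a4000000982a006400, 0x8000400533c16900000000004e8006800, 0x3a00000001a0b906800000120022098000, 0x35e02a00020000c834000016002f300000, 0x301000003024d80001a0024004400a0000, 0x2c0f3240400000c0000d02c005c1400000, 0x18e00060028e0060190480088000a8000, 0x16d3a8800000000300cd800b801500000,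 0x380c0280007b56201016, 0x5012043dab0000100097, 0x4198e04a80c58018, 0x1060014074014e68019, 0x418000000a6021307801a, 0xa02408041cc0000008071, 0x701805000008398010c12, 0xd73e000000200020020b3, 0xb6000f8004000400024d4, 0x2d8d7080008000028f5] a) b)

/-- The sign of the monomial through two indices (zero if there is none). -/
noncomputable def ts27 (a b : Fin 27) : ℤ := Int.subNatNat (fld 2 3 (getRow [0x2aaaa955555555, 0x2a45655555aa15, 0x2a1551556a5415, 0x15001511155541, 0x15502044555549, 0x16985156095559, 0x19919161645559, 0x25961215525559, 0x16424554158565, 0x19490541551965, 0x25448415556165, 0x9550245545115, 0x21851519545855, 0x24544056514515, 0x6845595116455, 0x12514164451515, 0x18815551859455, 0x15655511150046, 0x1595551100565a, 0x16555554212416, 0x19555541469016, 0x25555415584816, 0x15555844405512, 0x1555666655a906, 0x155594a156596a, 0x1556561499656a, 0x1559554a25956a] a) b) 1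

/-- The matrices of the representation. -/
noncomputable def aE (r : ℕ) (i j : Fin 27) : ℤ := pmat 27 12 4095 (getRow colsE6v27 r) i j

/-- The last ten coordinates. -/
def wI (j : Fin 5 ⊕ Fin 5) : Fin 27 := Fin.natAdd 17 (finSumFinEquiv j)

/-- The primes that encode the coordinates. -/
noncomputable def pr27 (i : ℕ) : ℕ := getRow [3, 5, 7, 11, 13, 17, 19, 23, 29, 31, 37, 41, 43, 47, 53, 59, 61, 67, 71, 73, 79, 83, 89, 97, 101, 103, 107] i

/-- Row `i` of `1 + t a_r` as a polynomial. -/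
noncomputable def lf27 (r : ℕ) (i : Fin 27) : SV :=
  (pr27 i, 1) :: (rcol 12 4095 (getRow colsE6v27 (71 - r)) i).map fun p => (Nat.mul 2 (pr27 p.1), p.2)

theorem tsv27 : ∀ a b, tsv L27 a b = if ts27 a b = 0 then [] else [(tp27 a b, ts27 a b)] := by decide +kernel
theorem aE_transpose : ∀ r < 72, ∀ i j, aE r i j = aE (71 - r) j i := by decide +kernel
theorem inv27 : allN 72 (fun r => allZero (pAddN 1 L27 (lf27 r) (pAddN (-1) L27 (fun i => [(pr27 i, 1)]) []))) =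
    true := by decide +kernel
theorem pr27_prime : ∀ i : Fin 27, (pr27 i).Prime := by
  intro i; fin_cases i <;> simp only [pr27, getRow] <;> norm_num
theorem pr27_inj : ∀ i j : Fin 27, pr27 i = pr27 j → i = j := by decide +kernel
theorem pr27_ne : ∀ i : Fin 27, pr27 i ≠ 2 := by decide +kernel

theorem aE_down : ∀ s : Fin 27, 0 < s.val → s.val < 17 → getRow [0, 4, 13, 8, 5, 6, 11, 15, 0, 2, 9, 12, 14, 7, 10, 1, 3] s < 72 ∧ ∃ ε ∈ [(1 : ℤ), -1],
    ∀ i : Fin 27, i.val < 17 → ∀ j, aE (getRow [0, 4, 13, 8, 5, 6, 11, 15, 0, 2, 9, 12, 14, 7, 10, 1, 3] s) i j = if i = s ∧ j = 0 then ε else 0 := by decide +kernel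
theorem aE_up : ∀ s : Fin 27, 0 < s.val → s.val < 17 → getRow [0, 67, 58, 63, 66, 65, 60, 56, 71, 69, 62, 59, 57, 64, 61, 70, 68] s < 72 ∧ ∃ ε ∈ [(1 : ℤ), -1],
    ∀ i j : Fin 27, j.val < 17 ∨ 17 ≤ i.val ∨ i = 0 → aE (getRow [0, 67, 58, 63, 66, 65, 60, 56, 71, 69, 62, 59, 57, 64, 61, 70, 68] s) i j = if i = 0 ∧ j = s then ε else 0 := by
  decide +kernel
theorem aE_w : ∀ w : Fin 27, 17 ≤ w.val → getRow [0, 0, 0, 0, 0, 0, 0, 0, 0, 0, 0, 0, 0, 0, 0, 0, 0, 57, 56, 58, 57, 56, 56, 59, 56, 56, 60] w < 72 ∧ ∃ s : Fin 27, 0 < s.val ∧ s.val < 17 ∧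
    ∃ ε ∈ [(1 : ℤ), -1], ∀ j, aE (getRow [0, 0, 0, 0, 0, 0, 0, 0, 0, 0, 0, 0, 0, 0, 0, 0, 0, 57, 56, 58, 57, 56, 56, 59, 56, 56, 60] w) s j = if j = w then ε else 0 := by decide +kernel
/-- The root acting as the Eichler transformation of two frame vectors. -/
noncomputable def lev27 (a c : Fin 5 ⊕ Fin 5) : ℕ := fld 7 127 (getRow [0x9994e500293a55400, 0x11ac6a019b76094028, 0x89800490263801295, 0xd005e6d731007181d, 0x2d6c91a006299ba9, 0xf2a647c0345c81980, 0x8174400fa43648014, 0x10ab00899365e01aa7, 0xb00565d52d0061619, 0x164240f003445193] (finSumFinEquiv a)) (finSumFinEquiv c)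
theorem aE_levi : ∀ a c : Fin 5 ⊕ Fin 5, c ≠ a → c ≠ a.swap → lev27 a c < 72 ∧ (∀ i, aE (lev27 a c) i 0 = 0) ∧
    IsEichM (Matrix.of fun i j => aE (lev27 a c) (wI i) (wI j)) 0 (gPlus 5) (fun _ => 0) a c := by decide +kernel
theorem aE_ne : aE 67 0 1 = 1 := by decide +kernel
theorem wt27_zero : ∀ k : Fin 6, aE (72 + k) 0 0 = if k = 0 then 1 else 0 := by decide +kernel
/-- Six coordinates whose weights are a basis of the weight lattice. -/
def J27 : Fin 6 → Fin 27 := ![0, 1, 2, 3, 5, 6]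
/-- The inverse of the matrix of their weights. -/
def M27 : Fin 6 → Fin 6 → ℤ := ![![1, 1, 2, 2, 1, 1], ![0, -1, -2, -2, -1, -1], ![0, 1, 1, 2, 2, 1], ![0, 0, 0, 1, 1, 0], ![0, -1, -1, -2, -1, -1], ![0, 0, -1, -1, -1, -1]]
theorem wt27_basis : ∀ l l' : Fin 6, ∑ k : Fin 6, M27 l k * aE (72 + k) (J27 l') (J27 l') = if l = l' then 1 else 0 := by
  decide +kernel
/-- The stage at which a coordinate is determined by the six. -/
noncomputable def rk27 (i : Fin 27) : ℕ := getRow [0, 0, 0, 0, 3, 0, 0, 3, 2, 2, 3, 3, 2, 3, 2, 3, 4, 2, 2, 2, 2, 3, 1, 1, 1, 1, 4] i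
theorem rk27_step : ∀ c, (∃ l, c = J27 l) ∨ ∃ a b, rk27 a < rk27 c ∧ rk27 b < rk27 c ∧ ts27 a b ≠ 0 ∧ tp27 a b = c := by
  decide +kernel

theorem le_wI : ∀ w, 17 ≤ (wI w).val := by decide +kernel
theorem exists_wI : ∀ i : Fin 27, 17 ≤ i.val → ∃ w, i = wI w := by decide +kernel
theorem wI_inj : ∀ w w', wI w = wI w' → w = w' := by decide +kernel
theorem ts27_unit : ∀ a b, ts27 a b ≠ 0 → ts27 a b = 1 ∨ ts27 a b = -1 := by decide +kernel
theorem ts27_zero : ∀ c : Fin 27, c.val < 17 → ts27 0 c = 0 := by decide +kernel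
theorem ts27_wI : ∀ w, ts27 0 (wI w) = 1 ∧ tp27 0 (wI w) = wI w.swap ∧ tp27 (wI w) 0 = wI w.swap ∧
    ts27 (wI w) (wI w.swap) = 1 ∧ tp27 (wI w) (wI w.swap) = 0 := by decide +kernel
theorem le_tp27 : ∀ a b : Fin 27, a.val < 17 → b.val < 17 → ts27 a b ≠ 0 → 17 ≤ (tp27 a b).val := by decide +kernel
theorem sep27 : ∀ s s' : Fin 27, 0 < s.val → s.val < 17 → 0 < s'.val → s'.val < 17 → s' ≠ s →
    ∃ w, w ≠ .inl 4 ∧ w ≠ .inr 4 ∧ ts27 (wI w) s = 0 ∧
      (tp27 s' (wI w)).val < 17 ∧ ts27 (tp27 s' (wI w)) (wI w) ≠ 0 ∧ tp27 (tp27 s' (wI w)) (wI w) = s' := by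
  decide +kernel
theorem pair27 : ∀ w : Fin 27, 17 ≤ w.val → ∃ s s' : Fin 27, s.val < 17 ∧ s'.val < 17 ∧ ts27 s s' ≠ 0 ∧ tp27 s s' = w := by
  decide +kernel
theorem nu27 : ∀ w s' : Fin 27, 17 ≤ w.val → 0 < s'.val → s'.val < 17 → ∃ w' : Fin 27, 17 ≤ w'.val ∧
    (tp27 s' w').val < 17 ∧ ts27 (tp27 s' w') w' ≠ 0 ∧ tp27 (tp27 s' w') w' = s' ∧
      ∀ b : Fin 27, b.val < 17 → ts27 (tp27 s' w') b ≠ 0 → tp27 (tp27 s' w') b ≠ w := by decide +kernel
theorem mu27 : ∀ w : Fin 5 ⊕ Fin 5, ∃ a : Fin 5 ⊕ Fin 5, a ≠ w ∧ a.swap ≠ w := by decide +kernel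
theorem L27_zero : ∀ t ∈ L27, (t.1 ≠ 0 ∧ t.2.1 ≠ 0) ∨ (t.1 ≠ 0 ∧ t.2.2.1 ≠ 0) ∨ (t.2.1 ≠ 0 ∧ t.2.2.1 ≠ 0) := by
  decide +kernel
theorem L27_W : ∀ t ∈ L27, t.1.val < 17 ∨ t.2.1.val < 17 ∨ t.2.2.1.val < 17 := by decide +kernel

/-- The position of a coordinate of `M₃³`. -/
def pos27 : Cfsg.Lie.I27 → Fin 27 := fun x => ![![![0, 1, 2], ![3, 17, 18], ![4, 23, 22]], ![![19, 20, 21], ![5, 6, 7], ![8, 9, 10]], ![![24, 11, 12], ![25, 13, 14], ![26, 15, 16]]] x.1 x.2.1 x.2.2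
/-- Its sign. -/
def sgn27 : Cfsg.Lie.I27 → ℤˣ := fun x => ![![![1, 1, 1], ![1, 1, 1], ![1, -1, 1]], ![![1, 1, 1], ![1, 1, 1], ![1, 1, 1]], ![![-1, 1, 1], ![-1, 1, 1], ![-1, 1, 1]]] x.1 x.2.1 x.2.2
theorem pos27_bij : Function.Bijective pos27 := by decide +kernel

end H65
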