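/- The isometry group of the cubic form in 27 variables is generated by the root elements of type E6. -/
import Cfsg.Agent.H65.E6Data

set_option autoImplicit false
set_option linter.unusedSectionVars false

namespace H65

open H56 H58 QuadraticMap Matrix Cfsg.Lie H63

variable {F : Type*} [Field F]

theorem Rep.exists_tor {D : ChevalleyDatum} [RS D] [Tab D] {ι : Type} [Fintype ι] [DecidableEq ι] (P : Rep D ι)
    (t : Fin D.rank → Fˣ) :
    ∃ h ∈ P.G F, (h : Matrix ι ι F) = diagonal fun j => ((∏ k, t k ^ P.wt k j : Fˣ) : F) := by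
  suffices H : ∀ s : Finset (Fin D.rank),
      ∃ h ∈ P.G F, (h : Matrix ι ι F) = diagonal fun j => ((∏ k ∈ s, t k ^ P.wt k j : Fˣ) : F) from H _
  intro s
  induction s using Finset.induction_on with
  | empty => exact ⟨1, one_mem _, by simp⟩
  | insert k s hk ih =>
    obtain ⟨h, h1, h2⟩ := ih
    refine ⟨_, mul_mem (P.hh_mem (simpleR k) (t k).ne_zero) h1, ?_⟩
    rw [Units.val_mul, P.val_hh _ (t k).ne_zero, h2, diagonal_mul_diagonal]
    congr 1; funext j
    rw [Finset.prod_insert hk]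
    simp [Rep.wr, co_simpleR]

theorem mulVec_single_ne {ι : Type} [Fintype ι] [DecidableEq ι] (g : GL ι F) (j : ι) :
    g.val *ᵥ Pi.single j 1 ≠ 0 := fun h => by
  have := congrArg (g⁻¹).val.mulVec h
  rw [Matrix.mulVec_mulVec, Units.inv_mul, Matrix.one_mulVec, Matrix.mulVec_zero] at this
  simpa using congrFun this j

theorem sgn_ne_zero {ε : ℤ} (h : ε ∈ [(1 : ℤ), -1]) : (ε : F) ≠ 0 := by
  simp only [List.mem_cons, List.not_mem_nil, or_false] at h
  rcases h with rfl | rfl <;> simp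

theorem aE_down' (s : Fin 27) (h1 : 0 < s.val) (h2 : s.val < 17) : ∃ r < 72, ∃ ε ∈ [(1 : ℤ), -1],
    ∀ i : Fin 27, i.val < 17 → ∀ j, aE r i j = if i = s ∧ j = 0 then ε else 0 := ⟨_, aE_down s h1 h2⟩
theorem aE_up' (s : Fin 27) (h1 : 0 < s.val) (h2 : s.val < 17) : ∃ r < 72, ∃ ε ∈ [(1 : ℤ), -1],
    ∀ i j : Fin 27, j.val < 17 ∨ 17 ≤ i.val ∨ i = 0 → aE r i j = if i = 0 ∧ j = s then ε else 0 := ⟨_, aE_up s h1 h2⟩
theorem aE_w' (w : Fin 27) (h : 17 ≤ w.val) : ∃ r < 72, ∃ s : Fin 27, 0 < s.val ∧ s.val < 17 ∧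
    ∃ ε ∈ [(1 : ℤ), -1], ∀ j, aE r s j = if j = w then ε else 0 := ⟨_, aE_w w h⟩

theorem ts27_ne {a b : Fin 27} (h : ts27 a b ≠ 0) : (ts27 a b : F) ≠ 0 := by
  rcases ts27_unit a b h with h | h <;> simp [h]

theorem cT27 (a : Fin 27) (y z : Fin 27 → F) :
    cT L27 (Pi.single a 1) y z = ∑ b, (ts27 a b : F) * (y b * z (tp27 a b)) := cT_single L27 tsv27 a y z

theorem cT27' (a b : Fin 27) (z : Fin 27 → F) :
    cT L27 (Pi.single a 1) (Pi.single b 1) z = ts27 a b * z (tp27 a b) := by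
  rw [cT27, Finset.sum_eq_single b] <;> simp +contextual [Pi.single_apply]

theorem cA27 (y : Fin 27 → F) : cA L27 y (Pi.single 0 1) = qPlus 5 F (y ∘ wI) := by
  have h : ∀ i : Fin 5, wI (.inl i) = ![17, 18, 19, 20, 21] i ∧ wI (.inr i) = ![22, 23, 24, 25, 26] i := by decide
  simp [cA, L27, qPlus_apply, Fin.sum_univ_five, h, add_assoc]

theorem sum27 (f : Fin 27 → F) (h : ∀ j : Fin 27, j.val < 17 → f j = 0) : ∑ j, f j = ∑ w, f (wI w) := by
  symm
  refine Finset.sum_of_injOn wI (fun a _ b _ => wI_inj a b) (fun _ _ => Finset.mem_univ _) (fun j _ hj => ?_)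
    fun _ _ => rfl
  by_contra h1
  obtain ⟨w, rfl⟩ := exists_wI j (by by_contra h2; exact h1 (h j (by omega)))
  exact hj ⟨w, Finset.mem_coe.2 (Finset.mem_univ _), rfl⟩

theorem mulVec_wI {M : Matrix (Fin 27) (Fin 27) F} {v : Fin 27 → F}
    (h : ∀ w, ∀ j : Fin 27, j.val < 17 → M (wI w) j * v j = 0) :
    (M *ᵥ v) ∘ wI = M.submatrix wI wI *ᵥ (v ∘ wI) := funext fun w => sum27 _ (h w)

/-- Extension by zero. -/
noncomputable def incl27 (x : Fin 5 ⊕ Fin 5 → F) : Fin 27 → F := Function.extend wI x 0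

theorem incl27_wI (x : Fin 5 ⊕ Fin 5 → F) : incl27 x ∘ wI = x :=
  funext fun w => Function.Injective.extend_apply wI_inj x 0 w

theorem incl27_lt (x : Fin 5 ⊕ Fin 5 → F) {j : Fin 27} (hj : j.val < 17) : incl27 x j = 0 :=
  Function.extend_apply' _ _ _ fun ⟨w, h⟩ => by have := le_wI w; rw [h] at this; omega

variable [RS chevE6]

theorem A2_27 (r : ℕ) : repE6v27.A2 F r = 0 := by
  ext i j
  have : repE6v27.a2 r i j = fv 27 ℤ (entF (fld 12 4095 0 j)) i := rfl
  rw [Rep.A2_apply, this]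
  simp [fld, entF]

theorem x27_apply {r : ℕ} (hr : r < 72) (t : F) (i j : Fin 27) :
    repE6v27.x F r t i j = (1 : Matrix _ _ F) i j + t * aE r i j := by
  rw [repE6v27.x_eq hr, A2_27, smul_zero, add_zero]; rfl

theorem x27_mulVec {r : ℕ} (hr : r < 72) (t : F) (v : Fin 27 → F) (i : Fin 27) :
    (repE6v27.x F r t *ᵥ v) i = v i + t * ∑ j, (aE r i j : F) * v j := by
  simp [Matrix.mulVec, dotProduct, x27_apply hr, add_mul, Finset.sum_add_distrib, Finset.mul_sum, mul_assoc,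
    Matrix.one_apply]

theorem mul_x27 {r : ℕ} (hr : r < 72) (t : F) (M : Matrix (Fin 27) (Fin 27) F) (i j : Fin 27) :
    (M * repE6v27.x F r t) i j = M i j + t * ∑ l, M i l * (aE r l j : F) := by
  simp [Matrix.mul_apply, x27_apply hr, mul_add, Finset.sum_add_distrib, Finset.mul_sum, mul_left_comm,
    Matrix.one_apply]

omit [RS chevE6] in
theorem sum_fv {d : ℕ} (l : SV) (hl : ∀ p ∈ l, p.1 < d) (v : Fin d → F) (g : ℕ → F)
    (hg : ∀ j : Fin d, g j = v j) : ∑ j, (fv d ℤ l j : F) * v j = (l.map fun p => (p.2 : F) * g p.1).sum := by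
  induction l with
  | nil => simp
  | cons p l ih =>
    have hp := hl p (by simp)
    rw [fv_cons, List.map_cons, List.sum_cons, ← ih fun q hq => hl q (by simp [hq]), fv_single hp, hg ⟨_, hp⟩]
    simp [add_mul, Finset.sum_add_distrib, Pi.single_apply]

theorem x27_mem {r : ℕ} (hr : r < 72) (t : F) : repE6v27.xU F r t ∈ funStab F (cN L27) := by
  intro v
  obtain ⟨ev, hev⟩ := exists_ev fun p => if h : ∃ i : Fin 27, pr27 i = p then v h.choose else t
  have h1 : ∀ i : Fin 27, ev (pr27 i) = v i := fun i => by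
    have h : ∃ j : Fin 27, pr27 j = pr27 i := ⟨i, rfl⟩
    rw [hev _ (pr27_prime i), dif_pos h, pr27_inj _ _ h.choose_spec]
  have h2 : ev 2 = t := by rw [hev _ Nat.prime_two, dif_neg fun ⟨i, h⟩ => pr27_ne i h]
  have h3 := pe_of_allZero ev (allN_iff.1 inv27 r hr)
  have h4 := repRestE6v27
  simp only [repRest, Bool.and_eq_true, allN_iff] at h4
  have h5 : (fun i => pe ev (lf27 r i)) = repE6v27.x F r t *ᵥ v := funext fun i => by
    rw [x27_mulVec hr, lf27, pe_cons, h1]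
    simp only [aE_transpose r hr i]
    rw [show ∑ j, (aE (71 - r) j i : F) * v j = _ from
      sum_fv _ (idxLt_sound (h4.1 (71 - r) (show _ < 78 by omega) i i.2)) v (fun k => ev (pr27 k)) h1,
      ← List.sum_map_mul_left, pe, List.map_map]
    simp [Function.comp_def, h2, mul_left_comm]
  rw [pe_pAddN, pe_pAddN, h5] at h3
  simp only [pe, List.map_cons, List.map_nil, List.sum_cons, List.sum_nil, h1] at h3
  simp only [Units.coeHom_apply, Rep.xU_val]
  simp only [Int.cast_one, one_mul, add_zero, Int.cast_neg, zero_add] at h3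
  linear_combination h3

theorem G27_le : repE6v27.G F ≤ funStab F (cN L27) := repE6v27.G_le fun _ hr t => x27_mem hr t

/-! ### Moving a singular vector to the first basis vector -/

theorem move_s {x : Fin 27 → F} {s : Fin 27} (h1 : 0 < s.val) (h2 : s.val < 17) (hx : x s ≠ 0) :
    ∃ u ∈ repE6v27.G F, (u.val *ᵥ x) 0 ≠ 0 := by
  by_cases h0 : x 0 = 0
  · obtain ⟨r, hr, ε, hε, h⟩ := aE_up' s h1 h2
    refine ⟨_, repE6v27.xU_mem r 1, ?_⟩
    rw [Rep.xU_val, x27_mulVec hr]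
    simpa [h 0 _ (Or.inr (Or.inr rfl)), h0, hx] using sgn_ne_zero hε
  · exact ⟨1, one_mem _, by simpa using h0⟩

theorem move_ne {x : Fin 27 → F} (hx : x ≠ 0) : ∃ u ∈ repE6v27.G F, (u.val *ᵥ x) 0 ≠ 0 := by
  by_cases h : ∃ s : Fin 27, 0 < s.val ∧ s.val < 17 ∧ x s ≠ 0
  · obtain ⟨s, h1, h2, h3⟩ := h
    exact move_s h1 h2 h3
  push Not at h
  obtain ⟨w, hw⟩ := Function.ne_iff.1 hx
  by_cases h0 : w = 0
  · exact ⟨1, one_mem _, by simpa [h0] using hw⟩
  have h1 : 17 ≤ w.val := by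
    by_contra h1
    exact hw (h w (Nat.pos_of_ne_zero fun e => h0 (Fin.ext e)) (by omega))
  obtain ⟨r, hr, s, s1, s2, ε, hε, h2⟩ := aE_w' w h1
  obtain ⟨u, hu, h3⟩ := move_s (x := repE6v27.x F r 1 *ᵥ x) s1 s2 (by
    rw [x27_mulVec hr]
    simpa [h2, h s s1 s2] using ⟨sgn_ne_zero hε, hw⟩)
  exact ⟨_, mul_mem hu (repE6v27.xU_mem r 1), by rwa [Units.val_mul, ← Matrix.mulVec_mulVec]⟩

theorem kill_S {x : Fin 27 → F} (hx : x 0 ≠ 0) (n : ℕ) (hn : n ≤ 17) : ∃ u ∈ repE6v27.G F,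
    (u.val *ᵥ x) 0 = x 0 ∧ ∀ s : Fin 27, 0 < s.val → s.val < n → (u.val *ᵥ x) s = 0 := by
  induction n with
  | zero => exact ⟨1, one_mem _, by simp, fun _ _ h => by omega⟩
  | succ n ih =>
    obtain ⟨u, hu, h1, h2⟩ := ih (by omega)
    by_cases h0 : n = 0
    · exact ⟨u, hu, h1, fun s _ _ => by omega⟩
    obtain ⟨s, rfl⟩ : ∃ s : Fin 27, s.val = n := ⟨⟨n, by omega⟩, rfl⟩
    obtain ⟨r, hr, ε, hε, h⟩ := aE_down' s (Nat.pos_of_ne_zero h0) (by omega)
    have h3 : (0 : Fin 27) ≠ s := fun e => h0 (by rw [← e]; rfl)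
    refine ⟨_, mul_mem (repE6v27.xU_mem r (-(u.val *ᵥ x) s / (ε * x 0))) hu, ?_, ?_⟩
    · rw [Units.val_mul, ← Matrix.mulVec_mulVec, Rep.xU_val, x27_mulVec hr]
      simp [h 0 (by decide), h3, h1]
    · intro s' s1 s2
      rw [Units.val_mul, ← Matrix.mulVec_mulVec, Rep.xU_val, x27_mulVec hr]
      by_cases e : s' = s
      · have := sgn_ne_zero (F := F) hε
        subst e
        simp only [h s' (by omega), true_and, Int.cast_ite, Int.cast_zero, ite_mul, zero_mul,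
          Finset.sum_ite_eq', Finset.mem_univ, if_true, h1]
        field_simp; ring
      · simp [h s' (by omega), e, h2 s' s1 (by rw [Fin.ext_iff] at e; omega)]

omit [RS chevE6] in
theorem eq_of_white {x : Fin 27 → F} (hx : x 0 ≠ 0) (h1 : ∀ s : Fin 27, 0 < s.val → s.val < 17 → x s = 0)
    (h2 : ∀ y, cA L27 x y = 0) : x = x 0 • Pi.single 0 1 := by
  have h3 : ∀ i : Fin 27, i.val < 17 → (x - x 0 • (Pi.single 0 1 : Fin 27 → F)) i = 0 := fun i hi => by
    by_cases e : i = 0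
    · simp [e]
    · simp [e, h1 i (Nat.pos_of_ne_zero fun h => e (Fin.ext h)) hi]
  rw [← sub_eq_zero]
  funext i
  by_cases hi : i.val < 17
  · exact h3 i hi
  obtain ⟨w, rfl⟩ := exists_wI i (by omega)
  have h4 := cA_add L27 (x 0 • Pi.single 0 1) (x - x 0 • Pi.single 0 1) (Pi.single (wI w.swap) 1)
  rw [add_sub_cancel, h2, cA_eq_zero (Z := (· ≠ 0)) L27 L27_zero (fun i hi => by simp [hi]),
    cA_eq_zero' (Z := fun i : Fin 27 => i.val < 17) L27 L27_W h3 (fun i hi => Pi.single_eq_of_ne (by rintro rfl; have := le_wI w.swap; omega) _),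
    cT_smul, cT_swap23, cT27', (ts27_wI _).1, (ts27_wI _).2.1, Sum.swap_swap] at h4
  simpa [hx] using h4

variable [Tab chevE6]

theorem exists_fix0 (hF : ∃ a : F, a ≠ 0 ∧ a ≠ 1) {g : GL (Fin 27) F} (hg : g ∈ funStab F (cN L27)) :
    ∃ u ∈ repE6v27.G F, (u * g).val *ᵥ Pi.single 0 1 = Pi.single 0 1 := by
  obtain ⟨u1, hu1, h1⟩ := move_ne (x := g.val *ᵥ Pi.single 0 1) (mulVec_single_ne g 0)
  obtain ⟨u2, hu2, h2, h3⟩ := kill_S h1 17 le_rfl
  rw [← h2] at h1
  have h4 := eq_of_white h1 h3 fun y => by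
    have := cA_mulVec hF (mul_mem (G27_le hu2) (mul_mem (G27_le hu1) hg)) (Pi.single 0 1)
      (((u2 * (u1 * g))⁻¹).val *ᵥ y)
    rw [Matrix.mulVec_mulVec, Units.mul_inv, Matrix.one_mulVec,
      cA_eq_zero (Z := (· ≠ 0)) L27 L27_zero (x := Pi.single 0 1) fun i hi => by simp [hi]] at this
    simpa only [Units.val_mul, ← Matrix.mulVec_mulVec] using this
  obtain ⟨h, hh, h5⟩ := repE6v27.exists_tor fun _ => (Units.mk0 _ h1)⁻¹
  refine ⟨h * u2 * u1, mul_mem (mul_mem hh hu2) hu1, ?_⟩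
  simp only [Units.val_mul, ← Matrix.mulVec_mulVec]
  have h6 : ∀ c : Fˣ, ∏ k : Fin chevE6.rank, c ^ repE6v27.wt k 0 = c := fun c => by
    refine (Finset.prod_eq_single (M := Fˣ) (ι := Fin 6) 0 (fun k _ hk => ?_)
      fun h => absurd (Finset.mem_univ _) h).trans ?_
    · rw [show repE6v27.wt k 0 = _ from wt27_zero k, if_neg hk, zpow_zero]
    · rw [show repE6v27.wt (0 : Fin 6) 0 = _ from wt27_zero 0]; simp
  rw [h4, h5, Matrix.mulVec_smul, diagonal_mulVec_single, h6, ← Pi.single_smul]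
  simp only [Units.val_inv_eq_inv_val, Units.val_mk0, mul_one, smul_eq_mul, mul_inv_cancel₀ h1]

end H65
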