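/- The isometry group of the cubic form in 27 variables, continued: the stabiliser of the first basis vector. -/
import Cfsg.Agent.H65.E6Gen

set_option autoImplicit false
set_option linter.unusedSectionVars false

namespace H65

open H56 H58 QuadraticMap Matrix Cfsg.Lie H63

variable {F : Type*} [Field F]

theorem mulVec_single_apply {ι : Type} [Fintype ι] [DecidableEq ι] (M : Matrix ι ι F) (i j : ι) :
    (M *ᵥ Pi.single j 1) i = M i j := by rw [Matrix.mulVec_single_one]; rfl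

variable (F) in
/-- The stabiliser of the first basis vector in the isometry group. -/
def H27 : Subgroup (GL (Fin 27) F) where
  carrier := {g | g ∈ funStab F (cN L27) ∧ g.val *ᵥ Pi.single 0 1 = Pi.single 0 1}
  one_mem' := ⟨one_mem _, Matrix.one_mulVec _⟩
  mul_mem' {a b} ha hb := ⟨mul_mem ha.1 hb.1, by rw [Units.val_mul, ← Matrix.mulVec_mulVec, hb.2, ha.2]⟩
  inv_mem' {a} ha := ⟨inv_mem ha.1, by
    conv_lhs => rw [← ha.2, Matrix.mulVec_mulVec, Units.inv_mul, Matrix.one_mulVec]⟩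

variable (hF : ∃ a : F, a ≠ 0 ∧ a ≠ 1)
include hF

theorem cT_mulVec' {g : GL (Fin 27) F} (hg : g ∈ funStab F (cN L27)) (x y z : Fin 27 → F) :
    cT L27 x (g.val *ᵥ y) (g.val *ᵥ z) = cT L27 ((g⁻¹).val *ᵥ x) y z := by
  rw [← cT_mulVec hF hg ((g⁻¹).val *ᵥ x), Matrix.mulVec_mulVec, Units.mul_inv, Matrix.one_mulVec]

theorem H27_block {g : GL (Fin 27) F} (hg : g ∈ H27 F) {i j : Fin 27} (hi : 17 ≤ i.val) (hj : j.val < 17) :
    g.val i j = 0 := by
  obtain ⟨w, rfl⟩ := exists_wI i hi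
  have h := cT_mulVec' hF hg.1 (Pi.single (wI w.swap) 1) (Pi.single 0 1) (Pi.single j 1)
  rw [hg.2, cT_swap12, cT27', (ts27_wI _).1, (ts27_wI _).2.1, Sum.swap_swap, mulVec_single_apply, cT_swap12,
    cT_swap23, cT27', ts27_zero j hj] at h
  simpa using h

theorem H27_mulVec {g : GL (Fin 27) F} (hg : g ∈ H27 F) (v : Fin 27 → F) :
    (g.val *ᵥ v) ∘ wI = g.val.submatrix wI wI *ᵥ (v ∘ wI) :=
  mulVec_wI fun w j hj => by rw [H27_block hF hg (le_wI w) hj, zero_mul]

theorem H27_mul {g h : GL (Fin 27) F} (hg : g ∈ H27 F) (hh : h ∈ H27 F) (x : Fin 5 ⊕ Fin 5 → F) :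
    (g * h).val.submatrix wI wI *ᵥ x = g.val.submatrix wI wI *ᵥ (h.val.submatrix wI wI *ᵥ x) := by
  rw [← incl27_wI x, ← H27_mulVec hF (mul_mem hg hh), ← H27_mulVec hF hh, ← H27_mulVec hF hg, Units.val_mul,
    Matrix.mulVec_mulVec]

/-- The action of the stabiliser on the ten-dimensional quotient. -/
noncomputable def pi27 : H27 F →* O (qPlus 5 F) :=
  MonoidHom.mk' (fun g => O.ofInv (Matrix.toLin' (g.1.val.submatrix wI wI)) (Matrix.toLin' (g.1⁻¹.val.submatrix wI wI))
    (fun x => by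
      rw [Matrix.toLin'_apply, ← incl27_wI x, ← H27_mulVec hF g.2, ← cA27, ← cA27]
      conv_lhs => rw [← g.2.2]
      exact cA_mulVec hF g.2.1 _ _)
    (fun x => by simp only [Matrix.toLin'_apply]; rw [← H27_mul hF g.2 (inv_mem g.2)]; simp [submatrix_one _ wI_inj])
    (fun x => by simp only [Matrix.toLin'_apply]; rw [← H27_mul hF (inv_mem g.2) g.2]; simp [submatrix_one _ wI_inj]))
    fun g h => O.ext fun x => H27_mul hF g.2 h.2 x

theorem pi27_apply (g : H27 F) (x : Fin 5 ⊕ Fin 5 → F) : pi27 hF g x = g.1.val.submatrix wI wI *ᵥ x := rfl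

/-- The columns of the first four hyperbolic pairs are monomial on the quotient. -/
def Mon4 (g : GL (Fin 27) F) : Prop :=
  ∀ w w', w ≠ .inl 4 → w ≠ .inr 4 → w' ≠ w → g.val (wI w') (wI w) = 0

theorem diag17 {g : GL (Fin 27) F} (hg : g ∈ H27 F) (h4 : Mon4 g)
    (h0 : ∀ s : Fin 27, 0 < s.val → s.val < 17 → g.val 0 s = 0) {j : Fin 27} (hj : j.val < 17) :
    ∃ c : F, c ≠ 0 ∧ g.val *ᵥ Pi.single j 1 = c • Pi.single j 1 := by
  suffices H : g.val *ᵥ Pi.single j 1 = g.val j j • Pi.single j 1 from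
    ⟨_, fun e => mulVec_single_ne g j (by rw [H, e, zero_smul]), H⟩
  funext i
  rw [mulVec_single_apply]
  by_cases e : i = j
  · simp [e]
  rw [Pi.smul_apply, Pi.single_eq_of_ne e, smul_zero]
  by_cases e1 : j = 0
  · rw [e1, ← mulVec_single_apply g.val, hg.2, Pi.single_eq_of_ne (e1 ▸ e)]
  have hj0 : 0 < j.val := Nat.pos_of_ne_zero fun h => e1 (Fin.ext h)
  by_cases e2 : i = 0
  · rw [e2, h0 j hj0 hj]
  by_cases hi : 17 ≤ i.val
  · exact H27_block hF hg hi hj
  obtain ⟨w, w1, w2, w3, w4, w5, w6⟩ := sep27 j i hj0 hj (Nat.pos_of_ne_zero fun h => e2 (Fin.ext h)) (by omega) e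
  have h1 : g.val (wI w) (wI w) ≠ 0 := fun h => by
    have h2 := cT_mulVec hF hg.1 (Pi.single 0 1) (Pi.single (wI w) 1) (Pi.single (wI w.swap) 1)
    rw [hg.2, cT27', (ts27_wI _).1, (ts27_wI _).2.1, cT27, sum27 _ fun j hj => by simp [ts27_zero j hj],
      Finset.sum_eq_zero fun w' _ => ?_] at h2
    · simp at h2
    · by_cases e : w' = w
      · simp [e, h]
      · simp [h4 w w' w1 w2 e]
  have h2 := cT_mulVec' hF hg.1 (Pi.single (tp27 i (wI w)) 1) (Pi.single (wI w) 1) (Pi.single j 1)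
  rw [cT_swap12 _ (_ *ᵥ _), cT_swap23 _ (Pi.single (wI w) 1), cT27', w3, cT27,
    Finset.sum_eq_single (wI w) (fun b _ hb => ?_) (by simp), w6] at h2
  · simpa [ts27_ne w5, h1] using h2
  · simp only [mulVec_single_apply]
    by_cases hb1 : b.val < 17
    · by_cases hb2 : ts27 (tp27 i (wI w)) b = 0
      · simp [hb2]
      · rw [H27_block hF hg (le_tp27 _ _ w4 hb1 hb2) hj]; simp
    · obtain ⟨w', rfl⟩ := exists_wI b (by omega)
      rw [h4 w w' w1 w2 fun e => hb (e ▸ rfl)]; simp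

theorem isDiag27 {g : GL (Fin 27) F} (hg : g ∈ funStab F (cN L27))
    (h : ∀ j : Fin 27, j.val < 17 → ∃ c : F, c ≠ 0 ∧ g.val *ᵥ Pi.single j 1 = c • Pi.single j 1) :
    g.val.IsDiag := by
  have h6 : ∀ w w' : Fin 27, 17 ≤ w'.val → (w' ≠ w → g.val w' w = 0) ∧ g.val w' w' ≠ 0 := by
    intro w w' hw'
    obtain ⟨s, s', s1, s2, s3, rfl⟩ := pair27 w' hw'
    obtain ⟨c, c0, hc⟩ := h s s1
    obtain ⟨d, d0, hd⟩ := h s' s2
    have h1 := fun w => cT_mulVec hF hg (Pi.single s 1) (Pi.single s' 1) (Pi.single w 1)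
    have h2 : ∀ z : Fin 27 → F, cT L27 (Pi.single s 1) (d • Pi.single s' 1) z = d * (ts27 s s' * z (tp27 s s')) :=
      fun z => by rw [cT_swap12, cT_smul, cT_swap12, cT27']
    simp only [hc, hd, cT_smul, h2, cT27', mulVec_single_apply] at h1
    refine ⟨fun e => ?_, fun e => ?_⟩
    · simpa [c0, d0, ts27_ne s3, e] using h1 w
    · simpa [e, (ts27_ne s3).symm] using h1 (tp27 s s')
  have h7 : ∀ w i : Fin 27, 17 ≤ w.val → i ≠ 0 → i ≠ w → g.val i w = 0 := by
    intro w i hw i0 e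
    by_cases hi : 17 ≤ i.val
    · exact (h6 w i hi).1 e
    obtain ⟨w', w1, w2, w3, w4, w5⟩ := nu27 w i hw (Nat.pos_of_ne_zero fun h => i0 (Fin.ext h)) (by omega)
    obtain ⟨c, c0, hc⟩ := h _ w2
    have h1 := cT_mulVec hF hg (Pi.single (tp27 i w') 1) (Pi.single w' 1) (Pi.single w 1)
    rw [hc, cT_smul, cT27', w4, cT27, Finset.sum_eq_single w' (fun b _ hb => ?_) (by simp), w4] at h1
    · simpa [c0, ts27_ne w3, (h6 w' w' w1).2, e] using h1
    · simp only [mulVec_single_apply]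
      by_cases hb1 : b.val < 17
      · by_cases hb2 : ts27 (tp27 i w') b = 0
        · simp [hb2]
        · rw [(h6 w _ (le_tp27 _ _ w2 hb1 hb2)).1 (w5 b hb1 hb2)]; simp
      · rw [(h6 w' b (by omega)).1 hb]; simp
  intro i j hij
  by_cases hj : j.val < 17
  · obtain ⟨c, -, hc⟩ := h j hj
    rw [← mulVec_single_apply g.val, hc]; simp [hij]
  by_cases i0 : i = 0
  swap
  · exact h7 j i (by omega) i0 hij
  obtain ⟨w, rfl⟩ := exists_wI j (by omega)
  obtain ⟨a, a1, a2⟩ := mu27 w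
  have n0 : ∀ w, wI w ≠ 0 := fun w e => by have := le_wI w; rw [e] at this; simp at this
  have e1 : wI a ≠ wI w := fun e => a1 (wI_inj _ _ e)
  have e2 : wI a.swap ≠ wI w := fun e => a2 (wI_inj _ _ e)
  have h1 := cT_mulVec hF hg (Pi.single (wI a) 1) (Pi.single (wI a.swap) 1) (Pi.single (wI w) 1)
  rw [cT27', (ts27_wI a).2.2.2.2, cT_eq_sum, Finset.sum_eq_single (wI a) (fun x _ hx => ?_) (by simp), cT27,
    Finset.sum_eq_single (wI a.swap) (fun b _ hb => ?_) (by simp), (ts27_wI a).2.2.2.2, (ts27_wI a).2.2.2.1] at h1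
  · simpa [(h6 0 _ (le_wI a)).2, (h6 0 _ (le_wI a.swap)).2, (n0 w).symm, i0] using h1
  · simp only [mulVec_single_apply]
    by_cases hb0 : b = 0
    · rw [hb0, (ts27_wI a).2.2.1, h7 _ _ (le_wI w) (n0 _) e2]; simp
    · rw [h7 _ b (le_wI _) hb0 hb]; simp
  · by_cases hx0 : x = 0
    · rw [hx0, cT27, Finset.sum_eq_zero fun b _ => ?_, mul_zero]
      simp only [mulVec_single_apply]
      by_cases hb1 : b.val < 17
      · simp [ts27_zero b hb1]
      by_cases hb : b = wI a.swap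
      · rw [hb, (ts27_wI _).2.1, Sum.swap_swap, h7 _ _ (le_wI w) (n0 _) e1]; simp
      · rw [(h6 _ b (by omega)).1 hb]; simp
    · rw [mulVec_single_apply, h7 _ x (le_wI a) hx0 hx, zero_mul]

theorem eq_one_of_isDiag27 {g : GL (Fin 27) F} (hg : g ∈ funStab F (cN L27)) (h : g.val.IsDiag)
    (h1 : ∀ l, g.val (J27 l) (J27 l) = 1) : g = 1 := by
  have h2 : ∀ j, g.val *ᵥ Pi.single j 1 = g.val j j • Pi.single j 1 := fun j => by
    conv_lhs => rw [← h.diagonal_diag, diagonal_mulVec_single, mul_one]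
    rw [← Pi.single_smul]; simp
  have h3 : ∀ n, ∀ c, rk27 c = n → g.val c c = 1 := by
    intro n
    induction n using Nat.strong_induction_on with
    | _ n ih =>
      rintro c rfl
      rcases rk27_step c with ⟨l, rfl⟩ | ⟨a, b, ha, hb, hab, rfl⟩
      · exact h1 l
      · have := cT_mulVec hF hg (Pi.single a 1) (Pi.single b 1) (Pi.single (tp27 a b) 1)
        rw [h2 a, h2 b, ih _ ha a rfl, ih _ hb b rfl, one_smul, one_smul, cT27', cT27', mulVec_single_apply] at this
        simpa [ts27_ne hab] using this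
  apply Units.ext
  rw [← h.diagonal_diag, Units.val_one, ← diagonal_one]
  exact congrArg _ (funext fun j => h3 _ j rfl)

variable [RS chevE6] [Tab chevE6]

theorem mem_of_isDiag27 {g : GL (Fin 27) F} (hg : g ∈ funStab F (cN L27)) (h : g.val.IsDiag) :
    g ∈ repE6v27.G F := by
  have h0 : ∀ j, g.val j j ≠ 0 := fun j e => mulVec_single_ne g j (funext fun i => by
    rw [mulVec_single_apply]
    by_cases e' : i = j
    · rw [e', e]; rfl
    · exact h e')
  obtain ⟨k, hk, h1⟩ := repE6v27.exists_tor (F := F) fun k : Fin 6 => ∏ l, (Units.mk0 _ (h0 (J27 l)))⁻¹ ^ M27 l k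
  have h2 : (k * g).val = diagonal fun j => k.val j j * g.val j j := by
    rw [Units.val_mul, ← diagonal_mul_diagonal]
    congr 1
    · rw [h1]; simp
    · exact h.diagonal_diag.symm
  have h3 := eq_one_of_isDiag27 hF (mul_mem (G27_le hk) hg) (h2 ▸ isDiag_diagonal _) fun l => by
    have h4 : ∏ k : Fin 6, (∏ l, (Units.mk0 _ (h0 (J27 l)))⁻¹ ^ M27 l k) ^ repE6v27.wt k (J27 l) =
        (Units.mk0 _ (h0 (J27 l)))⁻¹ := by
      simp only [← Finset.prod_zpow, ← _root_.zpow_mul]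
      rw [Finset.prod_comm]
      simp only [← H64.zpow_finset_sum]
      rw [Finset.prod_eq_single l (fun l' _ hl => ?_) (by simp)]
      · rw [show ∑ k, M27 l k * repE6v27.wt (k : Fin 6) (J27 l) = _ from wt27_basis l l]; simp
      · rw [show ∑ k, M27 l' k * repE6v27.wt (k : Fin 6) (J27 l) = _ from wt27_basis l' l]; simp [hl]
    rw [h2, diagonal_apply_eq, h1, diagonal_apply_eq]
    erw [h4]
    simp [h0]
  rw [eq_inv_of_mul_eq_one_right h3]
  exact inv_mem hk

omit [Tab chevE6] in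
theorem exists_mon4 {g : GL (Fin 27) F} (hg : g ∈ H27 F) : ∃ u ∈ repE6v27.G F, u * g ∈ H27 F ∧ Mon4 (u * g) := by
  have h1 : EG (qPlus 5 F) ≤ ((repE6v27.G F).subgroupOf (H27 F)).map (pi27 hF) := by
    refine (framePlus F 5).EG_le (fun a c c1 c2 t => ?_) fun a v hv => ?_
    · obtain ⟨hr, h2, ε, hε, h3⟩ := aE_levi a c c1 c2
      refine ⟨⟨repE6v27.xU F (lev27 a c) (ε * t), x27_mem hr _, ?_⟩, repE6v27.xU_mem _ _, O.ext fun x => ?_⟩
      · funext i
        rw [mulVec_single_apply, Rep.xU_val, x27_apply hr, h2]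
        simp [Matrix.one_apply, Pi.single_apply]
      · rw [pi27_apply]
        refine Eq.trans ?_ (eA_mulVec (q := fun _ => 0) polar_qPlus_gPlus (fun i => by simp [qPlus_single])
          (qPlus_single a) (if_neg c2) t x)
        congr 1
        ext i j
        have h4 : (ε : F) * ε = 1 := by
          simp only [List.mem_cons, List.not_mem_nil, or_false] at hε
          rcases hε with rfl | rfl <;> simp
        have h5 : aE (lev27 a c) (wI i) (wI j) = ε * eA (gPlus 5) a c i j := (h3 i j).1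
        have h6 : wI i = wI j ↔ i = j := ⟨wI_inj i j, fun e => e ▸ rfl⟩
        simp only [Matrix.submatrix_apply, Rep.xU_val, x27_apply hr, h5, Matrix.add_apply, Matrix.smul_apply,
          Matrix.map_apply, ← (h3 i j).2, Matrix.one_apply, h6, eq_intCast, smul_eq_mul, Int.cast_mul]
        simp only [Matrix.zero_apply, Int.cast_zero]
        linear_combination (t * eA (gPlus 5) a c i j) * h4
    · rw [show v = 0 from funext fun i => by simpa [framePlus, polar_qPlus_single] using hv i.swap, eich_zero]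
      exact one_mem _
  obtain ⟨m, hm, h2⟩ := (framePlus F 5).exists_fix (Finset.univ.filter fun w => w ≠ .inl 4 ∧ w ≠ .inr 4)
    (w := Pi.single (.inl 4) 1 + Pi.single (.inr 4) 1) (by simp [qPlus_apply, Fin.sum_univ_five])
    (fun a ha => by
      simp only [Finset.mem_filter] at ha
      rcases a with a | a <;> simp_all [framePlus, polar_qPlus_single]) (pi27 hF ⟨g, hg⟩)
  obtain ⟨u, hu, rfl⟩ := h1 hm
  refine ⟨u, hu, mul_mem u.2 hg, fun w w' w1 w2 e => ?_⟩
  obtain ⟨c, hc⟩ := (h2 w (by simp [w1, w2])).1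
  rw [← map_mul, pi27_apply] at hc
  simpa [framePlus, e] using congrFun hc w'

omit [Tab chevE6] in
theorem kill_row {g : GL (Fin 27) F} (hg : g ∈ H27 F) (h4 : Mon4 g) (n : ℕ) (hn : n ≤ 17) :
    ∃ u ∈ repE6v27.G F, g * u ∈ H27 F ∧ Mon4 (g * u) ∧ ∀ s : Fin 27, 0 < s.val → s.val < n → (g * u).val 0 s = 0 := by
  induction n with
  | zero => exact ⟨1, one_mem _, by simpa using hg, by simpa using h4, fun _ _ h => by omega⟩
  | succ n ih =>
    obtain ⟨u, hu, h1, h2, h3⟩ := ih (by omega)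
    by_cases h0 : n = 0
    · exact ⟨u, hu, h1, h2, fun s _ _ => by omega⟩
    obtain ⟨s, rfl⟩ : ∃ s : Fin 27, s.val = n := ⟨⟨n, by omega⟩, rfl⟩
    obtain ⟨r, hr, ε, hε, h⟩ := aE_up' s (Nat.pos_of_ne_zero h0) (by omega)
    have h5 : (0 : Fin 27) ≠ s := fun e => h0 (by rw [← e]; rfl)
    have h6 : (g * u).val 0 0 = 1 := by rw [← mulVec_single_apply (g * u).val, h1.2]; simp
    refine ⟨u * repE6v27.xU F r (-(g * u).val 0 s / ε), mul_mem hu (repE6v27.xU_mem _ _), ?_, ?_, ?_⟩ <;>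
      rw [← mul_assoc]
    · refine mul_mem h1 ⟨x27_mem hr _, funext fun i => ?_⟩
      rw [mulVec_single_apply, Rep.xU_val, x27_apply hr, h i 0 (Or.inl (by decide))]
      simp [Matrix.one_apply, Pi.single_apply, h5]
    · intro w w' w1 w2 e
      rw [Units.val_mul, Rep.xU_val, mul_x27 hr, h2 w w' w1 w2 e, Finset.sum_eq_zero fun l _ => ?_]
      · simp
      · by_cases hl : l.val < 17
        · rw [H27_block hF h1 (le_wI w') hl, zero_mul]
        · rw [h l _ (Or.inr (Or.inl (by omega))), if_neg (by rintro ⟨rfl, -⟩; simp at hl)]; simp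
    · intro s' s1 s2
      rw [Units.val_mul, Rep.xU_val, mul_x27 hr]
      simp only [h _ s' (Or.inl (by omega))]
      by_cases e : s' = s
      · have := sgn_ne_zero (F := F) hε
        simp only [e, and_true, Int.cast_ite, Int.cast_zero, mul_ite, mul_zero, Finset.sum_ite_eq',
          Finset.mem_univ, if_true, h6]
        field_simp; ring
      · simp [e, -Units.val_mul, h3 s' s1 (by rw [Fin.ext_iff] at e; omega)]

/-- The isometry group of the cubic form is generated by the root elements. -/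
theorem G27_eq : repE6v27.G F = funStab F (cN L27) := by
  refine le_antisymm G27_le fun g hg => ?_
  obtain ⟨u1, hu1, h1⟩ := exists_fix0 hF hg
  obtain ⟨u2, hu2, h2, h3⟩ := exists_mon4 hF (g := u1 * g) ⟨mul_mem (G27_le hu1) hg, h1⟩
  obtain ⟨u3, hu3, h4, h5, h6⟩ := kill_row hF h2 h3 17 le_rfl
  have h7 := mem_of_isDiag27 hF h4.1 (isDiag27 hF h4.1 fun j hj => diag17 hF h4 h5 h6 hj)
  exact (mul_mem_cancel_left hu1).1 ((mul_mem_cancel_left hu2).1 ((mul_mem_cancel_right hu3).1 h7))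

omit hF [RS chevE6] [Tab chevE6] in
theorem E6univ_equiv : Nonempty (funStab F (cN L27) ≃* E6univ F) := by
  refine funStab_equiv ((LinearEquiv.funCongrLeft F F (Equiv.ofBijective pos27 pos27_bij)).trans
    (LinearEquiv.piCongrRight fun x => LinearEquiv.smulOfUnit (Units.map (Int.castRingHom F).toMonoidHom (sgn27 x))))
    fun v => ?_
  simp [cubicT, mat3, Matrix.det_fin_three, Matrix.trace, Matrix.mul_apply, Fin.sum_univ_three, cN, L27, pos27, sgn27,
    LinearEquiv.smulOfUnit]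
  ring

end H65
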