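import Cfsg.Agent.H81.Fam
import Cfsg.Agent.H65.EA6G
import Cfsg.Agent.H65.EA6L
set_option maxRecDepth 1000000
set_option Elab.async false
namespace H65.EA6C
open H71 H81
noncomputable def CM : ℕ := 15 * geo 64 4
noncomputable def RM : ℕ := 15 * geo 16 4
noncomputable def E : ℕ := geo 64 4 * geo 16 4
noncomputable def M1 : ℕ := 127 * E
noncomputable def M2 : ℕ := 1 * E
noncomputable def MB : ℕ := 15 * E
noncomputable def one : ℕ := geo 80 4
noncomputable def C : CdA (Matrix (Fin 4) (Fin 4) (ZMod 11)) :=
  cdaP 4 11 15 46 9 21 2979 15 CM RM M1 M2 one MB (by decide +kernel) (by decide +kernel)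
noncomputable def m1 : ℕ := 0x2000500050003000900060005000200030006000600090009000600050009
noncomputable def m1i : ℕ := 0x90006000900050002000600030006000a0003000000070000000300000008
noncomputable def m0 : ℕ := 0x6000500080002000300040000000a00040008000000000005000600020003
noncomputable def m0i : ℕ := 0x6000600030009000800080000000100070003000100000006000500090009
noncomputable def y : ℕ := 0xa0000000000000000000a0000000000000000000a0000000000000000000a
noncomputable def z : ℕ := one
noncomputable def tab : List ℕ := [m1, m1i, m0, m0i, y, z]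
noncomputable def Ps : List ℕ := [0x200021001d000d001100240003002300260015001e000a0004000500120009001b002500160017000200100001000b001c0018000700220000001a00130014000c001f000f00080006000e00270019, 0, 0x24001400200012001e001100160013001c0002001d0003002100100022000d0017001b002600150025002700190004000a0009000c0018000b000700060000000f000e0008001a001f002300010005]
noncomputable def π (l x : ℕ) : ℕ := Nat.land (Nat.shiftRight (nthD Ps 0 l) (Nat.shiftLeft x 4)) 65535
noncomputable def Z : List ℕ := [one]
noncomputable def sprd (x : ℕ) (L : List (ℕ × ℕ)) : ℕ :=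
  List.rec (motive := fun _ => ℕ) x (fun q _ y => Nat.lor (Nat.xor y (Nat.land y q.1)) (Nat.shiftLeft (Nat.land y q.1) q.2)) L
noncomputable def sa0 : ℕ := (2 ^ 4 - 1) * 2 ^ 4 * geo 32 8
noncomputable def sa1 : ℕ := (2 ^ 8 - 1) * 2 ^ 8 * geo 64 4
noncomputable def sa2 : ℕ := (2 ^ 16 - 1) * 2 ^ 16 * geo 128 2
noncomputable def sa3 : ℕ := (2 ^ 32 - 1) * 2 ^ 32 * geo 256 1
noncomputable def sa : List (ℕ × ℕ) := [(sa0, 12), (sa1, 24), (sa2, 48), (sa3, 96)]
noncomputable def t0 : ℕ := 0x554a334566478876
noncomputable def t1 : ℕ := 0x6599831865994760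
noncomputable def t2 : ℕ := 0x775833a26692669
noncomputable def t3 : ℕ := 0x4575736373637515
noncomputable def t4 : ℕ := 0x34007860797086a0
noncomputable def t5 : ℕ := 0x7446033a81178117
noncomputable def t6 : ℕ := 0x3783497484383783
noncomputable def t7 : ℕ := 0x3483794787383483
noncomputable def t8 : ℕ := 0x59136a1325951495
noncomputable def t9 : ℕ := 0x930944068801a405
noncomputable def t10 : ℕ := 0x72045807a5030403
noncomputable def t11 : ℕ := 0x882251a39a980000
noncomputable def t12 : ℕ := 0x3400340164a0720
noncomputable def t13 : ℕ := 0x7a783438343a020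
noncomputable def t14 : ℕ := 0x96684276a334a064
noncomputable def t15 : ℕ := 0x54a23a5a82516629
noncomputable def t16 : ℕ := 0x3888432294aa4322
noncomputable def t17 : ℕ := 0x631084507300277
noncomputable def t18 : ℕ := 0x4833738820011740
noncomputable def t19 : ℕ := 0x9695a33864072526
noncomputable def t20 : ℕ := 0x313045407510329
noncomputable def t21 : ℕ := 0xa7a2939428273833
noncomputable def t22 : ℕ := 0x6834538716544564
noncomputable def t23 : ℕ := 0x1a7383101a737457
noncomputable def t24 : ℕ := 0x60710000a06740a6
noncomputable def t25 : ℕ := 0x709030708041514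
noncomputable def t26 : ℕ := 0x713aa30857744a81
noncomputable def t27 : ℕ := 0x40156274359678a3
noncomputable def t28 : ℕ := 0x60a40000706a1076
noncomputable def t29 : ℕ := 0x3a4810a068420000
noncomputable def t30 : ℕ := 0x193337440a8884
noncomputable def t31 : ℕ := 0x237923793338179a
noncomputable def t32 : ℕ := 0x541064702890a380
noncomputable def t33 : ℕ := 0xa131349364
noncomputable def t34 : ℕ := 0x9182118500009898
noncomputable def t35 : ℕ := 0x3841425460415639
noncomputable def t36 : ℕ := 0x316193823199
noncomputable def t37 : ℕ := 0x45aa730024007300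
noncomputable def t38 : ℕ := 0x4325100100007a33
noncomputable def t39 : ℕ := 0x9659aa86975aa985
noncomputable def TT : Tr := (.node (.node (.node (.node (.node (.node (.leaf t0) (.leaf t32)) (.leaf t16)) (.node (.leaf t8) (.leaf t24))) (.node (.node (.node (.leaf t4) (.leaf t36)) (.leaf t20)) (.node (.leaf t12) (.leaf t28)))) (.node (.node (.node (.node (.leaf t2) (.leaf t34)) (.leaf t18)) (.node (.leaf t10) (.leaf t26))) (.node (.node (.node (.leaf t6) (.leaf t38)) (.leaf t22)) (.node (.leaf t14) (.leaf t30))))) (.node (.node (.node (.node (.node (.leaf t1) (.leaf t33)) (.leaf t17)) (.node (.leaf t9) (.leaf t25))) (.node (.node (.node (.leaf t5) (.leaf t37)) (.leaf t21)) (.node (.leaf t13) (.leaf t29)))) (.node (.node (.node (.node (.leaf t3) (.leaf t35)) (.leaf t19)) (.node (.leaf t11) (.leaf t27))) (.node (.node (.node (.leaf t7) (.leaf t39)) (.leaf t23)) (.node (.leaf t15) (.leaf t31))))))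
noncomputable def T (x : ℕ) : ℕ := sprd (TT.get x) sa
noncomputable def u0 : ℕ := 0x808110081
noncomputable def u1 : ℕ := 0x810201102
noncomputable def u2 : ℕ := 0x802404201
noncomputable def u3 : ℕ := 0x802204050
noncomputable def u4 : ℕ := 0x4012040a0
noncomputable def u5 : ℕ := 0x808084401
noncomputable def u6 : ℕ := 0x50804088
noncomputable def u7 : ℕ := 0x2100440a0
noncomputable def u8 : ℕ := 0x808044090
noncomputable def u9 : ℕ := 0x90804201
noncomputable def u10 : ℕ := 0x210084801
noncomputable def u11 : ℕ := 0x408804081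
noncomputable def u12 : ℕ := 0x804201090
noncomputable def u13 : ℕ := 0x801204402
noncomputable def u14 : ℕ := 0x110808081
noncomputable def u15 : ℕ := 0x210120081
noncomputable def u16 : ℕ := 0x402204801
noncomputable def u17 : ℕ := 0x810048084
noncomputable def u18 : ℕ := 0x110202801
noncomputable def u19 : ℕ := 0x120210081
noncomputable def u20 : ℕ := 0x810101088
noncomputable def u21 : ℕ := 0x810088101
noncomputable def u22 : ℕ := 0x90220101
noncomputable def u23 : ℕ := 0x810202044
noncomputable def u24 : ℕ := 0x802210101
noncomputable def u25 : ℕ := 0x810102201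
noncomputable def u26 : ℕ := 0x404220081
noncomputable def u27 : ℕ := 0x50204802
noncomputable def u28 : ℕ := 0x804202401
noncomputable def u29 : ℕ := 0x220404081
noncomputable def u30 : ℕ := 0x804408081
noncomputable def u31 : ℕ := 0x801210084
noncomputable def u32 : ℕ := 0x60204090
noncomputable def u33 : ℕ := 0x1102010a0
noncomputable def u34 : ℕ := 0x810084048
noncomputable def u35 : ℕ := 0x801404088
noncomputable def u36 : ℕ := 0x50220084
noncomputable def u37 : ℕ := 0xa0204401
noncomputable def u38 : ℕ := 0x810044202
noncomputable def u39 : ℕ := 0x90204060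
noncomputable def UU : Tr := (.node (.node (.node (.node (.node (.node (.leaf u0) (.leaf u32)) (.leaf u16)) (.node (.leaf u8) (.leaf u24))) (.node (.node (.node (.leaf u4) (.leaf u36)) (.leaf u20)) (.node (.leaf u12) (.leaf u28)))) (.node (.node (.node (.node (.leaf u2) (.leaf u34)) (.leaf u18)) (.node (.leaf u10) (.leaf u26))) (.node (.node (.node (.leaf u6) (.leaf u38)) (.leaf u22)) (.node (.leaf u14) (.leaf u30))))) (.node (.node (.node (.node (.node (.leaf u1) (.leaf u33)) (.leaf u17)) (.node (.leaf u9) (.leaf u25))) (.node (.node (.node (.leaf u5) (.leaf u37)) (.leaf u21)) (.node (.leaf u13) (.leaf u29)))) (.node (.node (.node (.node (.leaf u3) (.leaf u35)) (.leaf u19)) (.node (.leaf u11) (.leaf u27))) (.node (.node (.node (.leaf u7) (.leaf u39)) (.leaf u23)) (.node (.leaf u15) (.leaf u31))))))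
noncomputable def hs : Lv := ⟨0, [], [], 0x1a000e00250012000000010000000c000e00020004000a00000000000300030005, 637836841, 19, 40⟩
noncomputable def L0 : List ℕ := [EA6G.a1, EA6G.a1i, EA6G.a0, EA6G.a0i]
theorem g0 : famChk (AltM.C6).mul (nthD L0 (AltM.C6).one) UU.get π [0,2] 40 0 40 = true := by decide +kernel
theorem f0 : famChk C.mul (nthD tab C.one) T π [0,2] 40 0 40 = true := by decide +kernel
noncomputable def X : ℕ := 0x4000900040000000a0009000a00000009000800050000000000000000
noncomputable def Bi : ℕ := 0x7000200030001000a00080007000600070005000900050003000500070008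
theorem nor : norChk C.mul C.add C.one T 40 Z [(0, 21, 0), (0, 20, 0), (0, 6, 0), (0, 29, 0), (1, 0, 2), (2, 0, 1), (1, 0, 0), (2, 0, 4)] 0x9000500030003 X
  [(0x5000000000000000000000000000000000000000000000000, 0)] (fun i => Nat.shiftLeft 1 (Nat.mul 64 i))
  [(0, 7), (1, 5), (2, 4)] Bi = true := by decide +kernel
theorem act : ActOn (alternatingGroup (Fin 6)) [0,2] π 40 :=
  actOn_of_conj (MonoidHom.id _) (AltM.can6) (L := L0) (S := [0,2]) EA6G.good0 (MV.gen_id EA6L.gen) (MV.hk1 _) ((Cov.zero _).step g0) (h := hs.hsh) (by decide +kernel)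
noncomputable def d1 : ℕ := 0x600050001000500050001000600050001000600050005000500050005000a
noncomputable def d2 : ℕ := one
theorem base : baseChk C.mul C.one C.ent tab 4 4 2 1 [0,0,0,0] [0] = true := by decide +kernel
theorem main : HasU (alternatingGroup (Fin 6)) (Multiplicative (ZMod 2 × ZMod 1)) :=
  haveI := AltM.simple6
  haveI : Finite (alternatingGroup (Fin 6)) := Nat.finite_of_card_ne_zero (by rw [AltM.card6]; norm_num)
  hasU_of_fam C act base ((Cov.zero _).step f0) (by decide +kernel) nor
    (x := [2]) (y := [0]) (x' := []) (y' := []) (d := d1) (m := 2) (d' := d2) (m' := 0)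
    (by decide) (by decide +kernel) (by decide +kernel)
end H65.EA6C
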