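import Cfsg.Agent.H81.Fam
import Cfsg.Agent.H65.EA6G
import Cfsg.Agent.H65.EA6L
set_option maxRecDepth 1000000
set_option Elab.async false
namespace H65.EA6D
open H71 H81
noncomputable def CM : ℕ := 7 * geo 96 6
noncomputable def RM : ℕ := 7 * geo 16 6
noncomputable def E : ℕ := geo 96 6 * geo 16 6
noncomputable def M1 : ℕ := 63 * E
noncomputable def M2 : ℕ := 1 * E
noncomputable def MB : ℕ := 7 * E
noncomputable def one : ℕ := geo 112 6
noncomputable def C : CdA (Matrix (Fin 6) (Fin 6) (ZMod 7)) :=
  cdaP 6 7 7 146 10 7 4682 15 CM RM M1 M2 one MB (by decide +kernel) (by decide +kernel)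
noncomputable def m1 : ℕ := 0x100000003000400010002000500020002000600030005000400000001000100030003000300000005000100060002000600000000000300040002000200000001000300060000
noncomputable def m1i : ℕ := 0x300000000000600050003000000040004000000050002000000000003000500010001000100000000000400020005000200000003000100030000000300000001000200010001
noncomputable def m0 : ℕ := 0x100030001000000060002000000010003000000050004000000050003000100060005000000060006000000060003000000030004000000060003000000010006000000060003
noncomputable def m0i : ℕ := 0x100030000000100050001000000000000000300000004000000000000000300030001000000010001000600010004000000020000000400020003000000030000000600040005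
noncomputable def y : ℕ := 0x200000000000000000000000000020000000000000000000000000002000000000000000000000000000200000000000000000000000000020000000000000000000000000002
noncomputable def z : ℕ := one
noncomputable def tab : List ℕ := [m1, m1i, m0, m0i, y, z]
noncomputable def Ps : List ℕ := [0x50000000700080003000c0002000a0004000b000d0009000e00060001, 0, 0xc000d00010005000800090006000b000a0007000200030000000e0004]
noncomputable def π (l x : ℕ) : ℕ := Nat.land (Nat.shiftRight (nthD Ps 0 l) (Nat.shiftLeft x 4)) 65535
noncomputable def Z : List ℕ := [one]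
noncomputable def sprd (x : ℕ) (L : List (ℕ × ℕ)) : ℕ :=
  List.rec (motive := fun _ => ℕ) x (fun q _ y => Nat.lor (Nat.xor y (Nat.land y q.1)) (Nat.shiftLeft (Nat.land y q.1) q.2)) L
noncomputable def sa0 : ℕ := (2 ^ 3 - 1) * 2 ^ 3 * geo 32 3
noncomputable def sa1 : ℕ := (2 ^ 6 - 1) * 2 ^ 6 * geo 64 2
noncomputable def sa2 : ℕ := (2 ^ 12 - 1) * 2 ^ 12 * geo 128 1
noncomputable def sa : List (ℕ × ℕ) := [(sa0, 13), (sa1, 26), (sa2, 52)]
noncomputable def sb0 : ℕ := (2 ^ 16 - 1) * 2 ^ 16 * geo 192 3
noncomputable def sb1 : ℕ := (2 ^ 32 - 1) * 2 ^ 32 * geo 384 2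
noncomputable def sb2 : ℕ := (2 ^ 64 - 1) * 2 ^ 64 * geo 768 1
noncomputable def sb : List (ℕ × ℕ) := [(sb0, 80), (sb1, 160), (sb2, 320)]
noncomputable def lo : ℕ := 2 ^ 18 - 1
noncomputable def t0 : ℕ := 0xaedb51240
noncomputable def t1 : ℕ := 0x451cc1040
noncomputable def t2 : ℕ := 0xa19520401
noncomputable def t3 : ℕ := 0x118652001
noncomputable def t4 : ℕ := 0x80a121
noncomputable def t5 : ℕ := 0xa90d20408
noncomputable def t6 : ℕ := 0x96b4e1008
noncomputable def t7 : ℕ := 0xd13092040
noncomputable def t8 : ℕ := 0x2008051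
noncomputable def t9 : ℕ := 0x3a9202440
noncomputable def t10 : ℕ := 0x20022801
noncomputable def t11 : ℕ := 0x4e4b50001
noncomputable def t12 : ℕ := 0x81289
noncomputable def t13 : ℕ := 0x6d4c81008
noncomputable def t14 : ℕ := 0x52b6c0808
noncomputable def TT : Tr := (.node (.node (.node (.node (.leaf t0) (.leaf t8)) (.node (.leaf t4) (.leaf t12))) (.node (.node (.leaf t2) (.leaf t10)) (.node (.leaf t6) (.leaf t14)))) (.node (.node (.node (.leaf t1) (.leaf t9)) (.node (.leaf t5) (.leaf t13))) (.node (.node (.leaf t3) (.leaf t11)) (.leaf t7))))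
noncomputable def T (x : ℕ) : ℕ := red 7 4682 15 M2 (red 7 146 10 M1 (accP 6 CM RM (sprd (sprd (Nat.shiftRight (TT.get x) 18) sa) sb) (sprd (Nat.land (TT.get x) lo) sa) 1))
noncomputable def u0 : ℕ := 0x14
noncomputable def u1 : ℕ := 0xa
noncomputable def u2 : ℕ := 0x11
noncomputable def u3 : ℕ := 0x30
noncomputable def u4 : ℕ := 0x12
noncomputable def u5 : ℕ := 0x5
noncomputable def u6 : ℕ := 0x24
noncomputable def u7 : ℕ := 0x6
noncomputable def u8 : ℕ := 0x21
noncomputable def u9 : ℕ := 0x18
noncomputable def u10 : ℕ := 0x22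
noncomputable def u11 : ℕ := 0x3
noncomputable def u12 : ℕ := 0xc
noncomputable def u13 : ℕ := 0x28
noncomputable def u14 : ℕ := 0x9
noncomputable def UU : Tr := (.node (.node (.node (.node (.leaf u0) (.leaf u8)) (.node (.leaf u4) (.leaf u12))) (.node (.node (.leaf u2) (.leaf u10)) (.node (.leaf u6) (.leaf u14)))) (.node (.node (.node (.leaf u1) (.leaf u9)) (.node (.leaf u5) (.leaf u13))) (.node (.node (.leaf u3) (.leaf u11)) (.leaf u7))))
noncomputable def hs : Lv := ⟨0, [], [], 0x60005000a00000001000000030008000000000000, 855692909, 12, 15⟩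
noncomputable def L0 : List ℕ := [EA6G.a1, EA6G.a1i, EA6G.a0, EA6G.a0i]
theorem g0 : ptsChk (AltM.C6).mul (AltM.C6).one (nthD L0 (AltM.C6).one) UU.get hs.hsh π [0,2] 15 0 15 = true := by decide +kernel
theorem f0 : famChk C.mul (nthD tab C.one) T π [0,2] 15 0 15 = true := by decide +kernel
noncomputable def X : ℕ := 0x10002000600020003000000000002000200000000000000040006000100000000000000030001000100000000000000030001000200000002000000000000000000000000
noncomputable def Bi : ℕ := 0x500000005000000040004000300000006000400010000000500000004000500040000000400000001000300040000000500000000000300040005000200060001000500050000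
theorem nor : norChk C.mul C.add C.one T 15 Z [(0, 9, 0), (0, 1, 0), (0, 5, 0), (0, 6, 0), (0, 8, 0), (0, 1, 0), (0, 5, 0), (0, 9, 0), (0, 6, 0), (0, 12, 0), (1, 0, 3), (2, 1, 10), (1, 1, 7), (2, 1, 4), (1, 0, 12), (2, 1, 10), (1, 0, 2), (2, 1, 5), (1, 0, 4), (2, 1, 12)] 0x100010006000000050000 X
  [(0x1000000000000000000000000000000000000000000000000000000000000000000000000000000000000000000000000000000000000000000000000, 0)] (fun i => Nat.shiftLeft 1 (Nat.mul 96 i))
  [(0, 18), (0, 17), (1, 16), (2, 15), (2, 19)] Bi = true := by decide +kernel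
theorem act : ActOn (alternatingGroup (Fin 6)) [0,2] π 15 :=
  actOn_of_rows (AltM.can6) (L := L0) (S := [0,2]) EA6G.good0 (EA6L.gen) ((Cov.zero _).step g0)
noncomputable def d1 : ℕ := 0x40001000600050001000400000003000600030005000000000003000400050002000000000006000100050002000000000004000500050006000000000006000400050006
noncomputable def d2 : ℕ := one
theorem base : baseChk C.mul C.one C.ent tab 4 4 3 1 [0,0,0,0] [0] = true := by decide +kernel
theorem main : HasU (alternatingGroup (Fin 6)) (Multiplicative (ZMod 3 × ZMod 1)) :=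
  haveI := AltM.simple6
  haveI : Finite (alternatingGroup (Fin 6)) := Nat.finite_of_card_ne_zero (by rw [AltM.card6]; norm_num)
  hasU_of_fam C act base ((Cov.zero _).step f0) (by decide +kernel) nor
    (x := [2]) (y := [0]) (x' := []) (y' := []) (d := d1) (m := 2) (d' := d2) (m' := 0)
    (by decide) (by decide +kernel) (by decide +kernel)
end H65.EA6D
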