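import Cfsg.Agent.H65.EA6G
set_option maxRecDepth 1000000
set_option Elab.async false
namespace H65.EA6P2
open H71 H81
noncomputable def g1 : ℕ := 0x90108801
noncomputable def g1i : ℕ := g1
noncomputable def L6 : List ℕ := g1 :: g1i :: [EA6G.c5, EA6G.c5i, EA6G.c4, EA6G.c4i, EA6G.c3, EA6G.c3i, EA6G.c2, EA6G.c2i, EA6G.a1, EA6G.a1i, EA6G.a0, EA6G.a0i]
theorem gd6 : GoodM (AltM.C6) (MW.altM) ⊤ L6 :=
  GoodM.word EA6G.good [9,2,0] (by decide +kernel)
noncomputable def g2 : ℕ := 0x808401084
noncomputable def g2i : ℕ := g2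
noncomputable def L7 : List ℕ := g2 :: g2i :: L6
theorem gd7 : GoodM (AltM.C6) (MW.altM) ⊤ L7 :=
  GoodM.word gd6 [13,10,6,2] (by decide +kernel)
noncomputable def g3 : ℕ := 0x801108090
noncomputable def g3i : ℕ := g3
noncomputable def L8 : List ℕ := g3 :: g3i :: L7
theorem gd8 : GoodM (AltM.C6) (MW.altM) ⊤ L8 :=
  GoodM.word gd7 [1,3,0,2] (by decide +kernel)
noncomputable def x0 : ℕ := 0x101802210
noncomputable def x0i : ℕ := 0x2010a0110
noncomputable def L9 : List ℕ := x0 :: x0i :: L8
theorem gd9 : GoodM (AltM.C6) (MW.altM) ⊤ L9 :=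
  GoodM.word gd8 [15,15,16,15,15,11] (by decide +kernel)
noncomputable def x1 : ℕ := 0x88101810
noncomputable def x1i : ℕ := 0x81408804
noncomputable def L10 : List ℕ := x1 :: x1i :: L9
theorem gd10 : GoodM (AltM.C6) (MW.altM) ⊤ L10 :=
  GoodM.word gd9 [19,17,10] (by decide +kernel)
noncomputable def L : List ℕ := [x1, x1i, x0, x0i, g3, g3i, g2, g2i, g1, g1i, EA6G.c5, EA6G.c5i, EA6G.c4, EA6G.c4i, EA6G.c3, EA6G.c3i, EA6G.c2, EA6G.c2i, EA6G.a1, EA6G.a1i, EA6G.a0, EA6G.a0i]
theorem good : GoodM (AltM.C6) (MW.altM) ⊤ L := gd10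
noncomputable def T : ℕ := 0x30500c140305000000000000000000000000000000000000000000000000000000000000000000000000000000000000000000000000000000000000000000000000000000000000000188280205000000000000000000000000000000000000000000000000000000000000000000000000000000000000000000000000000000000000000000000000000000000000000000000105000000000000000000000000000000000000000000000000000000000000000000000000000000000000000000000000000000000000000000000000000000000000000000000000
noncomputable def QT : List ℕ := [0x3000000000, 0x80000]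
noncomputable def UT : List ℕ := [0x61000000000, 0xc0000]
noncomputable def I : ℕ := 0x2ffffffffffffffffffffffffffffffffffffffffffffffffffffffff040608ff
noncomputable def E0 : List (ℕ × ℕ × ℕ × List ℕ) := [(0, 0x3, 97, [6210]),
  (0, 0x2, 65, [4162,6273,6337]),
  (0, 0x2, 33, [4162,6211,6339]),
  (2, 0x21, 0, [4225,6339,67650]),
  (1, 0x42, 0, [2115,6211,65666])]
noncomputable def E : List (ℕ × ℕ × ℕ × List ℕ) := (E0 ++ [])
noncomputable def Y : List (List ℕ) := [[65667],
  [4163,4227,6211,67651],
  [4161]]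
noncomputable def CL : List (List ℕ × ℕ × ℕ) := [([6209], 2, 0x3)]
noncomputable def CF : List (List ℕ) := [[],
  [0x40000043],
  [0, 0x10c0043],
  [0x3, 0xc3003, 0x40001]]
noncomputable def Ls : List Lv := [⟨0x20, [0x1], [0], 0x100000000000000000000000000000000000000000000000000000000000000000000000000000000000000000000000000000000000000000000000000000000, 286678864, 2218, 2⟩,
  ⟨0xc, [0x2], [0], 0, 2283489, 1, 2⟩,
  ⟨0x15, [0x3], [0], 0x10000000000000000000000000000000000000000000000000000000000000000000000000000000000000000000000000000, 1063993522, 787, 2⟩]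
theorem e0 : allM (chkEq (slot T 18 0x40000) 32 1 4 1088 (hmask 1088) (fun f => slot (nthD QT 0 f) 18 0x40000) (fun f => slot (nthD UT 0 f) 18 0x40000)) E0 = true := by decide +kernel
theorem r0 : relChkM (AltM.C6).mul (AltM.C6).one (cod L (AltM.C6).one I) (slot T 18 0x40000) 1 0 4 = true := by decide +kernel
theorem f0 : fusChkM (AltM.C6).mul (AltM.C6).one (cod L (AltM.C6).one I) (fun f => slot (nthD QT 0 f) 18 0x40000) (fun f => slot (nthD UT 0 f) 18 0x40000) 0 2 = true := by decide +kernel
theorem h0 : finChk (slot T 18 0x40000) 1 4 1088 (hmask 1088) 12 (E.map fun e => e.2.2.2) Y CL CF 0 4 = true := by decide +kernel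
theorem c0 : lbM (AltM.C6).mul (AltM.C6).one (fun w => mulW (AltM.C6).mul (cod L (AltM.C6).one I) 65 w (AltM.C6).one) Ls (fun _ => true) = true := by decide +kernel
theorem main : NoStem (alternatingGroup (Fin 6)) (2 ^ 2) :=
  noStem_of_codes (MonoidHom.id _) (MW.altM_inj) (AltM.can6) good (MV.hz1 _ _) (MV.hz01) (by norm_num) (AltM.card6)
    (n := 3) (K := 32) (REP := 1) (q := 4) (T := T) (W := 18) (PW := 0x40000) (QT := QT) (UT := UT) (I := I) (N := 1088) (S := 12) (Ls := Ls)
    (by decide +kernel) ((Cov.zero _).step r0)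
    ((Cov.zero _).step f0) c0 (E := E) (allM_app e0 (fun _ h => absurd h List.not_mem_nil))
    (Y := Y) (CL := CL) (CF := CF) ((Cov.zero _).step h0)
end H65.EA6P2
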