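import Cfsg.Agent.H65.EA6G
set_option maxRecDepth 1000000
set_option Elab.async false
namespace H65.EA6P3
open H71 H81
noncomputable def g1 : ℕ := 0x48110802
noncomputable def g1i : ℕ := 0x84408060
noncomputable def L6 : List ℕ := g1 :: g1i :: [EA6G.c5, EA6G.c5i, EA6G.c4, EA6G.c4i, EA6G.c3, EA6G.c3i, EA6G.c2, EA6G.c2i, EA6G.a1, EA6G.a1i, EA6G.a0, EA6G.a0i]
theorem gd6 : GoodM (AltM.C6) (MW.altM) ⊤ L6 :=
  GoodM.word EA6G.good [9,10,8,5,1] (by decide +kernel)
noncomputable def g2 : ℕ := 0x90204060
noncomputable def g2i : ℕ := 0x50204802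
noncomputable def L7 : List ℕ := g2 :: g2i :: L6
theorem gd7 : GoodM (AltM.C6) (MW.altM) ⊤ L7 :=
  GoodM.word gd6 [12,11,3] (by decide +kernel)
noncomputable def x0 : ℕ := 0x420042204
noncomputable def x0i : ℕ := 0x420081108
noncomputable def L8 : List ℕ := x0 :: x0i :: L7
theorem gd8 : GoodM (AltM.C6) (MW.altM) ⊤ L8 :=
  GoodM.word gd7 [12,15,12,8,5] (by decide +kernel)
noncomputable def L : List ℕ := [x0, x0i, g2, g2i, g1, g1i, EA6G.c5, EA6G.c5i, EA6G.c4, EA6G.c4i, EA6G.c3, EA6G.c3i, EA6G.c2, EA6G.c2i, EA6G.a1, EA6G.a1i, EA6G.a0, EA6G.a0i]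
theorem good : GoodM (AltM.C6) (MW.altM) ⊤ L := gd8
noncomputable def T : ℕ := 0x10280020500000000000000000000000000000000000000000000000000000000000000000000000000000000000000000000000000000000000000000000000000000000000000000000000000000000000000000000000000000000000001050000000000000000000000000000000000000000000000000000000000000000000000000000000000000000000000000000000000000000000000000000000000000000000000000000000000000000000000000000000000000000
noncomputable def QT : List ℕ := [0x800000800000]
noncomputable def UT : List ℕ := [0x10400410800000]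
noncomputable def I : ℕ := 0xffffffffffffffffffffffffffffffffffffffffffffffffffffffffff0204ff
noncomputable def E0 : List (ℕ × ℕ × ℕ × List ℕ) := [(0, 0x42, 65, [4163]),
  (1, 0x842, 0, [2120,4166,65670]),
  (1, 0x421, 0, [2120,4163,4232,65606])]
noncomputable def E : List (ℕ × ℕ × ℕ × List ℕ) := (E0 ++ [])
noncomputable def Y : List (List ℕ) := [[4167,65671],
  [2120,4167,65607,65672]]
noncomputable def CL : List (List ℕ × ℕ × ℕ) := [([4161], 3, 0x8)]
noncomputable def CF : List (List ℕ) := [[],
  [0x1000],
  [0x8, 0x45000]]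
noncomputable def Ls : List Lv := [⟨0xc, [0x1], [0,0], 0x1000000000000000000000000000000000000000000000000000000000000000000000000000000000000000000000000, 656099104, 2477, 3⟩,
  ⟨0x2e, [0x2], [0,0], 0x10001000000000000000000000000000000000000000000000000000000000000000000000000000000000000000000000000000000000000000000000000000000000000000000000000000000000000000000000000000000000000, 687527159, 1227, 3⟩]
theorem e0 : allM (chkEq (slot T 23 0x800000) 1024 33 9 1056 (hmask 1056) (fun f => slot (nthD QT 0 f) 23 0x800000) (fun f => slot (nthD UT 0 f) 23 0x800000)) E0 = true := by decide +kernel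
theorem r0 : relChkM (AltM.C6).mul (AltM.C6).one (cod L (AltM.C6).one I) (slot T 23 0x800000) 33 0 3 = true := by decide +kernel
theorem f0 : fusChkM (AltM.C6).mul (AltM.C6).one (cod L (AltM.C6).one I) (fun f => slot (nthD QT 0 f) 23 0x800000) (fun f => slot (nthD UT 0 f) 23 0x800000) 0 1 = true := by decide +kernel
theorem h0 : finChk (slot T 23 0x800000) 33 9 1056 (hmask 1056) 30 (E.map fun e => e.2.2.2) Y CL CF 0 3 = true := by decide +kernel
theorem c0 : lbM (AltM.C6).mul (AltM.C6).one (fun w => mulW (AltM.C6).mul (cod L (AltM.C6).one I) 65 w (AltM.C6).one) Ls (fun _ => true) = true := by decide +kernel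
theorem main : NoStem (alternatingGroup (Fin 6)) (3 ^ 2) :=
  noStem_of_codes (MonoidHom.id _) (MW.altM_inj) (AltM.can6) good (MV.hz1 _ _) (MV.hz01) (by norm_num) (AltM.card6)
    (n := 2) (K := 1024) (REP := 33) (q := 9) (T := T) (W := 23) (PW := 0x800000) (QT := QT) (UT := UT) (I := I) (N := 1056) (S := 30) (Ls := Ls)
    (by decide +kernel) ((Cov.zero _).step r0)
    ((Cov.zero _).step f0) c0 (E := E) (allM_app e0 (fun _ h => absurd h List.not_mem_nil))
    (Y := Y) (CL := CL) (CF := CF) ((Cov.zero _).step h0)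
end H65.EA6P3
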