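import Cfsg.Agent.H81.Fam
import Cfsg.Agent.H65.EA7G
import Cfsg.Agent.H65.EA7L
set_option maxRecDepth 1000000
set_option Elab.async false
namespace H65.EA7C
open H71 H81
noncomputable def CM : ℕ := 15 * geo 64 4
noncomputable def RM : ℕ := 15 * geo 16 4
noncomputable def E : ℕ := geo 64 4 * geo 16 4
noncomputable def M1 : ℕ := 127 * E
noncomputable def M2 : ℕ := 1 * E
noncomputable def MB : ℕ := 15 * E
noncomputable def one : ℕ := geo 80 4
noncomputable def C : CdA (Matrix (Fin 4) (Fin 4) (ZMod 11)) :=
  cdaP 4 11 15 46 9 21 2979 15 CM RM M1 M2 one MB (by decide +kernel) (by decide +kernel)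
noncomputable def m2 : ℕ := 0x2000900060006000900030005000600010000000400030000000000030003
noncomputable def m2i : ℕ := 0x9000600060008000300060006000900020005000600020009000600050002
noncomputable def m1 : ℕ := 0x2000500050003000900060005000200030006000600090009000600050009
noncomputable def m1i : ℕ := 0x90006000900050002000600030006000a0003000000070000000300000008
noncomputable def m0 : ℕ := 0x6000500080002000300040000000a00040008000000000005000600020003
noncomputable def m0i : ℕ := 0x6000600030009000800080000000100070003000100000006000500090009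
noncomputable def y : ℕ := 0xa0000000000000000000a0000000000000000000a0000000000000000000a
noncomputable def z : ℕ := one
noncomputable def tab : List ℕ := [m2, m2i, m1, m1i, m0, m0i, y, z]
noncomputable def Ps : List ℕ := [0x180025003500130014003c001100260017000e0034003800190023001e001b003700120044000a0039002c000200220010000f003a003f002b002f002d0033003e001a0029003b000b000c00000016003d001d002700400001001f00030043000900080041002e0032003600200024004500300015002a000400420028003100070021001c00050006000d, 0, 0x1700250015003100260011002c00040022004400280038003e00030020001b002a00270039000a000e003c001d0018002e0006003a001a00000012001c0008002400300002003b0033000f0007004100100029002f004000130023001f001e0037000b0042003d00350036004300190045003f0032000900140016000d0001002b00210005002d000c0034, 0, 0x200044000b000d001800290021000c003b002b0013002500390009000f000a0035003e00330032003c001d002f001e003f002e0031004100260038001a0040000e001700040037002d00070030002c001f0023002400020042002a001b001600360005003d0014001100430022003a001900340010001500280000004500060012001c0003002700080001]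
noncomputable def π (l x : ℕ) : ℕ := Nat.land (Nat.shiftRight (nthD Ps 0 l) (Nat.shiftLeft x 4)) 65535
noncomputable def Z : List ℕ := [one]
noncomputable def sprd (x : ℕ) (L : List (ℕ × ℕ)) : ℕ :=
  List.rec (motive := fun _ => ℕ) x (fun q _ y => Nat.lor (Nat.xor y (Nat.land y q.1)) (Nat.shiftLeft (Nat.land y q.1) q.2)) L
noncomputable def sa0 : ℕ := (2 ^ 4 - 1) * 2 ^ 4 * geo 32 8
noncomputable def sa1 : ℕ := (2 ^ 8 - 1) * 2 ^ 8 * geo 64 4
noncomputable def sa2 : ℕ := (2 ^ 16 - 1) * 2 ^ 16 * geo 128 2
noncomputable def sa3 : ℕ := (2 ^ 32 - 1) * 2 ^ 32 * geo 256 1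
noncomputable def sa : List (ℕ × ℕ) := [(sa0, 12), (sa1, 24), (sa2, 48), (sa3, 96)]
noncomputable def t0 : ℕ := 0x4965995500a30033
noncomputable def t1 : ℕ := 0x462691850473a303
noncomputable def t2 : ℕ := 0x33003a0065425529
noncomputable def t3 : ℕ := 0x1639830173706594
noncomputable def t4 : ℕ := 0x3310512355428707
noncomputable def t5 : ℕ := 0x1995370330685921
noncomputable def t6 : ℕ := 0x1655515666166551
noncomputable def t7 : ℕ := 0x18954703624630a3
noncomputable def t8 : ℕ := 0x6480815203aa2569
noncomputable def t9 : ℕ := 0x607899553216018a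
noncomputable def t10 : ℕ := 0x3081377063195964
noncomputable def t11 : ℕ := 0x3a08649580746281
noncomputable def t12 : ℕ := 0x6380915225120887
noncomputable def t13 : ℕ := 0x1555615666156561
noncomputable def t14 : ℕ := 0x4552133025130877
noncomputable def t15 : ℕ := 0x9266246500a30033
noncomputable def t16 : ℕ := 0x300854955996800a
noncomputable def t17 : ℕ := 0x6308919503732591
noncomputable def t18 : ℕ := 0x45520a8008302569
noncomputable def t19 : ℕ := 0x1566615656165551
noncomputable def t20 : ℕ := 0x9256063710a39351
noncomputable def t21 : ℕ := 0x9669aa8096180346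
noncomputable def t22 : ℕ := 0x1566616555155661
noncomputable def t23 : ℕ := 0x462603082596080a
noncomputable def t24 : ℕ := 0x1656516665165551
noncomputable def t25 : ℕ := 0x7033063899159251
noncomputable def t26 : ℕ := 0xa8a0619866993406
noncomputable def t27 : ℕ := 0x3080695980a06964
noncomputable def t28 : ℕ := 0xa800830056996694
noncomputable def t29 : ℕ := 0x1226860880736291
noncomputable def t30 : ℕ := 0x959521360768180a
noncomputable def t31 : ℕ := 0x9669033003a09654
noncomputable def t32 : ℕ := 0x1655516565156661
noncomputable def t33 : ℕ := 0xa030696930305964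
noncomputable def t34 : ℕ := 0x1666516555165651
noncomputable def t35 : ℕ := 0x1629619983703306
noncomputable def t36 : ℕ := 0x7043246689150a33
noncomputable def t37 : ℕ := 0xa03a864058126259
noncomputable def t38 : ℕ := 0x46250a0326960303
noncomputable def t39 : ℕ := 0x1592512238608807
noncomputable def t40 : ℕ := 0x95950a0396450303
noncomputable def t41 : ℕ := 0x1665515556166651
noncomputable def t42 : ℕ := 0x300859266246800a
noncomputable def t43 : ℕ := 0xa003692662453003
noncomputable def t44 : ℕ := 0x7730316908319654
noncomputable def t45 : ℕ := 0x1556616665155561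
noncomputable def t46 : ℕ := 0x925624660038008a
noncomputable def t47 : ℕ := 0x15823a0a48605629
noncomputable def t48 : ℕ := 0x49650784a0382861
noncomputable def t49 : ℕ := 0x780403a896458621
noncomputable def t50 : ℕ := 0x33003a0066996594
noncomputable def t51 : ℕ := 0x7803212608689621
noncomputable def t52 : ℕ := 0x1565615556156661
noncomputable def t53 : ℕ := 0x95690a8008309664
noncomputable def t54 : ℕ := 0x1969378062193036
noncomputable def t55 : ℕ := 0x6088078322162961
noncomputable def t56 : ℕ := 0xa030546230305259
noncomputable def t57 : ℕ := 0x4652033003a02559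
noncomputable def t58 : ℕ := 0x1252863059128087
noncomputable def t59 : ℕ := 0x196869698aa04036
noncomputable def t60 : ℕ := 0xa103592630675931
noncomputable def t61 : ℕ := 0x132676085995801a
noncomputable def t62 : ℕ := 0xa003649559953003
noncomputable def t63 : ℕ := 0x959603089545080a
noncomputable def t64 : ℕ := 0x3080545280a06259
noncomputable def t65 : ℕ := 0x7830216996190336
noncomputable def t66 : ℕ := 0x495599560038008a
noncomputable def t67 : ℕ := 0x63070a1325963591
noncomputable def t68 : ℕ := 0xa800830055425629
noncomputable def t69 : ℕ := 0x1253545231307087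
noncomputable def TT : Tr := (.node (.node (.node (.node (.node (.node (.node (.leaf t0) (.leaf t64)) (.leaf t32)) (.node (.leaf t16) (.leaf t48))) (.node (.node (.leaf t8) (.leaf t40)) (.node (.leaf t24) (.leaf t56)))) (.node (.node (.node (.node (.leaf t4) (.leaf t68)) (.leaf t36)) (.node (.leaf t20) (.leaf t52))) (.node (.node (.leaf t12) (.leaf t44)) (.node (.leaf t28) (.leaf t60))))) (.node (.node (.node (.node (.node (.leaf t2) (.leaf t66)) (.leaf t34)) (.node (.leaf t18) (.leaf t50))) (.node (.node (.leaf t10) (.leaf t42)) (.node (.leaf t26) (.leaf t58)))) (.node (.node (.node (.leaf t6) (.leaf t38)) (.node (.leaf t22) (.leaf t54))) (.node (.node (.leaf t14) (.leaf t46)) (.node (.leaf t30) (.leaf t62)))))) (.node (.node (.node (.node (.node (.node (.leaf t1) (.leaf t65)) (.leaf t33)) (.node (.leaf t17) (.leaf t49))) (.node (.node (.leaf t9) (.leaf t41)) (.node (.leaf t25) (.leaf t57)))) (.node (.node (.node (.node (.leaf t5) (.leaf t69)) (.leaf t37)) (.node (.leaf t21) (.leaf t53))) (.node (.node (.leaf t13) (.leaf t45)) (.node (.leaf t29) (.leaf t61))))) (.node (.node (.node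 (.node (.node (.leaf t3) (.leaf t67)) (.leaf t35)) (.node (.leaf t19) (.leaf t51))) (.node (.node (.leaf t11) (.leaf t43)) (.node (.leaf t27) (.leaf t59)))) (.node (.node (.node (.leaf t7) (.leaf t39)) (.node (.leaf t23) (.leaf t55))) (.node (.node (.leaf t15) (.leaf t47)) (.node (.leaf t31) (.leaf t63)))))))
noncomputable def T (x : ℕ) : ℕ := sprd (TT.get x) sa
noncomputable def u0 : ℕ := 0x50401010110
noncomputable def u1 : ℕ := 0x110401040101
noncomputable def u2 : ℕ := 0x901010100c0
noncomputable def u3 : ℕ := 0x1010101004202
noncomputable def u4 : ℕ := 0x90101100201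
noncomputable def u5 : ℕ := 0x10011010100a0
noncomputable def u6 : ℕ := 0x220104010101
noncomputable def u7 : ℕ := 0x1010021010090
noncomputable def u8 : ℕ := 0x90401010801
noncomputable def u9 : ℕ := 0x1010100808401
noncomputable def u10 : ℕ := 0x1010080840101
noncomputable def u11 : ℕ := 0x1008021011001
noncomputable def u12 : ℕ := 0x90108010401
noncomputable def u13 : ℕ := 0x1000904010108
noncomputable def u14 : ℕ := 0x1010022010401
noncomputable def u15 : ℕ := 0x1004100411001
noncomputable def u16 : ℕ := 0x1008011010120
noncomputable def u17 : ℕ := 0x808401010101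
noncomputable def u18 : ℕ := 0x1000901080104
noncomputable def u19 : ℕ := 0x1010021040201
noncomputable def u20 : ℕ := 0x1002101009001
noncomputable def u21 : ℕ := 0x1010080410801
noncomputable def u22 : ℕ := 0x804108010101
noncomputable def u23 : ℕ := 0x1010100210402
noncomputable def u24 : ℕ := 0x210100210140
noncomputable def u25 : ℕ := 0x1002104020101
noncomputable def u26 : ℕ := 0x11010100a001
noncomputable def u27 : ℕ := 0x1010100804108
noncomputable def u28 : ℕ := 0x50101012002
noncomputable def u29 : ℕ := 0x1000901011002
noncomputable def u30 : ℕ := 0x410041100101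
noncomputable def u31 : ℕ := 0x1002101004120
noncomputable def u32 : ℕ := 0x1010041008801
noncomputable def u33 : ℕ := 0x801101012001
noncomputable def u34 : ℕ := 0x1004100210120
noncomputable def u35 : ℕ := 0x110101004140
noncomputable def u36 : ℕ := 0x1010100420201
noncomputable def u37 : ℕ := 0x1010042020101
noncomputable def u38 : ℕ := 0x120101080101
noncomputable def u39 : ℕ := 0x50101100104
noncomputable def u40 : ℕ := 0x1010100410088
noncomputable def u41 : ℕ := 0x60101010120
noncomputable def u42 : ℕ := 0x210100900101
noncomputable def u43 : ℕ := 0x1000a01010110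
noncomputable def u44 : ℕ := 0x410021012001
noncomputable def u45 : ℕ := 0x800901010140
noncomputable def u46 : ℕ := 0x410011010140
noncomputable def u47 : ℕ := 0x1010101008084
noncomputable def u48 : ℕ := 0x1001101080201
noncomputable def u49 : ℕ := 0x1002201040101
noncomputable def u50 : ℕ := 0x1008084010101
noncomputable def u51 : ℕ := 0x420201010101
noncomputable def u52 : ℕ := 0x50108010108
noncomputable def u53 : ℕ := 0x410088010101
noncomputable def u54 : ℕ := 0x1010080210110
noncomputable def u55 : ℕ := 0x1004100880101
noncomputable def u56 : ℕ := 0x1010100220104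
noncomputable def u57 : ℕ := 0x210402010101
noncomputable def u58 : ℕ := 0x1010012010108
noncomputable def u59 : ℕ := 0x1010041004110
noncomputable def u60 : ℕ := 0x1001201010801
noncomputable def u61 : ℕ := 0x1010011010802
noncomputable def u62 : ℕ := 0x110108020101
noncomputable def u63 : ℕ := 0x802101100101
noncomputable def u64 : ℕ := 0xa0101011001
noncomputable def u65 : ℕ := 0x210100412001
noncomputable def u66 : ℕ := 0x1001104010401
noncomputable def u67 : ℕ := 0x1008041080101
noncomputable def u68 : ℕ := 0x1004202010101
noncomputable def u69 : ℕ := 0x1010011040104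
noncomputable def UU : Tr := (.node (.node (.node (.node (.node (.node (.node (.leaf u0) (.leaf u64)) (.leaf u32)) (.node (.leaf u16) (.leaf u48))) (.node (.node (.leaf u8) (.leaf u40)) (.node (.leaf u24) (.leaf u56)))) (.node (.node (.node (.node (.leaf u4) (.leaf u68)) (.leaf u36)) (.node (.leaf u20) (.leaf u52))) (.node (.node (.leaf u12) (.leaf u44)) (.node (.leaf u28) (.leaf u60))))) (.node (.node (.node (.node (.node (.leaf u2) (.leaf u66)) (.leaf u34)) (.node (.leaf u18) (.leaf u50))) (.node (.node (.leaf u10) (.leaf u42)) (.node (.leaf u26) (.leaf u58)))) (.node (.node (.node (.leaf u6) (.leaf u38)) (.node (.leaf u22) (.leaf u54))) (.node (.node (.leaf u14) (.leaf u46)) (.node (.leaf u30) (.leaf u62)))))) (.node (.node (.node (.node (.node (.node (.leaf u1) (.leaf u65)) (.leaf u33)) (.node (.leaf u17) (.leaf u49))) (.node (.node (.leaf u9) (.leaf u41)) (.node (.leaf u25) (.leaf u57)))) (.node (.node (.node (.node (.leaf u5) (.leaf u69)) (.leaf u37)) (.node (.leaf u21) (.leaf u53))) (.node (.node (.leaf u13) (.leaf u45)) (.node (.leaf u29) (.leaf u61))))) (.node (.node (.node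 (.node (.node (.leaf u3) (.leaf u67)) (.leaf u35)) (.node (.leaf u19) (.leaf u51))) (.node (.node (.leaf u11) (.leaf u43)) (.node (.leaf u27) (.leaf u59)))) (.node (.node (.node (.leaf u7) (.leaf u39)) (.node (.leaf u23) (.leaf u55))) (.node (.node (.leaf u15) (.leaf u47)) (.node (.leaf u31) (.leaf u63)))))))
noncomputable def hs : Lv := ⟨0, [], [], 0x20000000200000002002f000e00000000000f00270000000500000000000e001e000000000005000000000019000000210000000400100000000000010004000f0000000000000000001a000e000c0002000100000009000400030000000000000001000400010000000200000000000200040001, 306910709, 59, 70⟩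
noncomputable def L0 : List ℕ := [EA7G.a2, EA7G.a2i, EA7G.a1, EA7G.a1i, EA7G.a0, EA7G.a0i]
theorem g0 : famChk (AltM.C7).mul (nthD L0 (AltM.C7).one) UU.get π [0,2,4] 70 0 70 = true := by decide +kernel
theorem f0 : famChk C.mul (nthD tab C.one) T π [0,2,4] 70 0 70 = true := by decide +kernel
noncomputable def X : ℕ := 0x100060003000000000007000200000005000300020000000000000000
noncomputable def Bi : ℕ := 0xa000600000005000600020009000300000009000300030007000400040003
theorem nor : norChk C.mul C.add C.one T 70 Z [(0, 2, 0), (0, 16, 0), (0, 14, 0), (1, 0, 1), (2, 1, 1), (1, 0, 0), (2, 1, 3), (1, 1, 1), (2, 0, 5), (1, 1, 6), (2, 0, 10), (1, 0, 7), (2, 1, 0), (1, 1, 4), (2, 1, 8)] 0x3000600040000 X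
  [(0x4000000000000000000000000000000000000000000000000, 0)] (fun i => Nat.shiftLeft 1 (Nat.mul 64 i))
  [(0, 14), (1, 13), (1, 13)] Bi = true := by decide +kernel
theorem act : ActOn (alternatingGroup (Fin 7)) [0,2,4] π 70 :=
  actOn_of_conj (MonoidHom.id _) (AltM.can7) (L := L0) (S := [0,2,4]) EA7G.good0 (MV.gen_id EA7L.gen) (MV.hk1 _) ((Cov.zero _).step g0) (h := hs.hsh) (by decide +kernel)
noncomputable def d1 : ℕ := 0x3000000070000000400000003000a00080000000800000003000100080000
noncomputable def d2 : ℕ := one
theorem base : baseChk C.mul C.one C.ent tab 6 6 2 1 [0,0,0,0,0,0] [0] = true := by decide +kernel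
theorem main : HasU (alternatingGroup (Fin 7)) (Multiplicative (ZMod 2 × ZMod 1)) :=
  haveI := AltM.simple7
  haveI : Finite (alternatingGroup (Fin 7)) := Nat.finite_of_card_ne_zero (by rw [AltM.card7]; norm_num)
  hasU_of_fam C act base ((Cov.zero _).step f0) (by decide +kernel) nor
    (x := [2]) (y := [0]) (x' := []) (y' := []) (d := d1) (m := 2) (d' := d2) (m' := 0)
    (by decide) (by decide +kernel) (by decide +kernel)
end H65.EA7C
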