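import Cfsg.Agent.H81.Fam
import Cfsg.Agent.H65.EA7G
import Cfsg.Agent.H65.EA7L
set_option maxRecDepth 1000000
set_option Elab.async false
namespace H65.EA7D
open H71 H81
noncomputable def CM : ℕ := 7 * geo 96 6
noncomputable def RM : ℕ := 7 * geo 16 6
noncomputable def E : ℕ := geo 96 6 * geo 16 6
noncomputable def M1 : ℕ := 63 * E
noncomputable def M2 : ℕ := 1 * E
noncomputable def MB : ℕ := 7 * E
noncomputable def one : ℕ := geo 112 6
noncomputable def C : CdA (Matrix (Fin 6) (Fin 6) (ZMod 7)) :=
  cdaP 6 7 7 146 10 7 4682 15 CM RM M1 M2 one MB (by decide +kernel) (by decide +kernel)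
noncomputable def m2 : ℕ := 0x300050006000000000004000600020002000100000003000300020003000000040006000300000005000000000004000300060006000000000004000300040002000000000000
noncomputable def m2i : ℕ := 0x200000000000300020005000600000000000000010000000600000000000600020000000500010000000200010004000100000002000400060001000500000000000100030005
noncomputable def m1 : ℕ := 0x100000003000400010002000500020002000600030005000400000001000100030003000300000005000100060002000600000000000300040002000200000001000300060000
noncomputable def m1i : ℕ := 0x300000000000600050003000000040004000000050002000000000003000500010001000100000000000400020005000200000003000100030000000300000001000200010001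
noncomputable def m0 : ℕ := 0x100030001000000060002000000010003000000050004000000050003000100060005000000060006000000060003000000030004000000060003000000010006000000060003
noncomputable def m0i : ℕ := 0x100030000000100050001000000000000000300000004000000000000000300030001000000010001000600010004000000020000000400020003000000030000000600040005
noncomputable def y : ℕ := 0x400000000000000000000000000040000000000000000000000000004000000000000000000000000000400000000000000000000000000040000000000000000000000000004
noncomputable def z : ℕ := one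
noncomputable def tab : List ℕ := [m2, m2i, m1, m1i, m0, m0i, y, z]
noncomputable def Ps : List ℕ := [0x10000000a000b00020011001300120006001400080004000300070010000c000e000d0005000f0009, 0, 0xb000a00010002001300060012001100140008000e0007000d00100004000c000300090005000f, 0, 0x130012001400110010000e000d000f000c000b0002000700090008000600040003000500000001000a]
noncomputable def π (l x : ℕ) : ℕ := Nat.land (Nat.shiftRight (nthD Ps 0 l) (Nat.shiftLeft x 4)) 65535
noncomputable def Z : List ℕ := [one]
noncomputable def sprd (x : ℕ) (L : List (ℕ × ℕ)) : ℕ :=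
  List.rec (motive := fun _ => ℕ) x (fun q _ y => Nat.lor (Nat.xor y (Nat.land y q.1)) (Nat.shiftLeft (Nat.land y q.1) q.2)) L
noncomputable def sa0 : ℕ := (2 ^ 3 - 1) * 2 ^ 3 * geo 32 3
noncomputable def sa1 : ℕ := (2 ^ 6 - 1) * 2 ^ 6 * geo 64 2
noncomputable def sa2 : ℕ := (2 ^ 12 - 1) * 2 ^ 12 * geo 128 1
noncomputable def sa : List (ℕ × ℕ) := [(sa0, 13), (sa1, 26), (sa2, 52)]
noncomputable def sb0 : ℕ := (2 ^ 16 - 1) * 2 ^ 16 * geo 192 3
noncomputable def sb1 : ℕ := (2 ^ 32 - 1) * 2 ^ 32 * geo 384 2
noncomputable def sb2 : ℕ := (2 ^ 64 - 1) * 2 ^ 64 * geo 768 1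
noncomputable def sb : List (ℕ × ℕ) := [(sb0, 80), (sb1, 160), (sb2, 320)]
noncomputable def lo : ℕ := 2 ^ 18 - 1
noncomputable def t0 : ℕ := 0x8a2b81040
noncomputable def t1 : ℕ := 0x800008488
noncomputable def t2 : ℕ := 0x101289
noncomputable def t3 : ℕ := 0x40004411
noncomputable def t4 : ℕ := 0x66e640101
noncomputable def t5 : ℕ := 0x6014c0888
noncomputable def t6 : ℕ := 0x70c92001
noncomputable def t7 : ℕ := 0x9896d0001
noncomputable def t8 : ℕ := 0x720a60408
noncomputable def t9 : ℕ := 0xa66112040
noncomputable def t10 : ℕ := 0x85ed80808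
noncomputable def t11 : ℕ := 0xda1b01008
noncomputable def t12 : ℕ := 0x183280011
noncomputable def t13 : ℕ := 0x4008051
noncomputable def t14 : ℕ := 0x8022801
noncomputable def t15 : ℕ := 0x2de9a1008
noncomputable def t16 : ℕ := 0x55a402440
noncomputable def t17 : ℕ := 0x995640501
noncomputable def t18 : ℕ := 0x632860401
noncomputable def t19 : ℕ := 0x20a121
noncomputable def t20 : ℕ := 0x79b6d1240
noncomputable def TT : Tr := (.node (.node (.node (.node (.node (.leaf t0) (.leaf t16)) (.leaf t8)) (.node (.node (.leaf t4) (.leaf t20)) (.leaf t12))) (.node (.node (.node (.leaf t2) (.leaf t18)) (.leaf t10)) (.node (.leaf t6) (.leaf t14)))) (.node (.node (.node (.node (.leaf t1) (.leaf t17)) (.leaf t9)) (.node (.leaf t5) (.leaf t13))) (.node (.node (.node (.leaf t3) (.leaf t19)) (.leaf t11)) (.node (.leaf t7) (.leaf t15)))))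
noncomputable def T (x : ℕ) : ℕ := red 7 4682 15 M2 (red 7 146 10 M1 (accP 6 CM RM (sprd (sprd (Nat.shiftRight (TT.get x) 18) sa) sb) (sprd (Nat.land (TT.get x) lo) sa) 1))
noncomputable def u0 : ℕ := 0xa
noncomputable def u1 : ℕ := 0x48
noncomputable def u2 : ℕ := 0xc
noncomputable def u3 : ℕ := 0x41
noncomputable def u4 : ℕ := 0x42
noncomputable def u5 : ℕ := 0x44
noncomputable def u6 : ℕ := 0x30
noncomputable def u7 : ℕ := 0x3
noncomputable def u8 : ℕ := 0x5
noncomputable def u9 : ℕ := 0x6
noncomputable def u10 : ℕ := 0x9
noncomputable def u11 : ℕ := 0x28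
noncomputable def u12 : ℕ := 0x60
noncomputable def u13 : ℕ := 0x21
noncomputable def u14 : ℕ := 0x22
noncomputable def u15 : ℕ := 0x24
noncomputable def u16 : ℕ := 0x18
noncomputable def u17 : ℕ := 0x50
noncomputable def u18 : ℕ := 0x11
noncomputable def u19 : ℕ := 0x12
noncomputable def u20 : ℕ := 0x14
noncomputable def UU : Tr := (.node (.node (.node (.node (.node (.leaf u0) (.leaf u16)) (.leaf u8)) (.node (.node (.leaf u4) (.leaf u20)) (.leaf u12))) (.node (.node (.node (.leaf u2) (.leaf u18)) (.leaf u10)) (.node (.leaf u6) (.leaf u14)))) (.node (.node (.node (.node (.leaf u1) (.leaf u17)) (.leaf u9)) (.node (.leaf u5) (.leaf u13))) (.node (.node (.node (.leaf u3) (.leaf u19)) (.leaf u11)) (.node (.leaf u7) (.leaf u15)))))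
noncomputable def hs : Lv := ⟨0, [], [], 0xb0000000b0001000d00000003000300000004000100010000, 403991251, 16, 21⟩
noncomputable def L0 : List ℕ := [EA7G.a2, EA7G.a2i, EA7G.a1, EA7G.a1i, EA7G.a0, EA7G.a0i]
theorem g0 : ptsChk (AltM.C7).mul (AltM.C7).one (nthD L0 (AltM.C7).one) UU.get hs.hsh π [0,2,4] 21 0 21 = true := by decide +kernel
theorem f0 : famChk C.mul (nthD tab C.one) T π [0,2,4] 21 0 21 = true := by decide +kernel
noncomputable def X : ℕ := 0x40000000500020006000000010000000000000000000000000001000000000000000000000000000000000000000000000000000000010000000000000000000000000001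
noncomputable def Bi : ℕ := 0x60004000300020001000000020004000000060003000500050006000000020001000000050005000400050006000000010003000100040005000000010001000500060004
theorem nor : norChk C.mul C.add C.one T 21 Z [(0, 4, 0), (0, 9, 0), (0, 13, 0), (0, 19, 0), (0, 13, 0), (0, 12, 0), (0, 3, 0), (0, 1, 0), (1, 1, 5), (2, 0, 9), (1, 1, 2), (2, 0, 8), (1, 0, 8), (2, 1, 2), (1, 1, 0), (2, 0, 9), (1, 1, 5), (2, 0, 14), (1, 0, 14), (2, 0, 4), (1, 1, 4), (2, 1, 11)] 0x400050000000100060004 X
  [(0x2000000000000000000000000000000000000000000000000000000000000000000000000000000000000000000000000000000000000000000000000, 0)] (fun i => Nat.shiftLeft 1 (Nat.mul 96 i))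
  [(0, 21), (1, 20), (2, 19), (3, 16), (4, 15)] Bi = true := by decide +kernel
theorem act : ActOn (alternatingGroup (Fin 7)) [0,2,4] π 21 :=
  actOn_of_rows (AltM.can7) (L := L0) (S := [0,2,4]) EA7G.good0 (EA7L.gen) ((Cov.zero _).step g0)
noncomputable def d1 : ℕ := 0x20004000300060004000200000005000300050006000000000005000200060001000000000003000400060001000000000002000600060003000000000003000200060003
noncomputable def d2 : ℕ := one
theorem base : baseChk C.mul C.one C.ent tab 6 6 3 1 [0,0,0,0,0,0] [0] = true := by decide +kernel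
theorem main : HasU (alternatingGroup (Fin 7)) (Multiplicative (ZMod 3 × ZMod 1)) :=
  haveI := AltM.simple7
  haveI : Finite (alternatingGroup (Fin 7)) := Nat.finite_of_card_ne_zero (by rw [AltM.card7]; norm_num)
  hasU_of_fam C act base ((Cov.zero _).step f0) (by decide +kernel) nor
    (x := [2]) (y := [4]) (x' := []) (y' := []) (d := d1) (m := 2) (d' := d2) (m' := 0)
    (by decide) (by decide +kernel) (by decide +kernel)
end H65.EA7D
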