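import Cfsg.Agent.H65.EA7G
set_option maxRecDepth 1000000
set_option Elab.async false
namespace H65.EA7P2
open H71 H81
noncomputable def g1 : ℕ := 0x1010020210808
noncomputable def g1i : ℕ := g1
noncomputable def L7 : List ℕ := g1 :: g1i :: [EA7G.c6, EA7G.c6i, EA7G.c5, EA7G.c5i, EA7G.c4, EA7G.c4i, EA7G.c3, EA7G.c3i, EA7G.a2, EA7G.a2i, EA7G.a1, EA7G.a1i, EA7G.a0, EA7G.a0i]
theorem gd7 : GoodM (AltM.C7) (MW.altM) ⊤ L7 :=
  GoodM.word EA7G.good [10,13,10,10,6,5,1] (by decide +kernel)
noncomputable def g2 : ℕ := 0x820100410401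
noncomputable def g2i : ℕ := g2
noncomputable def L8 : List ℕ := g2 :: g2i :: L7
theorem gd8 : GoodM (AltM.C7) (MW.altM) ⊤ L8 :=
  GoodM.word gd7 [12,12,8,7] (by decide +kernel)
noncomputable def g3 : ℕ := 0x1010010410410
noncomputable def g3i : ℕ := g3
noncomputable def L9 : List ℕ := g3 :: g3i :: L8
theorem gd9 : GoodM (AltM.C7) (MW.altM) ⊤ L9 :=
  GoodM.word gd8 [1,3,0,2] (by decide +kernel)
noncomputable def x0 : ℕ := 0x120100280402
noncomputable def x0i : ℕ := 0x802100500088
noncomputable def L10 : List ℕ := x0 :: x0i :: L9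
theorem gd10 : GoodM (AltM.C7) (MW.altM) ⊤ L10 :=
  GoodM.word gd9 [16,19,15,10,7] (by decide +kernel)
noncomputable def x1 : ℕ := 0x400a00410440
noncomputable def x1i : ℕ := 0x48400410420
noncomputable def L11 : List ℕ := x1 :: x1i :: L10
theorem gd11 : GoodM (AltM.C7) (MW.altM) ⊤ L11 :=
  GoodM.word gd10 [19,20,19,19,14,8] (by decide +kernel)
noncomputable def L : List ℕ := [x1, x1i, x0, x0i, g3, g3i, g2, g2i, g1, g1i, EA7G.c6, EA7G.c6i, EA7G.c5, EA7G.c5i, EA7G.c4, EA7G.c4i, EA7G.c3, EA7G.c3i, EA7G.a2, EA7G.a2i, EA7G.a1, EA7G.a1i, EA7G.a0, EA7G.a0i]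
theorem good : GoodM (AltM.C7) (MW.altM) ⊤ L := gd11
noncomputable def T : ℕ := 0x30500c140305000000000000000000000000000000000000000000000000000000000000000000000000000000000000000000000000000000000000000000000000000000000000000188280205000000000000000000000000000000000000000000000000000000000000000000000000000000000000000000000000000000000000000000000000000000000000000000000105000000000000000000000000000000000000000000000000000000000000000000000000000000000000000000000000000000000000000000000000000000000000000000000000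
noncomputable def QT : List ℕ := [0x3000000000, 0x80000]
noncomputable def UT : List ℕ := [0x1000000000, 0xc0000]
noncomputable def I : ℕ := 0x2ffffffffffffffffffffffffffffffffffffffffffffffffffffffff040608ff
noncomputable def E0 : List (ℕ × ℕ × ℕ × List ℕ) := [(0, 0x3, 97, [6210]),
  (0, 0x2, 65, [4162,6273,6337]),
  (0, 0x2, 33, [4162,6211,6339]),
  (1, 0x42, 0, [2115,6337,65666]),
  (2, 0x21, 0, [4225,6339,67650])]
noncomputable def E : List (ℕ × ℕ × ℕ × List ℕ) := (E0 ++ [])
noncomputable def Y : List (List ℕ) := [[4161,65667],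
  [4163,4227,6211,67651],
  [4161]]
noncomputable def CL : List (List ℕ × ℕ × ℕ) := [([6209], 2, 0x3)]
noncomputable def CF : List (List ℕ) := [[],
  [0x1040043],
  [0, 0x400c0043],
  [0x3, 0xc3003, 0x40001]]
noncomputable def Ls : List Lv := [⟨0x15, [0x1], [0], 0, 366333988, 1, 2⟩,
  ⟨0x55, [0x2], [0], 0x10000000000000000000000000000000000000000000000000000000000000000000000000000000000000000000000000000000000000000000000000000000000000000000000000000000000000000000000000000000000000000000000000000000000000000000000000000000000000000000000000000000000000000000000000000000000000000000000000000000000000000000000000000000000000000000000000000, 425360689, 2597, 2⟩,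
  ⟨0x45, [0x3], [0], 0, 326603667, 1, 2⟩]
theorem e0 : allM (chkEq (slot T 18 0x40000) 32 1 4 1088 (hmask 1088) (fun f => slot (nthD QT 0 f) 18 0x40000) (fun f => slot (nthD UT 0 f) 18 0x40000)) E0 = true := by decide +kernel
theorem r0 : relChkM (AltM.C7).mul (AltM.C7).one (cod L (AltM.C7).one I) (slot T 18 0x40000) 1 0 4 = true := by decide +kernel
theorem f0 : fusChkM (AltM.C7).mul (AltM.C7).one (cod L (AltM.C7).one I) (fun f => slot (nthD QT 0 f) 18 0x40000) (fun f => slot (nthD UT 0 f) 18 0x40000) 0 2 = true := by decide +kernel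
theorem h0 : finChk (slot T 18 0x40000) 1 4 1088 (hmask 1088) 12 (E.map fun e => e.2.2.2) Y CL CF 0 4 = true := by decide +kernel
theorem c0 : lbM (AltM.C7).mul (AltM.C7).one (fun w => mulW (AltM.C7).mul (cod L (AltM.C7).one I) 65 w (AltM.C7).one) Ls (fun _ => true) = true := by decide +kernel
theorem main : NoStem (alternatingGroup (Fin 7)) (2 ^ 2) :=
  noStem_of_codes (MonoidHom.id _) (MW.altM_inj) (AltM.can7) good (MV.hz1 _ _) (MV.hz01) (by norm_num) (AltM.card7)
    (n := 3) (K := 32) (REP := 1) (q := 4) (T := T) (W := 18) (PW := 0x40000) (QT := QT) (UT := UT) (I := I) (N := 1088) (S := 12) (Ls := Ls)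
    (by decide +kernel) ((Cov.zero _).step r0)
    ((Cov.zero _).step f0) c0 (E := E) (allM_app e0 (fun _ h => absurd h List.not_mem_nil))
    (Y := Y) (CL := CL) (CF := CF) ((Cov.zero _).step h0)
end H65.EA7P2
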