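import Cfsg.Agent.H65.EA7G
set_option maxRecDepth 1000000
set_option Elab.async false
namespace H65.EA7P3
open H71 H81
noncomputable def g1 : ℕ := 0x208010900120
noncomputable def g1i : ℕ := 0x100a08020110
noncomputable def L7 : List ℕ := g1 :: g1i :: [EA7G.c6, EA7G.c6i, EA7G.c5, EA7G.c5i, EA7G.c4, EA7G.c4i, EA7G.c3, EA7G.c3i, EA7G.a2, EA7G.a2i, EA7G.a1, EA7G.a1i, EA7G.a0, EA7G.a0i]
theorem gd7 : GoodM (AltM.C7) (MW.altM) ⊤ L7 :=
  GoodM.word EA7G.good [11,11,12,10,10,8,2] (by decide +kernel)
noncomputable def g2 : ℕ := 0x110108020101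
noncomputable def g2i : ℕ := 0x210100900101
noncomputable def L8 : List ℕ := g2 :: g2i :: L7
theorem gd8 : GoodM (AltM.C7) (MW.altM) ⊤ L8 :=
  GoodM.word gd7 [11,2] (by decide +kernel)
noncomputable def x0 : ℕ := 0x110011100110
noncomputable def x0i : ℕ := x0
noncomputable def L9 : List ℕ := x0 :: x0i :: L8
theorem gd9 : GoodM (AltM.C7) (MW.altM) ⊤ L9 :=
  GoodM.word gd8 [15,15,16,14,14,13,9] (by decide +kernel)
noncomputable def L : List ℕ := [x0, x0i, g2, g2i, g1, g1i, EA7G.c6, EA7G.c6i, EA7G.c5, EA7G.c5i, EA7G.c4, EA7G.c4i, EA7G.c3, EA7G.c3i, EA7G.a2, EA7G.a2i, EA7G.a1, EA7G.a1i, EA7G.a0, EA7G.a0i]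
theorem good : GoodM (AltM.C7) (MW.altM) ⊤ L := gd9
noncomputable def T : ℕ := 0x8140205000000000000000000000000000000000000000000000000000000000000000000000000000000000000000000000000000000000000000000000000000000000000000000000105000000000000000000000000000000000000000000000000000000000000000000000000000000000000000000000000000000000000000000000000000000000000000000000000
noncomputable def QT : List ℕ := [0x2000040000]
noncomputable def UT : List ℕ := [0x42000840000]
noncomputable def I : ℕ := 0xffffffffffffffffffffffffffffffffffffffffffffffffffffffffff0204ff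
noncomputable def E0 : List (ℕ × ℕ × ℕ × List ℕ) := [(0, 0x42, 65, [4163]),
  (1, 0x421, 0, [2120,65606]),
  (1, 0x842, 0, [4232,65670])]
noncomputable def E : List (ℕ × ℕ × ℕ × List ℕ) := (E0 ++ [])
noncomputable def Y : List (List ℕ) := [[65607],
  [65671]]
noncomputable def CL : List (List ℕ × ℕ × ℕ) := [([4161], 3, 0x8)]
noncomputable def CF : List (List ℕ) := [[],
  [0x1000],
  [0x8, 0x40000]]
noncomputable def Ls : List Lv := [⟨0x1, [0x1], [0,0], 0x100000000000000000000000000000000000000000000000000000000000000010000000000000000000000000000000000000000000000000000000000000000, 66979525, 883, 3⟩,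
  ⟨0x70, [0x2], [0,0], 0x20000000000000000000000000000000000000000000000000000000000000000000000000000000000000000000000000000000000000000000000000000000000000000000000000000000000000000000000000000000000000000000000000000000000000000000000000000000000000000000000000000000000000000000000000000000000000000000000000000000000000000000000000000000000000000000000000000000000000000000000000000000000000000000000000000000000000000000000000000000000000000000000000000000000000000, 252750039, 2604, 3⟩]
theorem e0 : allM (chkEq (slot T 18 0x40000) 1024 33 9 1056 (hmask 1056) (fun f => slot (nthD QT 0 f) 18 0x40000) (fun f => slot (nthD UT 0 f) 18 0x40000)) E0 = true := by decide +kernel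
theorem r0 : relChkM (AltM.C7).mul (AltM.C7).one (cod L (AltM.C7).one I) (slot T 18 0x40000) 33 0 3 = true := by decide +kernel
theorem f0 : fusChkM (AltM.C7).mul (AltM.C7).one (cod L (AltM.C7).one I) (fun f => slot (nthD QT 0 f) 18 0x40000) (fun f => slot (nthD UT 0 f) 18 0x40000) 0 1 = true := by decide +kernel
theorem h0 : finChk (slot T 18 0x40000) 33 9 1056 (hmask 1056) 14 (E.map fun e => e.2.2.2) Y CL CF 0 3 = true := by decide +kernel
theorem c0 : lbM (AltM.C7).mul (AltM.C7).one (fun w => mulW (AltM.C7).mul (cod L (AltM.C7).one I) 65 w (AltM.C7).one) Ls (fun _ => true) = true := by decide +kernel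
theorem main : NoStem (alternatingGroup (Fin 7)) (3 ^ 2) :=
  noStem_of_codes (MonoidHom.id _) (MW.altM_inj) (AltM.can7) good (MV.hz1 _ _) (MV.hz01) (by norm_num) (AltM.card7)
    (n := 2) (K := 1024) (REP := 33) (q := 9) (T := T) (W := 18) (PW := 0x40000) (QT := QT) (UT := UT) (I := I) (N := 1056) (S := 14) (Ls := Ls)
    (by decide +kernel) ((Cov.zero _).step r0)
    ((Cov.zero _).step f0) c0 (E := E) (allM_app e0 (fun _ h => absurd h List.not_mem_nil))
    (Y := Y) (CL := CL) (CF := CF) ((Cov.zero _).step h0)
end H65.EA7P3
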