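import Cfsg.Agent.H65.SFP3a
import Mathlib.Algebra.QuadraticAlgebra.Basic

/-! STD-F4 job `P3b`, part 2: the ring and the twisted coordinates. -/

set_option autoImplicit false
set_option linter.unusedSectionVars false
set_option synthInstance.maxSize 2000

namespace H65.SF3

open Cfsg.Lie H63 H64 Subgroup H64.SF
open H64.SG (Cz Cs Ns cjs mem_Cs mem_Cz)
open H67.SA (cm)
open H59.SO (B1)
open H86.WR (XF)
open H46.SF (sh)

universe u

variable {F : Type} [Field F] [Finite F] [CharP F 2] {G : Type u} [Group G]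
  {e : XF F →* G} {t : G} {k : F} {A : ℕ → Subgroup G} {r s : ℕ} {z : ℕ → F → G}

theorem X_add' (hr : r < 48) (c d : F) (g : G) : X e r c * (X e r d * g) = X e r (c + d) * g := by
  rw [← mul_assoc, X_add hr]

theorem cg {a a' : F} {g g' : G} (h1 : a = a') (h2 : g = g') : X e r a * g = X e r a' * g' := by
  rw [h1, h2]

variable (e k z) in
/-- The action of a Weyl word on the `z r`. -/
def Nw (w : List ℕ) : Prop := ∀ r, S r → ∀ c,
  κ e (nW F w) (z r c) = X e (act w r) ((w.countP sh : ℕ) * (k * c)) * z (act w r) c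

theorem Nw.word {w : List ℕ} (hw : ∀ s ∈ w, s < 48 ∧ Nw e k z [s]) : Nw e k z w := by
  intro r hr c
  induction w with
  | nil => simp [X_zero (e := e) hr.1]
  | cons s w ih =>
    have h1 : ∀ v ∈ w, v < 48 ∧ Nw e k z [v] := fun v hv => hw v (List.mem_cons_of_mem _ hv)
    have h2 := S_act (fun v hv => (h1 v hv).1) hr
    obtain ⟨h3, h4⟩ := hw s List.mem_cons_self
    have h5 := h4 _ h2 c
    rw [nW_cons, nW_nil, mul_one] at h5
    rw [nW_cons, κ_mul, ih h1, map_mul, h5, κ_n h3 h2.1, ← mul_assoc, act_cons, act_cons, act_nil,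
      X_add (rf_lt s h3 _ h2.1).1, ← add_mul, ← Nat.cast_add, ← List.countP_append,
      List.countP_append, List.countP_cons (l := w), List.countP_singleton]

variable (e t k A z) in
/-- The elements `c η` of the big root subgroups. -/
structure CZ : Prop extends E e t k A where
  mem : ∀ {r}, S r → ∀ c, z r c ∈ A r
  sig : ∀ {r}, S r → ∀ c, MulAut.conj t (z r c) = X e r c * z r c
  zero : ∀ {r}, S r → z r 0 = 1
  nw : ∀ {w}, Wd w → Nw e k z w
  hc : ∀ {r s}, S r → s < 48 → ∀ {l : F}, l ≠ 0 → ∀ c,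
    κ e (h F s l) (z r c) = z r (l ^ ex s r * c)

theorem E.exists_z (H : E e t k A) : ∃ z, CZ e t k A z := by
  classical
  obtain ⟨η, hη, i⟩ := H.onto 44 s44 1
  rw [sig_iff H.b] at i
  have e47 : ∀ {l : F}, l ≠ 0 → ∀ c, κ e (h F 47 l) (X e 44 c) = X e 44 (l * c) := fun hl c => by
    rw [κ_h (by decide) s44.1 hl, show ex 47 44 = 1 by decide +kernel, zpow_one]
  let ζ : F → G := fun c => if c = 0 then 1 else κ e (h F 47 c) η
  have ζA : ∀ c, ζ c ∈ A 44 := fun c => by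
    by_cases hc : c = 0
    · simp [ζ, hc]
    · simp only [ζ, if_neg hc]; exact H.hA s44 (by decide) hc hη
  have ζs : ∀ c, MulAut.conj t (ζ c) = X e 44 c * ζ c := fun c => by
    by_cases hc : c = 0
    · simp [ζ, hc, X_zero (e := e) s44.1]
    · simp only [ζ, if_neg hc]; rw [sig_κ H.b, i, map_mul, e47 hc, mul_one]
  let z : ℕ → F → G := fun r c =>
    X e r (((wd0 r).countP sh : ℕ) * (k * c)) * κ e (nW F (wd0 r)) (ζ c)
  have s1 : ∀ s ∈ [24, 25, 27, 33], Nw e k z [s] := fun s hs r hr c => by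
    have h1 : s < 48 := wd_of_simple (w := [s]) (by simpa using hs) s (by simp)
    have h2 : S (rf s r) := S_act (w := [s]) (by simp [Wd, h1]) hr
    have h3 := (CharP.natCast_eq_natCast F 2).2 (tpar s hs r hr.1 hr.2)
    simp only [z, nW_cons, nW_nil, mul_one, act_cons, act_nil]
    rw [map_mul, κ_n h1 hr.1, ← κ_mul, n_mul_wd0 hs hr, κ_mul,
      H.stabw (stb_spec s hs r hr.1 hr.2).1 (ζA c) (ζs c), map_mul, κ_nW (wd0_S h2).1 s44.1,
      (wd0_S h2).2, X_add' h2.1, X_add' h2.1]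
    rw [List.countP_append, List.countP_cons] at h3
    rw [List.countP_singleton]
    push_cast at h3 ⊢
    exact cg (by grind) rfl
  have s2 : ∀ s < 48, Nw e k z [s] := fun s hs r hr c => by
    obtain ⟨h1, h2, h3, h4⟩ := wdS_spec s hs
    have := Nw.word (fun v hv => ⟨h2 v hv, s1 v (h1 v hv)⟩) r hr c
    rw [← n_eq_nW hs, act_ext h2 (w := [s]) (by simp [Wd, hs]) h4 r hr.1,
      CharP.cast_eq_mod F 2, h3] at this
    rw [nW_cons, nW_nil, mul_one, this, List.countP_singleton]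
  refine ⟨z, H, fun {r} hr c => mul_mem (H.xA hr _) ?_, fun {r} hr c => ?_, fun {r} hr => ?_,
    fun hw => Nw.word fun s hs => ⟨hw s hs, s2 s (hw s hs)⟩, fun {r s} hr hs {l} hl c => ?_⟩
  · simpa [(wd0_S hr).2] using H.nA (wd0_S hr).1 s44 (ζA c)
  · simp only [z]
    rw [map_mul, sig_e H.b, sig_κ H.b, ζs, map_mul, κ_nW (wd0_S hr).1 s44.1, (wd0_S hr).2,
      X_add' hr.1, X_add' hr.1, add_comm]
  · simp [z, ζ, X_zero (e := e) hr.1]
  · obtain ⟨h1, h2⟩ := wd0_S hr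
    simp only [z]
    rw [map_mul, κ_h hs hr.1 hl]
    refine cg (by ring) ?_
    by_cases hc : c = 0
    · simp [ζ, hc]
    have hm := mul_ne_zero (zpow_ne_zero (ex s r) hl) hc
    simp only [ζ, if_neg hc, if_neg hm]
    have := H.torus s44 (mul_mem (mul_mem (inv_mem (h_DS (s := 47) (by decide) hm))
      (DS_nW h1 (h_DS hs hl))) (h_DS (s := 47) (by decide) hc)) hη (by
        rw [κ_mul, κ_mul, κ_mul, κ_mul]
        refine H.hA_inv s44 (by decide) hm (H.nA_inv h1 s44 ?_)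
        rw [h2]
        exact H.hA hr hs hl (by simpa [h2] using H.nA h1 s44 (H.hA s44 (by decide) hc hη)))
      fun d => by
        have k1 := fun c => κ_nW (e := e) h1 s44.1 c
        rw [h2] at k1
        rw [κ_mul, κ_mul, κ_mul, κ_mul, e47 hc, k1, κ_h hs hr.1 hl, ← mul_assoc, ← k1,
          ← κ_mul (nW F _)⁻¹, inv_mul_cancel, ← e47 hm, ← κ_mul, ← κ_mul, mul_one, inv_mul_cancel]
        simp
    conv_rhs => rw [← this]
    simp only [← κ_mul]
    congr 2; group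

namespace CZ

variable (h : CZ e t k A z)
include h

theorem dec (hr : S r) {a : G} (ha : a ∈ A r) : ∃ c d, a = X e r c * z r d := by
  obtain ⟨d, i⟩ := h.sg hr ha
  obtain ⟨c, j⟩ := h.diff hr ha (h.mem hr d) i (h.sig hr d)
  exact ⟨c, d, j⟩

theorem n1 (hr : S r) (hs : s < 48) (c : F) :
    κ e (n F s) (z r c) = X e (rf s r) (if sh s then k * c else 0) * z (rf s r) c := by
  have := h.nw (w := [s]) (by simp [Wd, hs]) r hr c
  rw [nW_cons, nW_nil, mul_one, List.countP_singleton] at this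
  rw [this]
  cases sh s <;> simp

theorem zR (hr : S r) (hs : S s) (i : ip r s = -2) (a b : F) :
    cm (z r a) (X e s b) = X e (ad r s) (k * (a * b)) * z (ad r s) (a * b) := by
  obtain ⟨⟨k1, k2, -⟩, -, -, v, hv, v1, v2, v3⟩ := t120 r hr.1 s hs.1 hr.2 hs.2 i
  by_cases hb : b = 0
  · simp [hb, h.zero k1, X_zero (e := e) hs.1, X_zero (e := e) k1.1, cm]
  have e1 := congrArg (κ e (SF.h F v b)) (h.R1 hr hs i (h.mem hr a))
  rw [h.n1 hr hs.1, k2, if_pos hs.2, map_cm, map_mul, h.hc hr hv hb, h.hc k1 hv hb, κ_h hv hs.1 hb,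
    κ_h hv k1.1 hb, v1, v2, v3, zpow_zero, zpow_one, one_mul, mul_one, mul_left_comm b,
    mul_comm b] at e1
  exact e1

theorem zL (hr : S r) (hs : S s) (i : ip r s = -2) (a b : F) :
    cm (X e r a) (z s b) = X e (ad r s) (k * (a * b)) * z (ad r s) (a * b) := by
  obtain ⟨⟨k1, -, k2, -⟩, -⟩ := t120 r hr.1 s hs.1 hr.2 hs.2 i
  rw [cm_swap, h.zR hs hr (by rw [ip_comm, i]), k2, h.inv k1 (mul_mem (h.xA k1 _) (h.mem k1 _)),
    mul_comm b]

/-- Expansion of a commutator. -/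
theorem exp (hr : S r) (hs : S s) (i : ip r s = -2) {a a' b b' : G} (ha : a ∈ A r)
    (ha' : a' ∈ A r) (hb : b ∈ A s) (hb' : b' ∈ A s) :
    cm (a * a') (b * b') = cm a b * cm a' b * (cm a b' * cm a' b') := by
  obtain ⟨⟨k1, -⟩, -, ⟨k2, k3⟩, -⟩ := t120 r hr.1 s hs.1 hr.2 hs.2 i
  have N := h.neg2 r s hr hs i
  have e1 : ∀ {b}, b ∈ A s → cm (a * a') b = cm a b * cm a' b := fun hb => by
    rw [cm_mul_left (h.c2 hr k1 k2 ha (N _ ha' _ hb)), (h.ab k1 (N _ ha' _ hb) (N _ ha _ hb)).eq]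
  rw [cm_mul_right (h.c2 hs k1 k3 hb (N _ (mul_mem ha ha') _ hb')), e1 hb, e1 hb']

theorem add (hr : S r) (a b : F) : z r a * z r b = z r (a + b) := by
  obtain ⟨-, p, hp, k1, k2, k3, k4⟩ := tsum r hr.1 hr.2
  have e1 := fun c => h.zR ⟨hp, k1⟩ k2 k3 1 c
  simp only [one_mul, k4] at e1
  have e2 := h.exp ⟨hp, k1⟩ k2 k3 (h.mem ⟨hp, k1⟩ 1) (one_mem _) (h.xA k2 a) (h.xA k2 b)
  rw [mul_one, X_add k2.1, e1, e1, e1, cm_one_left, cm_one_left, mul_one, mul_one,
    (h.ab hr (h.mem hr a) (h.xA hr _)).mul_mul_mul_comm, X_add hr.1, ← mul_add] at e2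
  exact (mul_left_cancel e2).symm

theorem sw (hr : S r) (a b a' b' : F) :
    X e r a * z r b * (X e r a' * z r b') = X e r (a + a') * z r (b + b') := by
  rw [(h.ab hr (h.mem hr b) (h.xA hr _)).mul_mul_mul_comm, X_add hr.1, h.add hr]

theorem inj (hr : S r) {a b : F} (i : X e r a * z r b = 1) : a = 0 ∧ b = 0 := by
  have e1 := congrArg (MulAut.conj t) i
  rw [map_mul, sig_e h.b, h.sig hr, map_one, ← i, mul_right_inj, mul_eq_right,
    ← X_zero (e := e) hr.1] at e1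
  obtain rfl := h.X_inj hr.1 e1
  rw [h.zero hr, mul_one, ← X_zero (e := e) hr.1] at i
  exact ⟨h.X_inj hr.1 i, rfl⟩

theorem inj2 (hr : S r) {a b a' b' : F} (i : X e r a * z r b = X e r a' * z r b') :
    a = a' ∧ b = b' := by
  have := h.inj hr (a := a + a') (b := b + b') (by
    rw [← h.sw hr, i]; exact h.sq r hr _ (mul_mem (h.xA hr _) (h.mem hr _)))
  rwa [CharTwo.add_eq_zero, CharTwo.add_eq_zero] at this

/-- The commutator formula from its value at `(η, η)`. -/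
theorem full (hr : S r) (hs : S s) (i : ip r s = -2) {δ a b : F}
    (hδ : cm (z r a) (z s b) = X e (ad r s) δ * z (ad r s) (a * b)) (c d : F) :
    cm (X e r c * z r a) (X e s d * z s b) =
      X e (ad r s) (c * d + k * (a * d + c * b) + δ) * z (ad r s) (a * d + c * b + a * b) := by
  obtain ⟨⟨k1, -⟩, -⟩ := t120 r hr.1 s hs.1 hr.2 hs.2 i
  rw [h.exp hr hs i (h.xA hr c) (h.mem hr a) (h.xA hs d) (h.mem hs b), X_c1 hr hs i, h.zR hr hs i,
    h.zL hr hs i, hδ, X_add' k1.1, h.sw k1, h.sw k1]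
  exact cg (by ring) (congrArg _ (by ring))

theorem zz1 (hr : S r) (hs : S s) (i : ip r s = -2) :
    ∃ δ, cm (z r 1) (z s 1) = X e (ad r s) δ * z (ad r s) (1 * 1) := by
  obtain ⟨⟨k1, -⟩, -⟩ := t120 r hr.1 s hs.1 hr.2 hs.2 i
  obtain ⟨δ, γ, j⟩ := h.dec k1 (h.neg2 r s hr hs i _ (h.mem hr 1) _ (h.mem hs 1))
  have e1 := congrArg (MulAut.conj t) j
  rw [map_cm, map_mul, sig_e h.b, h.sig hr, h.sig hs, h.sig k1,
    h.exp hr hs i (h.xA hr 1) (h.mem hr 1) (h.xA hs 1) (h.mem hs 1), X_c1 hr hs i, h.zR hr hs i,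
    h.zL hr hs i, j, X_add' k1.1, h.sw k1, h.sw k1, X_add' k1.1] at e1
  exact ⟨δ, by rw [j, show γ = 1 * 1 by have := (h.inj2 k1 e1).1; grind]⟩

theorem zz_act {w : List ℕ} (hw : Wd w) (hr : S r) (hs : S s) (i : ip r s = -2) {δ δ' : F}
    (h1 : cm (z r 1) (z s 1) = X e (ad r s) δ * z (ad r s) (1 * 1))
    (h2 : cm (z (act w r) 1) (z (act w s) 1) =
      X e (ad (act w r) (act w s)) δ' * z (ad (act w r) (act w s)) (1 * 1)) :
    δ' = δ + (w.countP sh : ℕ) * k + ((w.countP sh : ℕ) * k) ^ 2 := by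
  obtain ⟨⟨k1, -⟩, -⟩ := t120 r hr.1 s hs.1 hr.2 hs.2 i
  have e1 := congrArg (κ e (nW F w)) h1
  rw [map_cm, map_mul, h.nw hw r hr, h.nw hw s hs, h.nw hw _ k1, κ_nW hw k1.1,
    h.full (S_act hw hr) (S_act hw hs) (by rw [ip_act hw hr.1 hs.1, i]) h2,
    ad_act hw hr.1 hs.1 k1.1, X_add' (act_lt hw k1.1).1] at e1
  have := (h.inj2 (S_act hw k1) e1).1
  grind

theorem kk : k * k = k := by
  have s7 : S 7 := by decide +kernel
  obtain ⟨δ, h1⟩ := h.zz1 s44 s7 (by decide +kernel)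
  have s33 : S (ad 44 7) := by decide +kernel
  have := h.zz_act (w := [33, 44, 29, 28, 27]) (by decide) s44 s7 (by decide +kernel) h1 (δ' := δ) (by
    rw [show act [33, 44, 29, 28, 27] 44 = 7 by decide +kernel,
      show act [33, 44, 29, 28, 27] 7 = 44 by decide +kernel, cm_swap, h1,
      h.inv s33 (mul_mem (h.xA s33 _) (h.mem s33 _)), show ad 7 44 = ad 44 7 by decide +kernel])
  rw [show List.countP sh [33, 44, 29, 28, 27] = 2 * 2 + 1 by decide +kernel] at this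
  push_cast at this
  grind

theorem zz : ∃ δ, ∀ r s, S r → S s → ip r s = -2 → ∀ a b,
    cm (z r a) (z s b) = X e (ad r s) (δ * (a * b)) * z (ad r s) (a * b) := by
  have s7 : S 7 := by decide +kernel
  obtain ⟨δ, h1⟩ := h.zz1 s44 s7 (by decide +kernel)
  refine ⟨δ, fun r s hr hs i a b => ?_⟩
  obtain ⟨δ', h2⟩ := h.zz1 hr hs i
  obtain rfl : δ' = δ := by
    obtain ⟨w, hw, rfl, rfl⟩ := pair_tr hr hs i
    have e1 : ((w.countP sh : ℕ) : F) ^ 2 = (w.countP sh : ℕ) := by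
      rw [← frobenius_def, map_natCast]
    rw [h.zz_act hw s44 s7 (by decide +kernel) h1 h2, mul_pow, e1, sq, h.kk, add_assoc,
      CharTwo.add_self_eq_zero, add_zero]
  obtain ⟨⟨k1, -, k2, -⟩, -, -, v, hv, v1, v2, v3⟩ := t120 r hr.1 s hs.1 hr.2 hs.2 i
  obtain ⟨-, -, -, v', hv', w1, w2, w3⟩ := t120 s hs.1 r hr.1 hs.2 hr.2 (by rw [ip_comm, i])
  by_cases ha : a = 0
  · simp [ha, h.zero hr, h.zero k1, X_zero (e := e) k1.1, cm]
  by_cases hb : b = 0
  · simp [hb, h.zero hs, h.zero k1, X_zero (e := e) k1.1, cm]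
  rw [k2] at w3
  have e1 := congrArg (κ e (SF.h F v' a)) (congrArg (κ e (SF.h F v b)) h2)
  rw [map_cm, map_cm, map_mul, map_mul] at e1
  simp only [h.hc hr hv hb, h.hc hs hv hb, h.hc k1 hv hb, κ_h hv k1.1 hb,
    h.hc hr hv' ha, h.hc hs hv' ha, h.hc k1 hv' ha, κ_h hv' k1.1 ha, v1, v2, v3, w1, w2, w3,
    zpow_zero, zpow_one, one_mul, mul_one] at e1
  rw [e1, ← mul_assoc a, mul_comm _ δ']

theorem exp0 (hr : S r) (hs : S s) (i : ip r s = 0) {a a' b b' : G} (ha : a ∈ A r)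
    (ha' : a' ∈ A r) (hb : b ∈ A s) (hb' : b' ∈ A s) :
    cm (a * a') (b * b') = cm a' b * cm a b * (cm a' b' * cm a b') := by
  obtain ⟨⟨k1, -, k2, k3⟩, -⟩ := t90 r hr.1 s hs.1 hr.2 hs.2 i
  have N : ∀ {a b}, a ∈ A r → b ∈ A s → ∃ c, cm a b = X e (ad r s) c := fun ha hb => by
    obtain ⟨u, hu, j⟩ := h.pol r s hr hs i _ ha _ hb
    obtain ⟨c, rfl⟩ := (mem_Z k1).1 hu
    exact ⟨c, j.symm⟩
  have e1 : ∀ {b}, b ∈ A s → cm (a * a') b = cm a' b * cm a b := fun hb => by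
    obtain ⟨c, j⟩ := N ha' hb
    exact cm_mul_left (j ▸ (h.cx hr k2 ha c).symm)
  obtain ⟨c, j⟩ := N (mul_mem ha ha') hb'
  rw [cm_mul_right (j ▸ (h.cx hs k3 hb c).symm), e1 hb, e1 hb']

theorem z0R (hr : S r) (hs : S s) (i : ip r s = 0) (a b : F) :
    cm (z r a) (X e s b) = X e (ad r s) (k * a * b) := h.tc' hr (h.mem hr a) (h.sig hr a) hs i b

theorem z0L (hr : S r) (hs : S s) (i : ip r s = 0) (a b : F) :
    cm (X e r a) (z s b) = X e (ad r s) (k * b * a) := by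
  obtain ⟨⟨k1, k2, -⟩, -⟩ := t90 r hr.1 s hs.1 hr.2 hs.2 i
  rw [cm_swap, h.z0R hs hr (by rw [ip_comm, i]), k2, X_inv k1]

theorem X0 (hr : S r) (hs : S s) (i : ip r s = 0) (a b : F) : cm (X e r a) (X e s b) = 1 := by
  rw [cm, (X_c0 hr.1 hs.1 i.ge a b).mul_inv_cancel, mul_inv_cancel]

theorem z0 (hr : S r) (hs : S s) (i : ip r s = 0) (a b : F) : cm (z r a) (z s b) = 1 := by
  obtain ⟨δ, hδ⟩ := h.zz
  obtain ⟨⟨k0, -⟩, p, hp, k1, k2, k3, k4, k5, k6, k7, k8, k9⟩ := t90 r hr.1 s hs.1 hr.2 hs.2 i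
  generalize ad s (47 - p) = q at *
  have sp : S p := ⟨hp, k1⟩
  have sw := (t120 r hr.1 q k3.1 hr.2 k3.2 k6).1.1
  have e1 := h.zL sp k3 k4 1 b
  rw [k5, one_mul] at e1
  have e2 := hδ r q hr k3 k6 a b
  have c1 := h.c2 hr sp k2 (h.mem hr a) (h.xA sp 1)
  have c2 := h.c2 sw hs (by rw [ip_comm, k9]) (e2 ▸ mul_mem (h.xA sw _) (h.mem sw _))
    (e1 ▸ mul_mem (h.xA hs _) (h.mem hs _))
  have e3 : cm (z r a) (cm (X e p 1) (z q b)) = cm (X e p 1) (cm (z r a) (z q b)) := by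
    have := cm_mul_right (a := X e p 1) c2
    rw [show cm (z r a) (z q b) * z q b = MulAut.conj (z r a) (z q b) from inv_mul_cancel_right _ _,
      ← show MulAut.conj (z r a) (X e p 1) = X e p 1 from c1.mul_inv_cancel, ← map_cm,
      show MulAut.conj (z r a) (X e p 1) = X e p 1 from c1.mul_inv_cancel] at this
    exact mul_inv_eq_iff_eq_mul.2 this
  have f1 := h.exp0 hr hs i (h.mem hr a) (one_mem _) (h.xA hs (k * b)) (h.mem hs b)
  have f2 := h.exp0 sp sw k7 (h.xA sp 1) (one_mem _) (h.xA sw (δ * (a * b))) (h.mem sw (a * b))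
  rw [mul_one, cm_one_left, cm_one_left, one_mul, one_mul] at f1 f2
  rw [e1, e2, f1, f2, h.z0R hr hs i, h.X0 sp sw k7, h.z0L sp sw k7, k8, one_mul,
    show k * a * (k * b) = k * (a * b) * 1 by linear_combination a * b * h.kk] at e3
  exact mul_eq_left.1 e3

theorem sy : ∃ (kb : Bool) (R : Type) (_ : CommRing R) (ι : F →+* R) (σ : RingAut R) (η : R)
    (y : ℕ → R → G), SY e (MulAut.conj t) kb ι σ η y := by
  classical
  obtain ⟨δ, hδ⟩ := h.zz
  have kb : ∀ c, k * c = if decide (k = 1) = true then c else 0 := fun c => by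
    by_cases h1 : k = 1
    · simp [h1]
    · have : k * (k - 1) = 0 := by linear_combination h.kk
      simp [h1, (mul_eq_zero.1 this).resolve_right (sub_ne_zero.2 h1)]
  have M : ∀ {r}, S r → ∀ a b, X e r a * z r b ∈ A r := fun hr a b => mul_mem (h.xA hr a) (h.mem hr b)
  refine ⟨decide (k = 1), QuadraticAlgebra F (δ + k) 1, inferInstance, algebraMap F _, starRingAut,
    ⟨0, 1⟩, fun r a => X e r a.re * z r a.im, ⟨?_, QuadraticAlgebra.algebraMap_injective,
      star_star, fun a => ⟨fun i => ⟨a.re, ?_⟩, ?_⟩, ?_⟩, fun r hr a b => h.sw hr .., fun r hr a i => ?_,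
    fun r hr c => ?_, sig_e h.b, fun r hr a => ?_,
    fun r hr s hs a c => (h.cx hr hs (M hr ..) c).symm, fun r hr s hs a => ?_,
    fun r s hr hs i a b => h.c2 hr hs i (M hr ..) (M hs ..), fun r s hr hs i a b => ?_,
    fun r s hr hs i a b c j => ?_⟩
  · rw [Nat.card_congr (QuadraticAlgebra.equivProd _ _), Nat.card_prod, sq]
  · have := congrArg QuadraticAlgebra.re i
    ext
    · rfl
    · simpa [eq_comm] using this
  · rintro ⟨c, rfl⟩
    ext <;> simp
  · ext <;> simp [CharTwo.neg_eq, QuadraticAlgebra.re_one, QuadraticAlgebra.im_one]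
  · exact QuadraticAlgebra.ext (h.inj hr i).1 (h.inj hr i).2
  · simp [h.zero hr]
  · rw [map_mul, sig_e h.b, h.sig hr, ← mul_assoc, X_add hr.1]
    simp [CharTwo.neg_eq]
  · change κ e (n F s) _ = _
    rw [map_mul, κ_n hs hr.1, h.n1 hr hs, ← mul_assoc, X_add (rf_lt s hs r hr.1).1, kb]
    cases sh s <;> cases decide (k = 1) <;> simp [CharTwo.neg_eq]
  · rw [h.full hr hs i (hδ r s hr hs i _ _)]
    have k1 := kb 1
    revert k1
    cases decide (k = 1) <;> intro k1 <;> simp only [mul_one, if_true, Bool.false_eq_true,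
      if_false] at k1 ⊢ <;> subst k1 <;>
      exact cg (by simp; grind) (congrArg _ (by simp; grind))
  · obtain ⟨⟨k0, -⟩, -⟩ := t90 r hr.1 s hs.1 hr.2 hs.2 i
    have := congrArg QuadraticAlgebra.re j
    simp at this
    rw [h.exp0 hr hs i (h.xA hr _) (h.mem hr _) (h.xA hs _) (h.mem hs _), h.z0 hr hs i,
      h.z0R hr hs i, h.z0L hr hs i, h.X0 hr hs i, mul_one, one_mul, X_add k0, ← kb, this]
    congr 2
    grind

end CZ

theorem jobP3b : JobP3b.{u} := fun _ _ _ _ _ _ _ _ _ _ _ ch M => by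
  obtain ⟨z, h⟩ := E.exists_z ⟨M, ch.toB1⟩
  exact h.sy

end H65.SF3
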