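/- Tower NF, chapter TE: growth of normalisers with an operator group (job TE1-UP). -/
import Cfsg.Agent.H28.TESpec
import Cfsg.Agent.H94.FED0

set_option autoImplicit false

namespace H65.TeUP

open Cfsg Subgroup H14 H98 H1.Gold H31.S2 H14.GC H14.FE H14.NF
open scoped commutatorElement

universe u

theorem jobUP : H28.TE.JobUP.{u} := by
  intro G _ _ R T A pR pT nR nA lt
  have : Fact (Nat.Prime 2) := ⟨Nat.prime_two⟩
  have pH : IsPGroup 2 (R ⊔ T : Subgroup G) := pR.to_sup_of_normal_left' pT nR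
  have := pH.isNilpotent
  obtain ⟨x, ⟨x1, x2⟩, x3⟩ := SetLike.exists_of_lt (lt_inf_normalizer pR lt)
  obtain ⟨⟨w, m0⟩, ⟨w1, w2, w3⟩, w4⟩ := H94.FE.desc (H := (R ⊔ T : Subgroup G))
    (p := fun w => w.1 ∈ R ∧ w.1 ∈ normalizer (A : Set G) ∧ w.1 ∉ A)
    (x := ⟨x, mem_sup_left x1⟩) ⟨x1, x2, x3⟩ fun h => h.2.2 (one_mem A)
  have w1 : w ∈ R := w1
  have w2 : w ∈ normalizer (A : Set G) := w2
  have w3 : w ∉ A := w3
  have c1 : ∀ t ∈ T, ⁅t, w⁆ ∈ A := by
    intro t ht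
    have e : ⁅t, w⁆ = (w * t * w⁻¹ * t⁻¹)⁻¹ := by
      rw [commutatorElement_def]
      group
    rw [e]
    refine inv_mem ?_
    by_contra hne
    refine w4 ⟨t, mem_sup_right ht⟩ ⟨?_, ?_, hne⟩
    · have := mul_mem w1 ((mem_normalizer_iff.1 (nR ht) _).1 (inv_mem w1))
      rw [← mul_assoc, ← mul_assoc] at this
      exact this
    · exact mul_mem (mul_mem (mul_mem w2 (nA ht)) (inv_mem w2)) (inv_mem (nA ht))
  have c2 : ∀ k : ℕ, ∀ t ∈ T, ⁅t, w ^ k⁆ ∈ A := by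
    intro k t ht
    induction k with
    | zero =>
      rw [pow_zero, commutatorElement_one_right]
      exact one_mem A
    | succ k ih =>
      have e : ⁅t, w ^ (k + 1)⁆ = ⁅t, w⁆ * (w * ⁅t, w ^ k⁆ * w⁻¹) := by
        rw [pow_succ']
        simp only [commutatorElement_def]
        group
      rw [e]
      exact mul_mem (c1 t ht) ((mem_normalizer_iff.1 w2 _).1 ih)
  obtain ⟨n, hn⟩ := pR ⟨w, w1⟩
  have hn' : w ^ 2 ^ n = 1 := congrArg Subtype.val hn
  obtain ⟨j, j1, j2⟩ := H94.FE.step (p := fun j => w ^ 2 ^ j ∉ A) (by simpa using w3) (n := n)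
    (by rw [hn', not_not]; exact one_mem A)
  rw [not_not, pow_succ, pow_mul, sq] at j2
  exact ⟨w ^ 2 ^ j, pow_mem w1 _, j1, pow_mem w2 _, j2, c2 _⟩

end H65.TeUP
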