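import Cfsg.Agent.H65.PaChk

/-! Parrott's theorem, job AM2: the amalgam over the field with two elements. -/

set_option autoImplicit false
set_option linter.unusedSectionVars false

namespace H65.PA

open H63.Oc Subgroup

universe u v

/-- the exponent -/
noncomputable def chkE : Bool := uS.frc fun u => mm true u u fun u => mm true u u fun u =>
  mm true u u fun u => mm true u u fun u => Nat.beq (u.neq (cv (on 12) 0)) 0

theorem runE : chkE = true := by decide +kernel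

variable {K : Type*} [Field K] [CharP K 2] {T : TF K} {G : Type*} [Group G] (D : CS T G)

theorem pow16 (hK : ∀ a : K, a = 0 ∨ a = 1) (c : Co T) : c ^ 16 = 1 := by
  have r := runE
  rw [chkE, V.frc_eq] at r
  obtain ⟨i, ho, u⟩ := exists_uS hK c
  obtain ⟨u, h, r⟩ := u.mm u r
  obtain ⟨u, h, r⟩ := h.mm h r
  obtain ⟨u, h, r⟩ := h.mm h r
  obtain ⟨u, h, r⟩ := h.mm h r
  have e := h.eq (R.c ho 0) (of_beq r i)
  simp only [← pow_two, ← pow_mul] at e
  exact e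

theorem n8_mul (t : Co T) : D.n8 * D.ι t = D.ι t.nu8 * D.n8 * D.ι (uu T t.b8 t.a8) := by
  let c : Co T := ⟨t.a1, t.b2, t.a2, t.a3, t.b4, t.a4, t.a5, t.b6, t.a6, t.a7, 0, 0⟩
  have e : t = c * uu T t.b8 t.a8 := by ext <;> simp [c, uu]
  have h : D.ι t.nu8 = _ := (D.n8_conj c ⟨rfl, rfl⟩).symm
  rw [h, mul_assoc _ D.n8 D.n8, D.n8_sq, mul_one, mul_assoc, ← map_mul, ← e]

theorem unit_eq (hK : ∀ a : K, a = 0 ∨ a = 1) (a : Kˣ) : a = 1 :=
  Units.ext ((hK a).resolve_left a.ne_zero)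

theorem rank8' (hK : ∀ a : K, a = 0 ∨ a = 1) {u : Co T} (hu : u ∈ sU8 T) (h1 : u ≠ 1) :
    ∃ t ∈ LK, u = el T t.b ∧ el T t.a ∈ sU8 T ∧ el T t.d ∈ sU8 T ∧
      D.n8 * D.ι u * D.n8 = D.ι (el T t.a) * D.n8 * D.ι (el T t.d) := by
  obtain ⟨u', hu', u'', hu'', p, h⟩ := D.rank8 u hu h1
  rw [show p = 1 from Subtype.ext (Prod.ext (unit_eq hK _) (unit_eq hK _)), map_one, mul_one] at h
  have up : ∀ w ∈ sU8 T, ∀ c ∈ sQ T, uu T (w * c).b8 (w * c).a8 = w := fun w hw c hc => by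
    ext <;> simp [uu, (mem_sU8 T).1 hw, hc.1, hc.2]
  obtain ⟨t, ht, rfl, rfl, rfl⟩ := rk_spec hK hu hu' hu'' h1 fun c hc => by
    have e1 := n8_mul D (u * c.nu8)
    have e2 := n8_mul D (u'' * c)
    rw [up u hu _ ⟨rfl, rfl⟩, map_mul] at e1
    rw [up u'' hu'' c hc, map_mul] at e2
    have e3 : D.n8 * D.ι c = D.ι c.nu8 * D.n8 := by
      rw [← D.n8_conj c hc, mul_assoc, D.n8_sq, mul_one]
    refine D.inj (mul_right_cancel (b := D.n8 * D.ι u'') ?_)
    rw [map_mul, map_mul]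
    calc _ = D.ι (u * c.nu8).nu8 * (D.ι u' * D.n8 * D.ι u'') := by group
      _ = D.ι (u * c.nu8).nu8 * D.n8 * D.ι u * D.n8 := by rw [← h]; group
      _ = D.n8 * D.ι u * (D.n8 * D.ι c) := by rw [← e1, e3]; group
      _ = D.ι u' * (D.n8 * (D.ι u'' * D.ι c)) := by rw [← mul_assoc, h]; group
      _ = _ := by rw [e2]; group
  exact ⟨t, ht, rfl, hu', hu'', h⟩

variable {D}

theorem exists_om (hK : ∀ a : K, a = 0 ∨ a = 1) (L : Loc D) {f : K →+ K} (h : Sp D f) :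
    ∃ ω ∈ normalizer (D.im (sW T) : Set G), ω ^ 3 = 1 ∧
      D.ι (x1 T 1) * ω * D.ι (x1 T 1) = ω⁻¹ ∧ ω * D.ι (x4 T 1) * ω⁻¹ = D.ι (x6 T 1) := by
  obtain ⟨g, hg, g1, g2⟩ := h.swap
  replace g1 := g1 1
  replace g2 := g2 1
  have hs : D.ι (x1 T 1) ∈ normalizer (D.im (sW T) : Set G) :=
    L.bh.nS _ (by simp) (le_normalizer ⟨_, rfl⟩)
  have c1 : D.ι (x1 T 1) * D.ι (x1 T 1) = 1 := by
    rw [← map_mul, ← map_one D.ι]; congr 1; ext <;> simp [x1, CharTwo.add_self_eq_zero]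
  have c2 : D.ι (x1 T 1) * D.ι (x4 T 1) * (D.ι (x1 T 1))⁻¹ = D.ι (x4 T 1) := by
    rw [mul_inv_eq_iff_eq_mul, ← map_mul, ← map_mul]; congr 1; ext <;> simp [x1, x4]
  have c3 : D.ι (x1 T 1) * D.ι (ww T 1 (f 1)) * (D.ι (x1 T 1))⁻¹ =
      D.ι (x4 T 1) * D.ι (ww T 1 (f 1)) := by
    rw [mul_inv_eq_iff_eq_mul, ← map_mul, ← map_mul, ← map_mul]; congr 1
    ext <;> simp [x1, x4, ww]; grind
  have c4 : D.ι (ww T 1 (f 1)) * D.ι (x4 T 1) = D.ι (x4 T 1) * D.ι (ww T 1 (f 1)) := by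
    rw [← map_mul, ← map_mul]; congr 1; ext <;> simp [x4, ww, add_comm]
  have c5 : D.ι (x4 T 1) * D.ι (x4 T 1) = 1 := by
    rw [← map_mul, ← map_one D.ι]; congr 1; ext <;> simp [x4, CharTwo.add_self_eq_zero]
  have c6 : D.ι (ww T 1 (f 1)) * D.ι (ww T 1 (f 1)) = 1 := by
    rw [← map_mul, ← map_one D.ι]; congr 1; ext <;> simp [ww, CharTwo.add_self_eq_zero]
  have c7 : ∀ c ∈ sW T, c = 1 ∨ c = x4 T 1 ∨ c = ww T 1 (f 1) ∨ c = x4 T 1 * ww T 1 (f 1) :=
    fun c hc => by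
      have := (mem_sW T).1 hc
      simp only [Co.ext_iff]
      rcases hK c.a4 with a | a <;> rcases hK c.a6 with b | b <;> rcases hK (f 1) with e | e <;>
        simp [x4, ww, this, a, b, e, CharTwo.add_self_eq_zero]
  have c8 : ww T 1 (f 1) = x6 T 1 ∨ x4 T 1 * ww T 1 (f 1) = x6 T 1 := (hK (f 1)).imp
    (fun e => by rw [e]; rfl) fun e => by ext <;> simp [x4, x6, ww, e, CharTwo.add_self_eq_zero]
  generalize hs' : D.ι (x1 T 1) = s at *
  generalize hz : D.ι (x4 T 1) = z at *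
  generalize hz' : D.ι (ww T 1 (f 1)) = z' at *
  have si : s⁻¹ = s := inv_eq_of_mul_eq_one_right c1
  have cm : ∀ a b c : G, a * (b * c) * a⁻¹ = a * b * a⁻¹ * (a * c * a⁻¹) := fun _ _ _ => by group
  obtain ⟨u, hu⟩ : ∃ u, u = s * (g * s * g⁻¹) := ⟨_, rfl⟩
  have u1 : u * z * u⁻¹ = z' := by
    calc _ = s * (g * (s * (g⁻¹ * (g * z' * g⁻¹) * g) * s⁻¹) * g⁻¹) * s⁻¹ := by rw [hu, g2]; group
      _ = s * (g * (s * z' * s⁻¹) * g⁻¹) * s⁻¹ := by group
      _ = _ := by rw [c3, cm g, g1, g2, cm, c3, c2, mul_assoc, c4, ← mul_assoc, c5, one_mul]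
  have u2 : u * z' * u⁻¹ = z * z' := by
    calc _ = s * (g * (s * (g⁻¹ * (g * z * g⁻¹) * g) * s⁻¹) * g⁻¹) * s⁻¹ := by rw [hu, g1]; group
      _ = s * (g * (s * z * s⁻¹) * g⁻¹) * s⁻¹ := by group
      _ = _ := by rw [c2, g1, c3]
  have u3 : u * (z * z') * u⁻¹ = z := by
    rw [cm, u1, u2, ← mul_assoc, c4, mul_assoc, c6, mul_one]
  have p3 : ∀ x : G, u ^ 3 * x * (u ^ 3)⁻¹ = u * (u * (u * x * u⁻¹) * u⁻¹) * u⁻¹ := fun x => by
    rw [pow_three']; group
  have v1 : u ^ 3 * z * (u ^ 3)⁻¹ = z := by rw [p3, u1, u2, u3]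
  have v2 : u ^ 3 * z' * (u ^ 3)⁻¹ = z' := by rw [p3, u2, u3, u1]
  obtain ⟨c, -, hc⟩ := L.cw (u ^ 3) fun c hc => by
    rw [← mul_inv_eq_iff_eq_mul]
    rcases c7 c hc with rfl | rfl | rfl | rfl
    · simp
    · rwa [hz]
    · rwa [hz']
    · rw [map_mul, hz, hz', cm, v1, v2]
  have w : ∀ x, u ^ 3 * x * (u ^ 3)⁻¹ = x → u ^ 16 * x * (u ^ 16)⁻¹ = u * x * u⁻¹ := fun x hx => by
    have := (Commute.pow_left (mul_inv_eq_iff_eq_mul.1 hx) 5).eq
    rw [show 16 = 1 + 3 * 5 from rfl, pow_add, pow_one, pow_mul, mul_assoc u, this]; group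
  have o3 : (u ^ 16) ^ 3 = 1 := by
    rw [← pow_mul, mul_comm, pow_mul, ← hc, ← map_pow, pow16 hK, map_one]
  have iv : ∀ k : ℕ, s * u ^ k * s = (u ^ k)⁻¹ := fun k => by
    have : s * u * s⁻¹ = u⁻¹ := by
      rw [hu, ← mul_assoc s s, c1, one_mul, mul_inv_rev, mul_inv_rev, mul_inv_rev, si, inv_inv,
        mul_assoc g]
    rw [← inv_pow, ← this, conj_pow, si]
  have nu : u ∈ normalizer (D.im (sW T) : Set G) :=
    hu ▸ mul_mem hs (mul_mem (mul_mem hg hs) (inv_mem hg))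
  rcases c8 with e | e
  · exact ⟨u ^ 16, pow_mem nu _, o3, iv _, by rw [w _ v1, u1, ← e, hz']⟩
  · refine ⟨u ^ 32, pow_mem nu _, ?_, iv _, ?_⟩
    · rw [show 32 = 16 * 2 from rfl, pow_mul, ← pow_mul _ 2, mul_comm, pow_mul, o3, one_pow]
    · calc _ = u ^ 16 * (u ^ 16 * z * (u ^ 16)⁻¹) * (u ^ 16)⁻¹ := by group
        _ = _ := by rw [w _ v1, u1, w _ v2, u2, ← e, map_mul, hz, hz']

theorem exists_n (hK : ∀ a : K, a = 0 ∨ a = 1) (L : Loc D) {f : K →+ K} (h : Sp D f) :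
    ∃ z ∈ TH, ∃ n : G, n * n = 1 ∧ (n * D.ι (el T 1)) ^ 3 = 1 ∧ ∀ c : Co T, c.a1 = 0 →
      n * D.ι (apC (elT T z.1) c) * n = D.ι (apC (elT T z.1) c.nu1) := by
  obtain ⟨ω, hω, o3, iv, hz⟩ := exists_om hK L h
  have hs : D.ι (x1 T 1) ∈ normalizer (D.im (sW T) : Set G) :=
    L.bh.nS _ (by simp) (le_normalizer ⟨_, rfl⟩)
  have c1 : D.ι (el T 1) * D.ι (el T 1) = 1 := by
    rw [← map_mul, ck_spec (c := 0) (by decide +kernel), el_zero, map_one]
  have cc : ∀ m l, ck 1 m l = true → ck m 1 l = true →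
      D.ι (el T 1) * D.ι (el T m) * D.ι (el T 1) = D.ι (el T m) := fun m l a b => by
    rw [← map_mul, ck_spec a, ← ck_spec b, map_mul, mul_assoc, c1, mul_one]
  obtain ⟨n, hn⟩ : ∃ n, n = ω * D.ι (el T 1) := ⟨_, rfl⟩
  have nW : n ∈ normalizer (D.im (sW T) : Set G) := hn ▸ mul_mem hω hs
  have n2 : n * n = 1 := by
    rw [hn, mul_assoc, ← mul_assoc _ ω]; exact (congrArg (ω * ·) iv).trans (mul_inv_cancel ω)
  have ni : n⁻¹ = n := inv_eq_of_mul_eq_one_right n2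
  have n3 : (n * D.ι (el T 1)) ^ 3 = 1 := by rw [hn, mul_assoc, c1, mul_one, o3]
  have ex : ∀ c : Co T, c.a1 = 0 → ∃ c' : Co T, c'.a1 = 0 ∧ n * D.ι c * n = D.ι c' := fun c hc => by
    obtain ⟨c', h1, h2⟩ := L.cw (n * D.ι c * n) fun w hw => by
      obtain ⟨w', hw', e⟩ := (mem_normalizer_iff.1 nW (D.ι w)).1 ⟨w, hw, rfl⟩
      have e2 : D.ι c * D.ι w' = D.ι w' * D.ι c := by
        rw [← map_mul, ← map_mul]; congr 1
        ext <;> simp [hc, (mem_sW T).1 hw', add_comm]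
      have e3 : D.ι w = n * D.ι w' * n := by
        rw [e, ni, ← mul_assoc, ← mul_assoc, n2, one_mul, mul_assoc, n2, mul_one]
      rw [e3]
      calc _ = n * D.ι c * (n * n) * D.ι w' * n := by group
        _ = n * D.ι w' * (n * n) * D.ι c * n := by
          rw [n2, mul_one, mul_one, mul_assoc n, e2, ← mul_assoc n]
        _ = _ := by group
    exact ⟨c', h1, h2.symm⟩
  have au : Au fun c c' : Co T => n * D.ι c * n = D.ι c' := ⟨hK, by simp [n2], fun h1 h2 => by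
      rw [map_mul, map_mul, ← h1, ← h2, mul_assoc (_ * _) n (_ * n), ← mul_assoc n _ n,
        ← mul_assoc n n, n2]
      group,
    fun h1 => by rw [← h1, ← mul_assoc, ← mul_assoc, n2, one_mul, mul_assoc, n2, mul_one],
    fun h1 h2 => D.inj (h1.symm.trans h2)⟩
  have nQ : n ∈ normalizer (D.im (sQ1 T) : Set G) := mem_normalizer_iff.2 fun x => ⟨by
    rintro ⟨c, hc, rfl⟩
    obtain ⟨c', h1, h2⟩ := ex c hc
    exact ⟨c', h1, by rw [ni, h2]⟩, by
    rintro ⟨c, hc, e⟩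
    obtain ⟨c', h1, h2⟩ := ex c hc
    exact ⟨c', h1, by
      rw [← h2, e, ni, ← mul_assoc, ← mul_assoc, n2, one_mul, mul_assoc, n2, mul_one]⟩⟩
  obtain ⟨a, a1, ha⟩ := ex (el T 1024) rfl
  obtain ⟨d, d1, hd⟩ := ex (el T 2) rfl
  obtain ⟨b, b1, hb⟩ := ex (el T 16) rfl
  obtain ⟨y, hy, e5⟩ := (mem_normalizer_iff.1 (L.bh.nQ1 (sA T) (by simp) nQ) (D.ι (el T 64))).1
    ⟨_, ⟨rfl, rfl, rfl, rfl, rfl, rfl, rfl, rfl, rfl⟩, rfl⟩
  replace e5 : n * D.ι (el T 64) * n = D.ι y := by rw [e5, ni]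
  replace hy := (mem_sA T).1 hy
  have h4 : n * D.ι (el T 32) * n = D.ι (el T 256) := by
    have := cc 32 33 (by decide +kernel) (by decide +kernel)
    calc _ = n * D.ι (el T 32) * n⁻¹ := by rw [ni]
      _ = ω * (D.ι (el T 1) * D.ι (el T 32) * (D.ι (el T 1))⁻¹) * ω⁻¹ := by rw [hn]; group
      _ = _ := by rw [inv_eq_of_mul_eq_one_right c1, this]; exact hz
  have su : Su (fun c c' : Co T => n * D.ι c * n = D.ι c') a d b :=
    { toAu := au, ha := ha, hd := hd, hb := hb, h4 := h4, a1 := a1, d1 := d1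
      h5 := fun y' h => by rw [au.fn h e5]; ext <;> simp [p, hy]
      br := by
        have e : n * D.ι (el T 1) * n = D.ι (el T 1) * n * D.ι (el T 1) := by
          rw [← mul_inv_eq_one, mul_inv_rev, mul_inv_rev, ni, inv_eq_of_mul_eq_one_right c1, ← n3,
            pow_three']
          group
        rw [map_mul, map_mul, ← hd]
        calc _ = n * D.ι (el T 1) * n * D.ι (el T 2) * (n * D.ι (el T 1) * n) := by group
          _ = D.ι (el T 1) * n * (D.ι (el T 1) * D.ι (el T 2) * D.ι (el T 1)) * n * D.ι (el T 1) := by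
            rw [e]; group
          _ = _ := by rw [cc 2 3 (by decide +kernel) (by decide +kernel)]; group }
  have r1 : a * y = y * x4 T 1 * a := au.fn (au.mul ha e5) (by
    have := au.mul (au.mul e5 (au.symm h4)) ha
    rwa [ck_spec (c := 320) (by decide +kernel), ck_spec (c := 1344) (by decide +kernel),
      ← ck_spec (a := 1024) (b := 64) (by decide +kernel)] at this)
  have r2 : y * d = d * x6 T 1 * y := au.fn (au.mul e5 hd) (by
    have := au.mul (au.mul hd h4) e5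
    rwa [ck_spec (c := 34) (by decide +kernel), ck_spec (c := 98) (by decide +kernel),
      ← ck_spec (a := 64) (b := 2) (by decide +kernel)] at this)
  have r3 : b * y = y * b := au.comm e5 hb 80 (by decide +kernel) (by decide +kernel)
  have s1 := congrArg Co.a4 r1
  have s2 := congrArg Co.a6 r1
  have s3 := congrArg Co.a4 r2
  have s4 := congrArg Co.a6 r2
  have s5 := congrArg Co.a4 r3
  have s6 := congrArg Co.a6 r3
  simp [x4, x6, hy, a1, d1, b1] at s1 s2 s3 s4 s5 s6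
  have y5 : y.a5 = 1 := (hK _).resolve_left fun e => by grind
  obtain ⟨z, hz, x, hx, H⟩ := conj_std su (by grind) (by grind) (by grind) (by grind) b1 (by grind)
    (by grind)
  refine ⟨z, hz, (D.ι x)⁻¹ * n * D.ι x, ?_, ?_, fun c hc => ?_⟩
  · calc _ = (D.ι x)⁻¹ * (n * n) * D.ι x := by group
      _ = 1 := by rw [n2]; group
  · rw [mul_assoc, ← map_mul, hx, map_mul, show (D.ι x)⁻¹ * n * (D.ι (el T 1) * D.ι x) =
      (D.ι x)⁻¹ * (n * D.ι (el T 1)) * (D.ι x)⁻¹⁻¹ by group, conj_pow, n3]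
    group
  · have := H c hc
    simp only [map_mul, map_inv] at this
    calc _ = (D.ι x)⁻¹ * (n * (D.ι x * D.ι (apC (elT T z.1) c) * (D.ι x)⁻¹) * n) * D.ι x := by group
      _ = _ := by rw [this]; group

theorem jobAM2 : JobAM2.{u, v} := by
  intro _ _ K _ _ _ T G _ _ D f hK L h
  obtain ⟨z, hz, n, n2, n3, hn⟩ := exists_n hK L h
  obtain ⟨θ, hθ, t⟩ := th_spec (T := T) hK hz
  generalize el T z.2 = q at t
  have cj : ∀ c ∈ sQ T, D.ι q * D.n8 * D.ι (θ c) * (D.ι q * D.n8) = D.ι (θ c.nu8) := fun c hc => by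
    have e := n8_mul D (θ c * q)
    rw [(t.n8 c hc).1.1, (t.n8 c hc).1.2, show uu T (0 : K) 0 = 1 from rfl, map_one, mul_one,
      map_mul] at e
    calc _ = D.ι q * (D.n8 * (D.ι (θ c) * D.ι q)) * D.n8 := by group
      _ = _ := by rw [e, ← (t.n8 c hc).2, map_mul, mul_assoc, mul_assoc, D.n8_sq, mul_one]
  have sq : D.ι q * D.n8 * (D.ι q * D.n8) = 1 := by
    have := cj 1 (one_mem _)
    rwa [show (1 : Co T).nu8 = 1 by ext <;> simp [Co.nu8], map_one, map_one, mul_one] at this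
  let D' : CS T G :=
    { ι := D.ι.comp θ, inj := D.inj.comp t.inj, n8 := D.ι q * D.n8, h0 := 1
      h0_conj := fun p c => by simp [unit_eq hK p.1.1, unit_eq hK p.1.2, dg_one]
      n8_sq := sq, n8_conj := cj
      n8_h0 := fun p => by simpa using sq
      rank8 := fun u hu h1 => by
        obtain ⟨r, hr, rfl, h2, h3, h4⟩ := rank8' D hK hu h1
        obtain ⟨k1, k2, k3⟩ := t.rk r hr
        refine ⟨_, h2, _, h3, 1, ?_⟩
        have e1 := n8_mul D (θ (el T r.b) * q)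
        have e2 := n8_mul D (θ (el T r.d))
        rw [k1, map_mul] at e1
        rw [k2] at e2
        have e3 := congrArg D.ι k3
        simp only [map_mul] at e3
        simp only [MonoidHom.comp_apply, map_one, mul_one]
        calc _ = D.ι q * (D.n8 * (D.ι (θ (el T r.b)) * D.ι q)) * D.n8 := by group
          _ = D.ι q * D.ι (θ (el T r.b) * q).nu8 * (D.n8 * D.ι (el T r.b) * D.n8) := by
            rw [e1]; group
          _ = D.ι q * D.ι (θ (el T r.b) * q).nu8 * D.ι (el T r.a) * (D.n8 * D.ι (el T r.d)) := by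
            rw [h4]; group
          _ = D.ι (θ (el T r.a)) * D.ι q * (D.n8 * D.ι (θ (el T r.d))) := by rw [e3, e2]; group
          _ = _ := by group }
  refine ⟨⟨D', 1, n, ⟨fun _ => rfl, fun p c => by
    simp [unit_eq hK p.1, unit_eq hK p.2, dg_one], fun p => by simpa using sq⟩, n2,
    fun c hc => ?_, fun p => by simpa using n2, ?_⟩, le_antisymm ?_ ?_, congrArg D.ι t.e4⟩
  · exact (congrArg (n * D.ι · * n) (hθ c)).trans ((hn c hc).trans (congrArg D.ι (hθ _).symm))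
  · exact (congrArg (fun x => (n * D.ι x) ^ 3) t.e1).trans n3
  · refine (closure_le _).2 ?_
    rintro _ ((⟨c, rfl⟩ | ⟨p, rfl⟩) | rfl)
    exacts [D.ι_mem _, one_mem _, mul_mem (D.ι_mem _) D.n8_mem]
  · have m : ∀ c, D.ι c ∈ D'.C := fun c => by
      obtain ⟨c', rfl⟩ := Finite.surjective_of_injective t.inj c
      exact D'.ι_mem c'
    refine (closure_le _).2 ?_
    rintro _ ((⟨c, rfl⟩ | ⟨p, rfl⟩) | rfl)
    · exact m c
    · rw [show p = 1 from Subtype.ext (Prod.ext (unit_eq hK _) (unit_eq hK _)), map_one]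
      exact one_mem _
    · exact (mul_mem_cancel_left (m q)).1 D'.n8_mem

end H65.PA
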