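import Cfsg.Agent.H57.U2CSpec

/-! S3275: an involution with a small centraliser on a 3-group of rank at least 3. -/

set_option autoImplicit false

namespace H65.U2cL3

open Subgroup Cfsg H98 H48.DP H96.U2I

universe u

variable {X : Type u} [Group X] [Finite X]

/-- `f = i k` with `i` inverted and `k` centralised by `a`. -/
theorem dec {F : Subgroup X} {a f : X} (h3 : IsPGroup 3 F) (ha : a ∈ No F) (aa : a * a = 1)
    (hf : f ∈ F) : ∃ k ∈ F ⊓ C1 a, a * (f * k⁻¹) * a⁻¹ = (f * k⁻¹)⁻¹ := by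
  have ai : a⁻¹ = a := inv_eq_of_mul_eq_one_right aa
  set v := f * (a * f * a⁻¹)⁻¹ with hv
  have vF : v ∈ F := mul_mem hf (inv_mem (conj_mem_of_mem_normalizer ha hf))
  have av : a * v * a⁻¹ = v⁻¹ := by
    calc a * v * a⁻¹ = a * f * a⁻¹ * ((a * a) * f⁻¹ * (a * a)⁻¹) := by rw [hv]; group
      _ = v⁻¹ := by rw [aa, hv]; group
  obtain ⟨n, hn⟩ := isPGroup_iff_forall.1 h3 v vF
  obtain ⟨m, hm⟩ : Odd (3 ^ n) := Odd.pow (by decide)
  have i2 : v ^ (m + 1) * v ^ (m + 1) = v := by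
    rw [← pow_add, show m + 1 + (m + 1) = 3 ^ n + 1 by omega, pow_succ, hn, one_mul]
  have ia : a * v ^ (m + 1) * a⁻¹ = (v ^ (m + 1))⁻¹ := by rw [← conj_pow, av, inv_pow]
  set i := v ^ (m + 1)
  have e : f * (i⁻¹ * f)⁻¹ = f * f⁻¹ * i := by group
  refine ⟨i⁻¹ * f, ⟨F.mul_mem (F.inv_mem (F.pow_mem vF _)) hf, mem_centralizer_singleton_iff.2 ?_⟩, ?_⟩
  · have e1 : a * f * a⁻¹ = (i * i)⁻¹ * f := by rw [i2, hv]; group
    calc i⁻¹ * f * a = (i⁻¹)⁻¹ * ((i * i)⁻¹ * f) * a := by group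
      _ = (a * i * a⁻¹)⁻¹ * (a * f * a⁻¹) * a := by rw [ia, e1]
      _ = _ := by group
  · rw [e, mul_inv_cancel, one_mul, ia]

theorem card_zp {b : X} (h : b ^ 3 = 1) : Nat.card (zpowers b) ≤ 3 := by
  rw [Nat.card_zpowers]
  exact Nat.le_of_dvd (by decide) (orderOf_dvd_of_pow_eq_one h)

theorem card_sup_le {A N : Subgroup X} (h : A ≤ No N) :
    Nat.card ↥(A ⊔ N) ≤ Nat.card A * Nat.card N := by
  rw [← Nat.card_prod]
  refine Nat.card_le_card_of_surjective (fun p : A × N => (⟨p.1 * p.2,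
    mul_mem (mem_sup_left p.1.2) (mem_sup_right p.2.2)⟩ : ↥(A ⊔ N))) fun g => ?_
  obtain ⟨x, hx, y, hy, e⟩ := (mem_sup_left_norm h).1 g.2
  exact ⟨(⟨x, hx⟩, ⟨y, hy⟩), Subtype.ext e.symm⟩

theorem l3 : H57.U2C.L3.{u} := by
  intro X _ _ F a h3 ⟨B, BF, ⟨Bc, B3⟩, B27⟩ ha aa hc
  have : Fact (Nat.Prime 3) := ⟨Nat.prime_three⟩
  have o3 : ∀ {x : X}, x ^ 3 = 1 → x ≠ 1 → orderOf x = 3 := fun e1 e2 => orderOf_eq_prime e1 e2
  have nle : ∀ {Y : Subgroup X}, Nat.card Y ≤ 9 → ∃ b ∈ B, b ∉ Y := fun {Y} hY =>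
    SetLike.not_le_iff_exists.1 fun e => by have := card_le_of_le e; omega
  have hF : F ≠ ⊥ := fun e => by
    obtain ⟨b, hb, h1⟩ := nle (Y := ⊥) (by simp)
    exact h1 (e ▸ BF hb)
  have hZ := inf_centralizer_ne_bot h3 h3 le_normalizer hF
  obtain ⟨⟨z, zF, zc⟩, z3⟩ := exists_prime_orderOf_dvd_card' (G := ↥(F ⊓ Ce F)) 3
    ((h3.to_le inf_le_left).card_eq_or_dvd.resolve_left (by rwa [card_eq_one]))
  rw [← orderOf_coe] at z3
  change orderOf z = 3 at z3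
  have zz : z ^ 3 = 1 := z3 ▸ pow_orderOf_eq_one z
  have aC : a * z * a⁻¹ ∈ Ce F := conj_mem_of_mem_normalizer (normalizer_le_normalizer_centralizer F ha) zc
  have aF : a * z * a⁻¹ ∈ F := conj_mem_of_mem_normalizer ha zF
  by_cases e : z * (a * z * a⁻¹)⁻¹ = 1
  swap
  · refine Or.inl ⟨_, mul_mem zF (inv_mem aF), mul_mem zc (inv_mem aC), o3 ?_ e, ?_⟩
    · have c : Commute z (a * z * a⁻¹)⁻¹ := Commute.inv_right (aC z zF)
      rw [c.mul_pow, inv_pow, conj_pow, zz]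
      simp
    · calc a * (z * (a * z * a⁻¹)⁻¹) * a⁻¹ = a * z * a⁻¹ * ((a * a) * z⁻¹ * (a * a)⁻¹) := by group
        _ = _ := by rw [aa]; group
  have za : z ∈ C1 a := mem_centralizer_singleton_iff.2
    (eq_mul_inv_iff_mul_eq.1 (mul_inv_eq_one.1 e))
  have hE : zpowers z = F ⊓ C1 a := eq_of_le_of_card_ge (zpowers_le.2 ⟨zF, za⟩)
    (by rwa [Nat.card_zpowers, z3])
  have hC : zpowers z ≤ Ce F := zpowers_le.2 zc
  obtain ⟨b, hb, b1⟩ := nle (Y := zpowers z) ((card_zp zz).trans (by decide))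
  obtain ⟨b', hb', b2⟩ := nle (Y := zpowers b ⊔ zpowers z) ((card_sup_le (zpowers_le.2
    (centralizer_le_normalizer _ fun g hg => (hC hg b (BF hb)).symm))).trans
    (Nat.mul_le_mul (card_zp (B3 b hb)) (card_zp zz)))
  obtain ⟨k, hk, e1⟩ := dec h3 ha aa (BF hb)
  obtain ⟨k', hk', e2⟩ := dec h3 ha aa (BF hb')
  rw [← hE] at hk hk'
  have k3 : ∀ {c k : X}, c ∈ B → k ∈ zpowers z → (c * k⁻¹) ^ 3 = 1 := fun {c k} h1 h2 => by
    have c1 : Commute c k⁻¹ := hC (inv_mem h2) c (BF h1)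
    obtain ⟨n, rfl⟩ := h2
    rw [c1.mul_pow, B3 c h1, one_mul, inv_pow, ← zpow_natCast, ← zpow_mul, mul_comm, zpow_mul,
      zpow_natCast, zz, one_zpow, inv_one]
  have kF : ∀ {k : X}, k ∈ zpowers z → k⁻¹ ∈ F := fun h => inv_mem (zpowers_le.2 zF h)
  have nm : b' * k'⁻¹ ∉ zpowers (b * k⁻¹) := fun h => b2 (by
    have : zpowers (b * k⁻¹) ≤ zpowers b ⊔ zpowers z :=
      zpowers_le.2 (mul_mem (mem_sup_left (mem_zpowers b)) (mem_sup_right (inv_mem hk)))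
    exact (mul_mem_cancel_right (mem_sup_right (inv_mem hk'))).1 (this h))
  refine Or.inr ⟨_, mul_mem (BF hb) (kF hk), _, mul_mem (BF hb') (kF hk'),
    o3 (k3 hb hk) fun h => b1 (mul_inv_eq_one.1 h ▸ hk), o3 (k3 hb' hk') fun h => nm (h ▸ one_mem _),
    ?_, nm, e1, e2⟩
  have c1 : Commute b b' := congrArg Subtype.val (Bc.is_comm.comm (⟨b, hb⟩ : B) ⟨b', hb'⟩)
  have c2 : Commute (b * k⁻¹) k'⁻¹ := hC (inv_mem hk') _ (mul_mem (BF hb) (kF hk))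
  have c3 : Commute b' k⁻¹ := hC (inv_mem hk) _ (BF hb')
  exact (c1.mul_left c3.symm).mul_right c2

end H65.U2cL3
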