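import Cfsg.Agent.H65.ED42G
set_option maxRecDepth 1000000
set_option Elab.async false
namespace H65.ED42P5
open H71 H81
noncomputable def g1 : ℕ := 0xc46c3dc0d006fd04402fedbefbff56ecb092542400c04c00004683d004b00d0c09000d0d406fecdcc02d1668b0ed6200d90c4000021024003d480f914480f0c4b00df4dcc02d1f6bb0ec00000c16200d93d480fc1f23b5c00480435fa7bd35befbe
noncomputable def g1i : ℕ := 0x101099d10149fd0084220101018d100008d108028d080859f9b18d900403000543199d9b5cfd00c0b18f998c2ad503018ddf7db7f994c0add33018d81802002c2a59f242a4909a5434f282818f783c1e0fa7c3e0181c1e78304064c7258ff1014161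
noncomputable def L14 : List ℕ := g1 :: g1i :: [ED42G.c13, ED42G.c13i, ED42G.c12, ED42G.c12i, ED42G.c11, ED42G.c11i, ED42G.c10, ED42G.c10i, ED42G.c9, ED42G.c9i, ED42G.c8, ED42G.c8i, ED42G.a7, ED42G.a7i, ED42G.a6, ED42G.a6i, ED42G.a5, ED42G.a5i, ED42G.a4, ED42G.a4i, ED42G.a3, ED42G.a3i, ED42G.a2, ED42G.a2i, ED42G.a1, ED42G.a1i, ED42G.a0, ED42G.a0i]
theorem gd14 : GoodM (D42M.C) (D42M.ι) ⊤ L14 :=
  GoodM.word ED42G.good [20,16,24,20,12,22,20,16,26,24,20,14,12,18,16,26,22,24,0,6,4,10] (by decide +kernel)
noncomputable def g2 : ℕ := 0x8020000101000090340109038d10943ed1090bdd0280200020020083000008340200029024052b038dc1600af084838f52b2addc12209204033820c4b43d8240200529426fc04002f296838f21280802d6a4bdc120088000030993941621094361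
noncomputable def g2i : ℕ := 0x82c02009a1010f084434fe1f838221283ed2d6efd082000000040200030000083c0000080010fe220000084c3efe0d8002b632000084c7dfe09300f0c4fc0d8300000a220000084838fe00000018d8002149300f18d83871890009ba7838039f8383
noncomputable def L15 : List ℕ := g2 :: g2i :: L14
theorem gd15 : GoodM (D42M.C) (D42M.ι) ⊤ L15 :=
  GoodM.word gd14 [26,22,14,20,22,18,28,24,26,22,24,20,18,28,26,10,8,12] (by decide +kernel)
noncomputable def x0 : ℕ := 0x8000000020000001000000280000014000000002004000000200000050000002800000002000000100000008000002400200001000000080000014000000a00400000000200000010000002800000140000000100000008002000400000020000003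
noncomputable def x0i : ℕ := x0
noncomputable def L16 : List ℕ := x0 :: x0i :: L15
theorem gd16 : GoodM (D42M.C) (D42M.ι) ⊤ L16 :=
  GoodM.word gd15 [20,30,28,30] (by decide +kernel)
noncomputable def x1 : ℕ := 0x80000000300000810000000c0000004000000c0200e000000a00000018000000800000e22000000d80020848000000400000d838218c828d000006000040201400000009300f148100f0004c0000044000004c5018c8008000000418800020080003
noncomputable def x1i : ℕ := x1
noncomputable def L17 : List ℕ := x1 :: x1i :: L16
theorem gd17 : GoodM (D42M.C) (D42M.ι) ⊤ L17 :=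
  GoodM.word gd16 [26,18,30,26,18,20,32,30] (by decide +kernel)
noncomputable def L : List ℕ := [x1, x1i, x0, x0i, g2, g2i, g1, g1i, ED42G.c13, ED42G.c13i, ED42G.c12, ED42G.c12i, ED42G.c11, ED42G.c11i, ED42G.c10, ED42G.c10i, ED42G.c9, ED42G.c9i, ED42G.c8, ED42G.c8i, ED42G.a7, ED42G.a7i, ED42G.a6, ED42G.a6i, ED42G.a5, ED42G.a5i, ED42G.a4, ED42G.a4i, ED42G.a3, ED42G.a3i, ED42G.a2, ED42G.a2i, ED42G.a1, ED42G.a1i, ED42G.a0, ED42G.a0i]
theorem good : GoodM (D42M.C) (D42M.ι) ⊤ L := gd17
noncomputable def T : ℕ := 0x81400000020500000000000000000000000000000000000000000000000000000000000000000000000000000000000000000000000000000000000000000000000000000000000000000000000000000000000000000000000000000000000000000000000000000000000000000000000000000000000000000000000000000000000000000000000000000000000000000000000000000000000001050000000000000000000000000000000000000000000000000000000000000000000000000000000000000000000000000000000000000000000000000000000000000000000000000000000000000000000000000000000000000000000000000000000000000000000000000000000000000000000000000000000000000000000000000000000000000000000000000000000000000000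
noncomputable def QT : List ℕ := [0x20000000004000000000, 0x4000000000]
noncomputable def UT : List ℕ := [0x42104210010842084000000000, 0x21084000000000]
noncomputable def I : ℕ := 0x2ffffffffffffffffffffffffffffffffffffffffffffffffffffffffff0406ff
noncomputable def E0 : List (ℕ × ℕ × ℕ × List ℕ) := [(2, 0x108421, 0, [2114]),
  (1, 0x22, 0x41, [4162]),
  (1, 0x108421, 0, [2116,4225])]
noncomputable def E : List (ℕ × ℕ × ℕ × List ℕ) := (E0 ++ [])
noncomputable def Y : List (List ℕ) := [[],
  []]
noncomputable def CL : List (List ℕ × ℕ × ℕ) := []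
noncomputable def CF : List (List ℕ) := [[],
  [0x2],
  [0x80, 0x4002]]
noncomputable def Ls : List Lv := [⟨0x19200e9, [0x1], [0,0,0,0], 0, 49791391, 1, 5⟩,
  ⟨0x93c0070, [0x2], [0,0,0,0], 0, 46299684, 1, 5⟩]
theorem e0 : allM (chkEq (slot T 38 0x4000000000) 1048576 33825 5 1088 (hmask 1088) (fun f => slot (nthD QT 0 f) 38 0x4000000000) (fun f => slot (nthD UT 0 f) 38 0x4000000000)) E0 = true := by decide +kernel
theorem r0 : relChkM (D42M.C).mul (D42M.C).one (cod L (D42M.C).one I) (slot T 38 0x4000000000) 33825 0 3 = true := by decide +kernel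
theorem f0 : fusChkM (D42M.C).mul (D42M.C).one (cod L (D42M.C).one I) (fun f => slot (nthD QT 0 f) 38 0x4000000000) (fun f => slot (nthD UT 0 f) 38 0x4000000000) 0 2 = true := by decide +kernel
theorem h0 : finChk (slot T 38 0x4000000000) 33825 5 1088 (hmask 1088) 5 (E.map fun e => e.2.2.2) Y CL CF 0 3 = true := by decide +kernel
theorem c0 : lbM (D42M.C).mul (D42M.C).one (fun w => mulW (D42M.C).mul (cod L (D42M.C).one I) 65 w (D42M.C).one) Ls (fun _ => true) = true := by decide +kernel
theorem main : NoStem (Cfsg.Lie.chevD4.group (ZMod 2)) (5 ^ 1) :=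
  noStem_of_codes (MonoidHom.id _) (D42M.ι_inj) (D42M.can) good (MV.hz1 _ _) (MV.hz01) (by norm_num) (D42M.card)
    (n := 2) (K := 1048576) (REP := 33825) (q := 5) (T := T) (W := 38) (PW := 0x4000000000) (QT := QT) (UT := UT) (I := I) (N := 1088) (S := 5) (Ls := Ls)
    (by decide +kernel) ((Cov.zero _).step r0)
    ((Cov.zero _).step f0) c0 (E := E) (allM_app e0 (fun _ h => absurd h List.not_mem_nil))
    (Y := Y) (CL := CL) (CF := CF) ((Cov.zero _).step h0)
end H65.ED42P5
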