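import Cfsg.Agent.H18.SANQ
import Cfsg.Agent.H63.A8Def

/-! A8S, wreath case: `J8NQ`. -/

set_option autoImplicit false
set_option linter.unusedSectionVars false

namespace H65.A8W

open H64.SG (O2 Syl Cz Cs Ns cjs Is2 Inv2 UF IsO2 fx mem_Cs mem_Cz mem_fx is2_of_sq
  isPGroup_iff_is2 mem_of_sq_mem)
open H57 H98 H67.SA H18.SA H63.A8 Subgroup
open scoped commutatorElement

universe u

variable {n : ℕ} {F : Type} [Field F] [Finite F] [CharP F 2] {G : Type u} [Group G] [Finite G]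
  {e e₁ e₂ : SLn n F →* G} {g m r t : G} {β : Au n F} {A B : Subgroup (SLn n F)}
  {a b : SLn n F}

/-- Lemma F: `M` controls the fusion of the elements of `C(t)`. -/
theorem fuse {M : Subgroup G} {y k : G} (h : UF M t) (h1 : t * y = y * t)
    (h2 : t * (k * y * k⁻¹) = k * y * k⁻¹ * t) : ∃ m ∈ M, m * y * m⁻¹ = k * y * k⁻¹ := by
  obtain ⟨d, hd, h3⟩ := H9.UF.exists_move h (b := k⁻¹ * t * k) (by
    rw [show k⁻¹ * t * k * (k⁻¹ * t * k) = k⁻¹ * (t * t) * k by group, h.inv.1]; group)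
  have h5 : y * (k⁻¹ * t * k) = k⁻¹ * t * k * y :=
    calc _ = k⁻¹ * (k * y * k⁻¹ * t) * k := by group
      _ = _ := by rw [← h2]; group
  have h4 : d ∈ Cz y := zpowers_le.2 (mul_mem (mem_Cz.2 h1.symm) (mem_Cz.2 h5)) hd
  refine ⟨(d * k⁻¹)⁻¹, inv_mem (h.uf _ (by convert h3 using 1; group)), ?_⟩
  calc _ = k * (d⁻¹ * (y * d)) * k⁻¹ := by group
    _ = _ := by rw [mem_Cz.1 h4]; group

/-- An element of `L` that is conjugate in `G` to a root element is a root element. -/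
theorem root_of (h : HB e t e₁ e₂) (fb : FB8 n F) (ha : Is2 a) {k : G}
    (hk : k * e (x 0 (la n) 1) * k⁻¹ = e a) : Root a := by
  have x2 : Is2 (x 0 (la n) (1 : F)) := is2_of_sq (x_mul_self ..)
  have key : ∀ m ∈ Ns e₁.range, m ∈ Ns e₂.range → m * e (x 0 (la n) 1) * m⁻¹ = e a → Root a := by
    intro m m1 m2 hm
    obtain ⟨β₁, i1⟩ := exists_ind h.hn h.ker m1
    obtain ⟨β₂, i2⟩ := exists_ind h.hn h.ker₂ m2
    rw [h.diag, h.diag, ← conj_mul, i1, i2] at hm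
    rw [← (h.inj2 h.hn (x2.map β₁.toMonoidHom) (x2.map β₂.toMonoidHom) ha ha hm).1]
    exact fb.roota _ _ ⟨1, 1, one_ne_zero, by simp⟩
  obtain ⟨m, hm, k1⟩ := fuse h.uf (h.t_comm _) (k := k) (by rw [hk]; exact h.t_comm a)
  rw [hk] at k1
  rcases h.pm m hm with k2 | k2
  · exact key m k2.1 k2.2 k1
  · refine key (t * m) (mem_normalizer_of_cj_le ?_) (mem_normalizer_of_cj_le ?_) ?_
    · exact ((cj_cj t m _).symm.trans ((congrArg _ k2.1).trans h.symm.cjs_range)).le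
    · exact ((cj_cj t m _).symm.trans ((congrArg _ k2.2).trans h.cjs_range)).le
    · calc _ = t * (m * e (x 0 (la n) 1) * m⁻¹) * t⁻¹ := by group
        _ = _ := by rw [k1, h.t_comm, mul_inv_cancel_right]

section

variable (h : HB e t e₁ e₂) (fc : FC8 n F) (h1 : m ∈ Ns (two e₁ e₂ (QQ n F)))
include h fc h1

theorem z_or : cjs m ((ZZ n F).map e₁) ≤ (ZZ n F).map e₁ ∨
    cjs m ((ZZ n F).map e₁) ≤ (ZZ n F).map e₂ := by
  obtain ⟨a, ha, a1⟩ := exists_QZ (F := F) h.hn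
  obtain ⟨a', ha', b', hb', k⟩ := h.mem_two.1 (conj_mem_of_mem_normalizer h1
    (h.mem_two.2 ⟨a, ha, 1, one_mem _, rfl⟩))
  have k1 : ∀ w ∈ cjs m ((ZZ n F).map e₁), ∃ c ∈ QQ n F, ∃ d ∈ QQ n F,
      w = e₁ (cm a' c) * e₂ (cm b' d) := by
    rintro _ ⟨_, ⟨z, hz, rfl⟩, rfl⟩
    obtain ⟨u, hu, rfl⟩ := fc.qz a ha a1 z hz
    obtain ⟨c, hc, d, hd, k1⟩ := h.mem_two.1 (conj_mem_of_mem_normalizer h1
      (mem_sup_left ⟨u, hu, rfl⟩))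
    exact ⟨c, hc, d, hd, by rw [← h.cm2, ← k, ← k1]; simp [cm, mul_assoc]⟩
  by_cases b1 : b' ∈ ZZ n F
  · refine .inl fun w hw => ?_
    obtain ⟨c, hc, d, hd, rfl⟩ := k1 w hw
    exact ⟨_, cm_QQ ha' hc, by rw [cm_ZZ b1 hd, map_one, mul_one]⟩
  by_cases a2 : a' ∈ ZZ n F
  · refine .inr fun w hw => ?_
    obtain ⟨c, hc, d, hd, rfl⟩ := k1 w hw
    exact ⟨_, cm_QQ hb' hd, by rw [cm_ZZ a2 hc, map_one, one_mul]⟩
  have k2 : two e₁ e₂ (ZZ n F) ≤ cjs m ((ZZ n F).map e₁) := fun w hw => by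
    obtain ⟨y, hy, z, hz, rfl⟩ := h.mem_two.1 hw
    obtain ⟨c, hc, rfl⟩ := fc.qz a' ha' a2 y hy
    obtain ⟨d, hd, rfl⟩ := fc.qz b' hb' b1 z hz
    rw [← h.cm2, ← k]
    exact h.cm_mem h1 ha (one_mem _) (h.mem_two.2 ⟨c, hc, d, hd, rfl⟩)
  have := card_le_of_le k2
  rw [card_cjs, card_map2 h.ker isP_ZZ, h.card_two h.hn isP_ZZ, card_ZZ (by have := h.hn; omega)]
    at this
  exact absurd ((Nat.pow_le_pow_iff_right one_lt_card).1 (this.trans_eq (pow_one _).symm)) (by omega)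

variable (ho : Odd (orderOf m))
include ho

theorem nZ : m ∈ Ns ((ZZ n F).map e₁) := nor_of_odd ho
  (by rw [card_map2 h.ker isP_ZZ, card_map2 h.ker₂ isP_ZZ]) (z_or h fc h1)
  (z_or h.symm fc (by rwa [two_comm]))

theorem nB : m ∈ Ns ((QQ n F).map e₁ ⊔ (ZZ n F).map e₂) := mem_normalizer_of_cj_le (by
  rintro _ ⟨w, hw, rfl⟩
  obtain ⟨a, ha, b, hb, rfl⟩ := h.mem_sup.1 hw
  obtain ⟨a', ha', b', hb', k⟩ := h.mem_two.1 (conj_mem_of_mem_normalizer h1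
    (h.mem_two.2 ⟨a, ha, b, ZZ_le_QQ hb, rfl⟩))
  refine h.mem_sup.2 ⟨a', ha', b', by_contra fun b1 => ?_, k⟩
  obtain ⟨d, hd, k1⟩ := fc.qz b' hb' b1 _ (x_mem_ZZ 1)
  have := (cj_eq_self (nZ h fc h1 ho)).le
    (h.cm_mem h1 ha hb (h.mem_two.2 ⟨1, one_mem _, d, hd, rfl⟩))
  rw [k, h.cm2, ← k1] at this
  exact x0_ne h.hn (h.eq_one₂ (is2_of_sq (x_mul_self ..)) (map_le_range _ _ this)))

variable (fa : FA n F) (cu : Cs ((Er n F).map e) ≤ Ns (G12 e₁ e₂))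
include fa cu

theorem nE (h2 : m ∈ Cs ((QQ n F).map e₂ ⊔ (ZZ n F).map e₁)) :
    m ∈ Ns ((Er n F).map e₁) ∧ m ∈ Ns ((Ec n F).map e₁) := by
  have t1 : cjs t ((QQ n F).map e₁ ⊔ (ZZ n F).map e₂) = (QQ n F).map e₂ ⊔ (ZZ n F).map e₁ := by
    exact (cj_sup t _ _).trans (congrArg₂ _ (h.cjs_map _) (h.symm.cjs_map _))
  obtain ⟨k, k1, k2⟩ := ktr h.uf (nB h fc h1 ho) (t1 ▸ h2) (by
    rw [t1, ← centralizer_sup]
    exact (centralizer_anti ((h.map_le _).trans ((two_mono Er_le_QQ).trans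
      (sup_le_sup le_sup_left le_sup_left)))).trans cu)
  have k3 : ∀ z ∈ ZZ n F, k * e₁ z * k⁻¹ = e₁ z := fun z hz => by
    rw [k2 _ (mem_sup_left ⟨z, ZZ_le_QQ hz, rfl⟩), ← h2 _ (mem_sup_right ⟨z, hz, rfl⟩),
      mul_inv_cancel_right]
  obtain ⟨β, i⟩ := exists_ind h.hn h.ker (h.nor k1 (is2_of_sq (x_mul_self ..)) (x0_ne h.hn)
    (by rw [k3 _ (x_mem_ZZ 1)]; exact ⟨_, rfl⟩)).1
  have k4 : ∀ A ≤ QQ n F, ∀ B : Subgroup (SLn n F), (∀ a, a ∈ A ↔ β a ∈ B) →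
      cjs m (A.map e₁) ≤ B.map e₁ := by
    rintro A hA B hB _ ⟨_, ⟨a, ha, rfl⟩, rfl⟩
    exact ⟨_, (hB a).1 ha, (i a).symm.trans (k2 _ (mem_sup_left ⟨a, hA ha, rfl⟩))⟩
  rcases (fa.nz β (mem_St_of_finite fun z hz => by
    have z2 := isPGroup_iff_is2.1 isP_ZZ z hz
    rwa [(i.eq_iff h.ker z2 z2).1 (k3 z hz)])).2 with k | k
  · exact ⟨mem_normalizer_of_cj_le (k4 _ Er_le_QQ _ k.2.1),
      mem_normalizer_of_cj_le (k4 _ Ec_le_QQ _ k.2.2)⟩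
  · have c : Nat.card ((Er n F).map e₁) = Nat.card ((Ec n F).map e₁) := by
      rw [card_map2 h.ker isP_Er, card_map2 h.ker isP_Ec, card_Er, card_Ec]
    have k5 := k4 _ Er_le_QQ _ k.2.1
    have k6 := k4 _ Ec_le_QQ _ k.2.2
    exact ⟨nor_of_odd ho c (.inr k5) (.inr k6), nor_of_odd ho c.symm (.inr k6) (.inr k5)⟩

omit fa cu in
/-- The image of `A₁ Z₂` is `A'₁ Z₂`. -/
theorem tr (a1 : A ≤ QQ n F) (a2 : ∀ a ∈ A, a * a = 1) {Y : Subgroup G}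
    (hY : cjs m (A.map e₁ ⊔ (ZZ n F).map e₂) = Y) :
    Y ≤ (Y.comap e₁ ⊓ QQ n F).map e₁ ⊔ (ZZ n F).map e₂ ∧
      Nat.card A ≤ Nat.card ↥(Y.comap e₁ ⊓ QQ n F) ∧ ∀ u ∈ Y.comap e₁ ⊓ QQ n F, u * u = 1 := by
  have h1' : m ∈ Ns (two e₂ e₁ (QQ n F)) := by rwa [two_comm]
  have k1 : Y ≤ (Y.comap e₁ ⊓ QQ n F).map e₁ ⊔ (ZZ n F).map e₂ := fun w hw => by
    obtain ⟨a, ha, b, hb, rfl⟩ := h.mem_sup.1 (cj_le_of_le (sup_le_sup_right (map_mono a1) _)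
      (nB h fc h1 ho) (hY.ge hw))
    exact h.mem_sup.2 ⟨a, ⟨(Y.mul_mem_cancel_right (hY.le (le_trans (cj_eq_self
      (nZ h.symm fc h1' ho)).ge (cj_mono m le_sup_right) ⟨b, hb, rfl⟩))).1 hw, ha⟩, b, hb, rfl⟩
  have k2 := card_le_of_le k1
  rw [h.card_sup h.hn (isP_QQ.to_le inf_le_right) isP_ZZ, ← hY, card_cjs,
    h.card_sup h.hn (isP_QQ.to_le a1) isP_ZZ, hY] at k2
  refine ⟨k1, Nat.le_of_mul_le_mul_right k2 Nat.card_pos,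
    fun u hu => sq_of_e h.ker (isPGroup_iff_is2.1 isP_QQ u hu.2) ?_⟩
  obtain ⟨w, hw, k⟩ := hY.ge hu.1
  obtain ⟨a, ha, b, hb, rfl⟩ := h.mem_sup.1 hw
  rw [← k, ← map_mul, h.mul_mul, a2 a ha, sq_ZZ hb]
  simp

omit fa cu in
/-- If `m` normalises `Er₁ Z₂` and `Ec₁ Z₂` then it normalises `E3₁ Z₂`. -/
theorem nE3 (fp : FP n F) (k1 : m ∈ Ns ((Er n F).map e₁ ⊔ (ZZ n F).map e₂))
    (k2 : m ∈ Ns ((Ec n F).map e₁ ⊔ (ZZ n F).map e₂)) :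
    m ∈ Ns ((E3 n F).map e₁ ⊔ (ZZ n F).map e₂) := by
  have h1' : m ∈ Ns (two e₂ e₁ (QQ n F)) := by rwa [two_comm]
  obtain ⟨k3, k4, k5⟩ := tr h fc h1 ho fp.e3q fp.e3s rfl
  have key : ∀ A ≤ QQ n F, E3 n F ⊓ A ≤ ZZ n F → m ∈ Ns (A.map e₁ ⊔ (ZZ n F).map e₂) →
      (cjs m ((E3 n F).map e₁ ⊔ (ZZ n F).map e₂)).comap e₁ ⊓ QQ n F ⊓ A ≤ ZZ n F := by
    intro A a1 a2 a3 u hu
    obtain ⟨a, ha, z, hz, q1⟩ := h.mem_sup.1 (mem_cjs.1 hu.1.1)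
    obtain ⟨b, hb, y, hy, q2⟩ := h.mem_sup.1 (conj_mem_of_mem_normalizer' a3
      (mem_sup_left ⟨u, hu.2, rfl⟩))
    have i := isPGroup_iff_is2.1 (isP_QQ (n := n) (F := F))
    have q3 := (h.inj2 h.hn (i a (fp.e3q ha)) (i z (ZZ_le_QQ hz)) (i b (a1 hb)) (i y (ZZ_le_QQ hy))
      (q1.symm.trans q2)).1
    have q4 : e₁ u ∈ (ZZ n F).map e₁ ⊔ (ZZ n F).map e₂ := by
      rw [show e₁ u = m * e₁ a * m⁻¹ * (m * e₂ z * m⁻¹) by rw [conj_mul, ← q1]; group]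
      exact mul_mem (mem_sup_left (conj_mem_of_mem_normalizer (nZ h fc h1 ho)
        ⟨a, a2 ⟨ha, q3 ▸ hb⟩, rfl⟩)) (mem_sup_right (conj_mem_of_mem_normalizer
          (nZ h.symm fc h1' ho) ⟨z, hz, rfl⟩))
    exact (mem_map2 h.ker isP_ZZ (i u hu.1.2)).1 ((h.inf₁ isP_ZZ).le ⟨q4, u, rfl⟩)
  rw [fp.e3u _ inf_le_right k5 (fp.e3k.ge.trans k4) (key _ Er_le_QQ fp.e3r k1)
    (key _ Ec_le_QQ fp.e3c k2)] at k3
  exact mem_normalizer_of_cj_le k3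

variable (hp : Par8 n F) (fp : FP n F)
include hp fp

theorem e_or (hA : A = Er n F ∨ A = Ec n F) :
    cjs m (A.map e₁ ⊔ (ZZ n F).map e₂) ≤ (Er n F).map e₁ ⊔ (ZZ n F).map e₂ ∨
      cjs m (A.map e₁ ⊔ (ZZ n F).map e₂) ≤ (Ec n F).map e₁ ⊔ (ZZ n F).map e₂ ∨
      cjs m (A.map e₁ ⊔ (ZZ n F).map e₂) ≤ (E3 n F).map e₁ ⊔ (ZZ n F).map e₂ := by
  have h1' : m ∈ Ns (two e₂ e₁ (QQ n F)) := by rwa [two_comm]
  have a1 : A ≤ QQ n F := by rcases hA with rfl | rfl; exacts [Er_le_QQ, Ec_le_QQ]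
  have a2 : ∀ a ∈ A, a * a = 1 := by rcases hA with rfl | rfl; exacts [fun _ => sq_Row, fun _ => sq_Col]
  have a3 : Nat.card A = Nat.card F ^ n := by rcases hA with rfl | rfl; exacts [card_Er, card_Ec]
  replace a3 : Nat.card A = 8 := a3.trans (by rw [hp.two, hp.three]; rfl)
  generalize hY : cjs m (A.map e₁ ⊔ (ZZ n F).map e₂) = Y
  obtain ⟨k1, k2, k3⟩ := tr h fc h1 ho a1 a2 hY
  refine Or.imp (fun k => by rwa [k] at k1) (Or.imp (fun k => by rwa [k] at k1)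
    (fun k => by rwa [k] at k1)) (fp.li3 (Y.comap e₁ ⊓ QQ n F) inf_le_right k3
      (a3.ge.trans k2) ((closure_le _).2 fun p hp => ?_))
  have p1 : p ∈ Ns (QQ n F) := conj_mem_St.1 (fa.nz _ (conj_mem_St.2 (H64.SG.Cs_le_Ns _ hp.1))).1
  have p2 : e₁ p ∈ Ns (two e₁ e₂ (QQ n F)) := by simpa using h.nor_two p1 (one_mem _)
  have p3 : ∀ B : Subgroup (SLn n F), e₁ p ∈ Cs (B.map e₂) := fun B => Cs_range_le _ (h.le_Cs' ⟨p, rfl⟩)
  have p4 := nE h fc (mul_mem (mul_mem (inv_mem h1) p2) h1) (by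
    have := (MulAut.conj m⁻¹).orderOf_eq (e₁ p)
    rw [MulAut.conj_apply, inv_inv] at this
    exact this ▸ hp.2.of_dvd_nat (orderOf_map_dvd _ _)) fa cu (conj_mem_of_mem_normalizer'
      (normalizer_le_normalizer_centralizer _ (nB h.symm fc h1' ho)) (by
        exact (centralizer_sup _ _).ge ⟨p3 _, map_mem_Cs hp.1⟩))
  have p5 : e₁ p ∈ Ns Y := by
    rw [← hY, ← H64.SG.cj_Ns, mem_cjs]
    refine le_normalizer_sup (zpowers_le.2 ?_) (zpowers_le.2 (H64.SG.Cs_le_Ns _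
      (conj_mem_of_mem_normalizer' (normalizer_le_normalizer_centralizer _
        (nZ h.symm fc h1' ho)) (p3 _)))) (mem_zpowers _)
    rcases hA with rfl | rfl
    exacts [p4.1, p4.2]
  exact le_normalizer_inf (zpowers_le.2 (comap_le_normalizer_comap e₁ le_rfl p5))
    (zpowers_le.2 p1) (mem_zpowers p)

end

/-- `nor_of_odd` for the two planes. -/
theorem nEZ0 (h : HB e t e₁ e₂) (ho : Odd (orderOf m))
    (k : ∀ A, A = Er n F ∨ A = Ec n F →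
      cjs m (A.map e₁ ⊔ (ZZ n F).map e₂) ≤ (Er n F).map e₁ ⊔ (ZZ n F).map e₂ ∨
      cjs m (A.map e₁ ⊔ (ZZ n F).map e₂) ≤ (Ec n F).map e₁ ⊔ (ZZ n F).map e₂) :
    m ∈ Ns ((Er n F).map e₁ ⊔ (ZZ n F).map e₂) ∧ m ∈ Ns ((Ec n F).map e₁ ⊔ (ZZ n F).map e₂) := by
  have c : Nat.card ↥((Er n F).map e₁ ⊔ (ZZ n F).map e₂) =
      Nat.card ↥((Ec n F).map e₁ ⊔ (ZZ n F).map e₂) := by
    rw [h.card_sup h.hn isP_Er isP_ZZ, h.card_sup h.hn isP_Ec isP_ZZ, card_Er, card_Ec]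
  have k1 := k _ (.inl rfl)
  have k2 := k _ (.inr rfl)
  exact ⟨nor_of_odd ho c k1 k2.symm, nor_of_odd ho c.symm k2.symm k1⟩

/-- No element maps both `A₁ Z₂` and `B₂ Z₁` onto the third planes. -/
theorem not_both (h : HB e t e₁ e₂) (hp : Par8 n F) (fb : FB8 n F) (fc : FC8 n F) (fp : FP n F)
    (hA : A = Er n F ∨ A = Ec n F) (hB : B = Er n F ∨ B = Ec n F)
    (hz : m ∈ Ns (two e₁ e₂ (ZZ n F)))
    (k1 : cjs m (A.map e₁ ⊔ (ZZ n F).map e₂) ≤ (E3 n F).map e₁ ⊔ (ZZ n F).map e₂)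
    (k2 : cjs m (B.map e₂ ⊔ (ZZ n F).map e₁) ≤ (E3 n F).map e₂ ⊔ (ZZ n F).map e₁) : False := by
  have i := isPGroup_iff_is2.1 (isP_QQ (n := n) (F := F))
  obtain ⟨u, hu, u1⟩ : ∃ u ∈ E3 n F, u ∉ ZZ n F := SetLike.not_le_iff_exists.1 fun k => by
    have := card_le_of_le k
    rw [fp.e3k, card_ZZ (by have := h.hn; omega), hp.two] at this
    omega
  have key : ∀ {e₁ e₂ : SLn n F →* G} {A : Subgroup (SLn n F)}, HB e t e₁ e₂ →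
      A = Er n F ∨ A = Ec n F → m ∈ Ns (two e₁ e₂ (ZZ n F)) →
      cjs m (A.map e₁ ⊔ (ZZ n F).map e₂) ≤ (E3 n F).map e₁ ⊔ (ZZ n F).map e₂ →
      ∃ a z, z ∈ ZZ n F ∧ m⁻¹ * e₁ u * m = e₁ a * e₂ z ∧
        ∀ y ∈ ZZ n F, a * y = y * a ∧ ∃ p, p * x 0 (la n) 1 * p⁻¹ = a * y := by
    intro e₁ e₂ A h hA hz k
    have a1 : A ≤ QQ n F := by rcases hA with rfl | rfl; exacts [Er_le_QQ, Ec_le_QQ]
    have a2 : ZZ n F ≤ A := by rcases hA with rfl | rfl; exacts [ZZ_le_Er, ZZ_le_Ec]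
    have a3 : Nat.card A = Nat.card F ^ n := by rcases hA with rfl | rfl; exacts [card_Er, card_Ec]
    replace a3 : Nat.card A = 8 := a3.trans (by rw [hp.two, hp.three]; rfl)
    have k3 := eq_of_le_of_card_ge k (by
      rw [card_cjs, h.card_sup h.hn (isP_QQ.to_le a1) isP_ZZ,
        h.card_sup h.hn (isP_QQ.to_le fp.e3q) isP_ZZ, a3, fp.e3k])
    obtain ⟨a, ha, z, hz', q⟩ := h.mem_sup.1 (mem_cjs.1 (k3.ge (mem_sup_left ⟨u, hu, rfl⟩)))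
    refine ⟨a, z, hz', q, fun y hy => ?_⟩
    have q1 : a * y ≠ 1 := fun q2 => u1 (by
      have q4 : e₁ u ∈ two e₁ e₂ (ZZ n F) := by
        rw [show e₁ u = m * (e₁ a * e₂ z) * m⁻¹ by rw [← q]; group]
        exact conj_mem_of_mem_normalizer hz (h.mem_two.2
          ⟨a, eq_inv_of_mul_eq_one_left q2 ▸ inv_mem hy, z, hz', rfl⟩)
      exact (mem_map2 h.ker isP_ZZ (i u (fp.e3q hu))).1 ((h.inf₁ isP_ZZ).le ⟨q4, u, rfl⟩))
    have q3 := mul_mem ha (a2 hy)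
    refine ⟨(UU_le_Cs (QQ_le_UU (a1 ha)) y hy).symm, ?_⟩
    rcases hA with rfl | rfl
    · exact (fc.trr _ (a2 (x_mem_ZZ 1)) _ q3 (x0_ne h.hn) q1).imp fun _ => And.right
    · exact (fc.trc _ (a2 (x_mem_ZZ 1)) _ q3 (x0_ne h.hn) q1).imp fun _ => And.right
  obtain ⟨a, z, z1, q1, q2⟩ := key h hA hz k1
  obtain ⟨b, y, y1, r1, r2⟩ := key h.symm hB (by rwa [two_comm]) k2
  obtain ⟨-, p, hp1⟩ := q2 y y1
  obtain ⟨r3, p', hp2⟩ := r2 z z1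
  refine u1 (fp.e3t u hu (root_of h fb (i u (fp.e3q hu)) (k := m * (e₁ p * e₂ p')) ?_))
  have s1 : e₁ p * e₂ p' * e (x 0 (la n) 1) * (e₁ p * e₂ p')⁻¹ = m⁻¹ * e u * m := by
    rw [h.diag, h.conj2, hp1, hp2, h.diag,
      show m⁻¹ * (e₁ u * e₂ u) * m = m⁻¹ * e₁ u * m * (m⁻¹ * e₂ u * m) by group, q1, r1,
      ← h.comm, h.mul_mul, r3]
  calc _ = m * (e₁ p * e₂ p' * e (x 0 (la n) 1) * (e₁ p * e₂ p')⁻¹) * m⁻¹ := by group
    _ = _ := by rw [s1]; group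

theorem nEZ (h : HB e t e₁ e₂) (hp : Par8 n F) (fa : FA n F) (fb : FB8 n F) (fc : FC8 n F)
    (fp : FP n F) (cu : Cs ((Er n F).map e) ≤ Ns (G12 e₁ e₂))
    (h1 : m ∈ Ns (two e₁ e₂ (QQ n F))) (ho : Odd (orderOf m)) :
    m ∈ Ns ((Er n F).map e₁ ⊔ (ZZ n F).map e₂) ∧ m ∈ Ns ((Ec n F).map e₁ ⊔ (ZZ n F).map e₂) := by
  have h1' : m ∈ Ns (two e₂ e₁ (QQ n F)) := by rwa [two_comm]
  have cu' : Cs ((Er n F).map e) ≤ Ns (G12 e₂ e₁) := by rwa [G12_comm]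
  have hz : m ∈ Ns (two e₁ e₂ (ZZ n F)) := le_normalizer_sup (zpowers_le.2 (nZ h fc h1 ho))
    (zpowers_le.2 (nZ h.symm fc h1' ho)) (mem_zpowers m)
  refine nEZ0 h ho fun A hA => ?_
  rcases e_or h fc h1 ho fa cu hp fp hA with k | k | k
  · exact .inl k
  · exact .inr k
  exfalso
  have k1 := nEZ0 h.symm ho fun B hB => by
    rcases e_or h.symm fc h1' ho fa cu' hp fp hB with k' | k' | k'
    · exact .inl k'
    · exact .inr k'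
    · exact (not_both h hp fb fc fp hA hB hz k k').elim
  have k2 := nE3 h.symm fc h1' ho fp k1.1 k1.2
  have t1 : ∀ B : Subgroup (SLn n F), cjs t (B.map e₁ ⊔ (ZZ n F).map e₂) =
      B.map e₂ ⊔ (ZZ n F).map e₁ := fun B =>
    (cj_sup t _ _).trans (congrArg₂ _ (h.cjs_map _) (h.symm.cjs_map _))
  have t2 : ∀ B : Subgroup (SLn n F), cjs t (B.map e₂ ⊔ (ZZ n F).map e₁) =
      B.map e₁ ⊔ (ZZ n F).map e₂ := fun B => cjs_swap h.tt (t1 B)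
  have t3 := h.t_mem_Ns h.tt (ZZ n F)
  have k3 : m ∈ Ns (A.map e₂ ⊔ (ZZ n F).map e₁) := by
    rcases hA with rfl | rfl
    exacts [k1.1, k1.2]
  have t4 : ∀ X : Subgroup G, cjs (m * (t * m * t)) X = cjs m (cjs t (cjs m (cjs t X))) := fun X => by
    ext w; simp only [mem_cjs, mul_inv_rev, mul_assoc]
  refine not_both (m := m * (t * m * t)) h hp fb fc fp hA hA
    (mul_mem hz (mul_mem (mul_mem t3 hz) t3)) ?_ ?_
  · refine le_trans (le_of_eq ?_) k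
    calc _ = cjs m (cjs t (cjs m (cjs t (A.map e₁ ⊔ (ZZ n F).map e₂)))) := t4 _
      _ = _ := by rw [t1, show cjs m (A.map e₂ ⊔ (ZZ n F).map e₁) = _ from cj_eq_self k3, t2]
  · calc _ = cjs m (cjs t (cjs m (cjs t (A.map e₂ ⊔ (ZZ n F).map e₁)))) := t4 _
      _ ≤ cjs m (cjs t ((E3 n F).map e₁ ⊔ (ZZ n F).map e₂)) := by
          rw [t2]; exact cj_mono m (cj_mono t k)
      _ = _ := by rw [t1]; exact cj_eq_self k2

theorem jobNQ (hA : J8FA) (hB : J8FB) (hC : J8FC) (hP : J8FP) : J8NQ.{u} := by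
  intro n F _ _ _ hp G _ _ e t e₁ e₂ _ c w nw
  have h : HB e t e₁ e₂ := ⟨c, hp.two_le, w.uf, w.odd, w.pm⟩
  have hn := hp.two_le
  have cu := Ml_one (n := n) (F := F) ▸ w.cu 1 le_rfl (by omega)
  refine jobK11 h.uf (IsConj.refl t) h.uf.mem _ (h.t_mem_Ns h.tt _) fun m h1 ho => ?_
  have k1 := nEZ h hp (hA n F hp) (hB n F hp) (hC n F hp) (hP n F hp) cu h1 ho
  have k2 := nEZ h.symm hp (hA n F hp) (hB n F hp) (hC n F hp) (hP n F hp) (by rwa [G12_comm])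
    (by rwa [two_comm]) ho
  exact nw ⟨nor_two_of ZZ_le_Er k1.1 k2.1, nor_two_of ZZ_le_Ec k1.2 k2.2⟩

end H65.A8W
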