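import Cfsg.Agent.H96.U2CenSpec

/-! S3275, central case: two vertices. -/

set_option autoImplicit false

namespace H65.CenKB

open Subgroup Cfsg H98 H48.DP H96.U2I H96.Cen
open scoped commutatorElement

universe u

theorem mem_zp {G : Type u} [Group G] {z a : G} (h : z * z = 1) (ha : a ∈ zpowers z) :
    a = 1 ∨ a = z := by
  obtain ⟨n, rfl⟩ := ha
  have h2 : z ^ (2 : ℤ) = 1 := by rw [zpow_two, h]
  rcases Int.even_or_odd' n with ⟨k, rfl | rfl⟩
  · left
    simp only [zpow_mul, h2, one_zpow]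
  · right
    simp only [zpow_add, zpow_mul, h2, one_zpow, one_mul, zpow_one]

theorem jobKB : KB.{u} := by
  intro G _ _ M M0 Q Q0 F U z g w h gM wU wg zg wz ⟨E, EF, E3, E9, Ew⟩
  have w1 : w ≠ 1 := fun e => wz (e ▸ one_mem _)
  have wz1 : w * z ≠ 1 := fun e => wz (eq_inv_of_mul_eq_one_left e ▸ inv_mem (mem_zpowers z))
  have c1 := h.good w w1 (h.el w wU) ⟨E, EF, E3, E9, Ew⟩
  have c2 := h.good (w * z) wz1 (h.el _ (mul_mem wU h.zU)) ⟨E, EF, E3, E9, fun e he =>
    mem_centralizer_singleton_iff.2 (Commute.mul_right (mem_centralizer_singleton_iff.1 (Ew he))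
      (h.zM e (h.FM (EF he)))).eq⟩
  refine gM (inv_mem_iff.1 (h.fix g⁻¹ fun q hq => mem_cj.2 ?_))
  rw [inv_inv]
  have key : ∀ {a : G}, ⁅q, g⁻¹ * a * g⁆ = 1 → g * q * g⁻¹ ∈ C1 a := fun {a} e => by
    rw [mem_centralizer_singleton_iff]
    calc g * q * g⁻¹ * a = g * (q * (g⁻¹ * a * g)) * g⁻¹ := by group
      _ = _ := by rw [commutatorElement_eq_one_iff_mul_comm.1 e]; group
  rcases h.cQ q (h.QQ hq) _ (mem_cj.1 wg) with e | e
  · exact c1 (key e)
  rcases h.cQ q (h.QQ hq) _ (mem_cj.1 zg) with e' | e'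
  · exact h.cz (key e')
  refine c2 (key ?_)
  have e2 : ⁅q, g⁻¹ * (w * z) * g⁆ = ⁅q, g⁻¹ * w * g⁆ * ((g⁻¹ * w * g) * ⁅q, g⁻¹ * z * g⁆ *
      (g⁻¹ * w * g)⁻¹) := by
    simp only [commutatorElement_def]
    group
  rw [e2, e, e', (h.ab _ (mem_cj.1 wg) z h.zU).eq, mul_inv_cancel_right, h.el z h.zU]

theorem jobFX : FX.{u} := by
  intro G _ _ M M0 Q Q0 F U z g h gM
  have zz := h.el z h.zU
  refine ⟨fun e => ?_, fun f hf e => ?_⟩
  · rcases mem_zp zz e with e | e
    · exact h.z1 (by simpa using e)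
    · exact gM (h.cz (mem_centralizer_singleton_iff.2 (mul_inv_eq_iff_eq_mul.1 e)))
  set v := g * z * g⁻¹ with hv
  have fz := h.zM f (h.FM hf)
  have c : Commute (f * f) v := by
    rcases mem_zp zz e with e | e
    · exact Commute.mul_left (commutatorElement_eq_one_iff_commute.1 e)
        (commutatorElement_eq_one_iff_commute.1 e)
    · have e1 : f * v = z * v * f := by rw [← e, commutatorElement_def]; group
      change f * f * v = v * (f * f)
      rw [mul_assoc, e1, ← mul_assoc, ← mul_assoc, fz.eq, mul_assoc z, e1, ← mul_assoc, ← mul_assoc, zz,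
        one_mul, mul_assoc]
  by_contra f1
  obtain ⟨k, hk⟩ := (IsPGroup.iff_orderOf.1 h.F3) ⟨f, hf⟩
  rw [← orderOf_coe] at hk
  change orderOf f = _ at hk
  rcases k with _ | k
  · exact f1 (orderOf_eq_one_iff.1 (by simpa using hk))
  have ox : orderOf (f ^ 3 ^ k) = 3 := by
    rw [orderOf_pow_of_dvd (by positivity) (hk ▸ pow_dvd_pow 3 k.le_succ), hk, pow_succ,
      Nat.mul_div_cancel_left _ (by positivity)]
  set x := f ^ 3 ^ k with hx
  have c2 : Commute (x * x) v := by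
    rw [hx, ← (Commute.refl f).mul_pow]
    exact c.pow_left _
  have x4 : x * x * (x * x) = x := by
    have : x ^ 3 = 1 := ox ▸ pow_orderOf_eq_one x
    calc x * x * (x * x) = x ^ 3 * x := by simp only [pow_succ, pow_zero, one_mul, mul_assoc]
      _ = x := by rw [this, one_mul]
  have c3 : Commute x v := x4 ▸ c2.mul_left c2
  refine gM (inv_mem_iff.1 (h.ti x g⁻¹ ox (h.MM (h.FM (pow_mem hf _))) (h.cz ?_)))
  rw [mem_centralizer_singleton_iff]
  calc g⁻¹ * x * g⁻¹⁻¹ * z = g⁻¹ * (x * v) * g := by rw [hv]; group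
    _ = _ := by rw [c3.eq, hv]; group

end H65.CenKB
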