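import Cfsg.Agent.H81.Zeta
import Cfsg.Agent.H65.EO73G
set_option maxRecDepth 1000000
set_option Elab.async false
namespace H65.EO73L
open H71 H81
noncomputable def Ls : List Lv := [⟨0x20000000000010000, [18,19,16,17], [0,0,0,0,0,0,0,0,0,2,0,0,0,0,0,0,0,0,0,0,0,0,0,0,0,0,0,0,0,2,0,0,0,0,0,0,0,0,0,0,0,0,0,0,0,0,0,0,0,2,0,0,0,0,0,0,0,0,0,0,0,0,0,0,0,0,0,0,0,2,0,0,0,0,0,0,0,0,0,0,0,0,0,0,0,0,0,0,0,2,0,0,0,0,0,0,0,0,0,2,0,0,0,0,0,0,0,0,0,0,0,0,0,0,0,0,0,0,0,2,0,0,0,0,0,0,0,0,0,0,0,0,0,0,0,0,0,0,0,2,0,0,0,0,0,0,0,0,0,0,0,0,0,0,0,0,0,0,0,2,0,0,0,0,0,0,0,0,0,0,0,0,0,0,0,0,0,0,0,2,0,0,0,0,0,0,0,0,0,0,0,0,0,0,0,0,0,0,0,2,0,0,0,0,0,0,0,0,0,0,0,0,0,0,0,0,0,0,0,2,0,0,0,0,0,0,0,0,0,0,0,0,0,0,0,0,0,0,0,3,0,0,0,0,0,0,0,0,0,0,0,0,0,0,0,0,0,0,0,3,0,0,0,0,0,0,0,0,0,0,0,0,0,0,0,0,0,0,0,4,0,0,0,0,0,0,0,0,0,0,0,0,0,0,0,0,0,0,0,2,0,0,0,0,0,0,0,0,0,0,0,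0,0,0,0,0,0,0,0,4,0,0,0,0,0,0,0,0,0,0,0,0,0,0,0,0,0,0,0,2,0,0,0,0,0,0,0,0,0,0,0,0,0,0,0,0,0,0,0,3,0,0,0,0,0,0,0,0,0,0,0,0,0,0,0,0,0,0,0,2,0,0,0,0,0,0,0,0,0,0,0,0,0,0,0,0,0,0,0,5,0,0,0,0,0,0,0,0,0,0,0,0,0,0,0,0,0,0,0,3,0,0,0,0,0,0,0,0,0,7,0,0,0,0,0,0,0,0,0,0,0,0,0,0,0,0,0,0,0,2,0,0,0,0,0,0,0,0,0,3,0,0,0,0,0,0,0,0,0,0,0,0,0,0,0,0,0,0,0,4,0,0,0,0,0,0,0,0,0,0,0,0,0,0,0,0,0,0,0,2,0,0,0,0,0,0,0,0,0,10,0,0,0,0,0,0,0,0,0,0,0,0,0,0,0,0,0,0,0,2,0,0,0,0,0,0,0,0,0,0,0,0,0,0,0,0,0,0,0,4,0,0,0,0,0,0,0,0,0,0,0,0,0,0,0,0,0,0,0,3,0,0,0,0,0,0,0,0,0,0,0,0,0,0,0,0,0,0,0,15,0,0,0,0,0,0,0,0,0,0,0,0,0,0,0,0,0,0,0,7,0,0,0,8,0,0,0,0,0,0,0,0,0,5,0,0,0,0,0,0,0,0,0,0,0,0,0,0,0,0,0,0,0,2,0,0,0,8,0,0,0,8,0,0,0,0,0,0,0,0,0,15,0,0,0,0,0,0,0,0,0,0,0,0,0,0,0,0,0,0,0,0,15,0,0,0,0,0,0,0,0,0,3,17,0,0,0,0,0,0,0,0,0], 0x2e002700000000000d0078002500a400000020003a0037018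600000131028a00120016000d0110000102830008009200130011000b000e00070001001f01a100fd00000001000d00400052000200020084005d023f0000000000000017017c0007000d0001003e0000000000eb023100020008000d0000001d013d0000000000ab00000022001600310000001400000000003300f20000000200000000002b001c000000060114000d01e00001002a00010223008000d700330000000b0007000a0003000f00000026001c0006000000bb00bb0000000c003600800005001100180000009000610000000500a0000000020010000000000053003a0001000e0009000e001f0000000d000900550030000a0103000d000400010000000000000000002b0013005f000300020000000000750037001500120006002500ee0000002c00000014000c00500000000000100000002f0030002f000e0004001900610000000000000000000b00c5000e001a00000000000d003c00020000001300150013006600000000000700020005001b000c0033000000000014005b00000000000f00230005001100000000000d000100000013000200170004000600000000003900270001000300080002003500000011000000080001000200000008000a000a000000030000000e0012000200020003000900190000000a000900a10000000000080016001e000a0000003c003500040000000a0006000f00150022007f003a00000005000a00060005000e0000000e000800330000000000000000000000030000000000000001000000010006000700000001001400050005001b00180005000000220027000100000006000000020005000100030000,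 359490894, 318, 702⟩,
  ⟨0x1000000010000000000010001, [14,15,12,13], [0,0,0,0,0,0,0,0,0,0,0,0,0,2,0,0,0,0,0,0,0,0,0,0,0,0,0,3,0,0,0,0,0,0,0,0,0,0,0,0,0,2,0,0,0,0,0,0,0,0,0,0,0,0,0,2,0,0,0,0,0,0,0,0,0,0,0,0,0,4,0,0,0,0,0,0,0,0,0,0,0,0,0,2,0,0,0,0,0,0,0,0,0,0,0,0,0,2,0,0,0,0,0,0,0,0,0,0,0,0,0,2,0,0,0,0,0,0,0,0,0,0,0,0,0,2,0,0,0,0,0,0,0,0,0,0,0,0,0,3,0,0,0,0,0,0,0,0,0,0,0,0,0,3,0,0,0,0,0,0,0,0,0,0,0,0,0,2,0,0,0,0,0,0,0,0,0,0,0,0,0,2,0,0,0,0,0,0,0,0,0,0,0,0,0,5,0,0,0,0,0,0,0,0,0,0,0,0,0,5,0,0,0,0,0,0,0,0,0,0,0,0,0,0,9,0,0,0,0,0,0,0,0,0,0,0,0,0,1,4,0,0,0,0,0,0,0,0,0,0,0,0,0], 0x73000000000000000a00000000000700d000030003002300b5000000910080000700030028007500620000001a000200500001000300020008002b002200120019001b000000090023000000a70002000b00bb000000030000001900ca00950009002400000000009e001f00190000003b00010000001100000004005b00040007000000c8000900020000001b000f001500020059006900690023000f000800070002007300000004000000000002000200040002002a000300110000001300070000000000000014000a00020000000d0008000000000000002d0004002100070002000000180003000300010000,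 1072652406, 121, 252⟩,
  ⟨0x2000100020001000100020002, [10,11,8,9], [0,0,0,0,0,0,0,0,0,0,0,2,0,0,0,2,0,0,0,0,0,0,0,0,0,0,0,2,0,0,0,2,0,0,0,3,0,0,0,0,0,0,0,0,0,0,0,2,0,0,0,0,0,0,0,0,0,0,0,6,0,0,0,0,0,0,0,0,0,0,0,7,0,0,0,4,4,0,0,0,0,0,0,0,0,0,0,0,0,3,4], 0x230008002b00000001000a0000004c00000000000e00000003000b0018001200000015001b001200110004001a0007000a0015000900110000000f000200010001, 220902547, 33, 90⟩,
  ⟨0x1000200010002000000020002, [6,7,4,5], [0,0,0,0,0,0,0,0,0,0,0,2,0,0,0,2,0,0,0,0,0,0,0,0,0,0,0,4,0,0,0], 0xf001600000008000000010001000b0000000100020000000000000000000600000000000200000000000000000000000000000000, 584123481, 27, 32⟩,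
  ⟨0x1000100020001000200020001, [2,3,0,1], [0,0,2,0,0,2,0,0], 0x200000000000700050002, 483859041, 7, 9⟩]
theorem all {B : Subgroup (Cfsg.Omega (ZMod 3) (Cfsg.quadFormOdd 3 (ZMod 3)))} (h0 : GoodM (O73M.C) (O73M.ι) B [EO73G.a1, EO73G.a0]) : GoodM (O73M.C) (O73M.ι) B [EO73G.c9, EO73G.c9i, EO73G.c8, EO73G.c8i, EO73G.c7, EO73G.c7i, EO73G.c6, EO73G.c6i, EO73G.c5, EO73G.c5i, EO73G.c4, EO73G.c4i, EO73G.c3, EO73G.c3i, EO73G.c2, EO73G.c2i, EO73G.a1, EO73G.a1i, EO73G.a0, EO73G.a0i] := by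
  have h2 : GoodM (O73M.C) (O73M.ι) B [EO73G.a1, EO73G.a1i, EO73G.a0, EO73G.a0i] := ((GoodM.nil.pair (h0 EO73G.a0 (by simp)) (by decide +kernel)).pair (h0 EO73G.a1 (by simp)) (by decide +kernel))
  have h3 : GoodM (O73M.C) (O73M.ι) B [EO73G.c2, EO73G.c2i, EO73G.a1, EO73G.a1i, EO73G.a0, EO73G.a0i] := GoodM.word h2 [3,3,1,3,1,1] (by decide +kernel)
  have h4 : GoodM (O73M.C) (O73M.ι) B [EO73G.c3, EO73G.c3i, EO73G.c2, EO73G.c2i, EO73G.a1, EO73G.a1i, EO73G.a0, EO73G.a0i] := GoodM.word h3 [2,5,3,5,3,5,2,2] (by decide +kernel)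
  have h5 : GoodM (O73M.C) (O73M.ι) B [EO73G.c4, EO73G.c4i, EO73G.c3, EO73G.c3i, EO73G.c2, EO73G.c2i, EO73G.a1, EO73G.a1i, EO73G.a0, EO73G.a0i] := GoodM.word h4 [1,1,3,3,0] (by decide +kernel)
  have h6 : GoodM (O73M.C) (O73M.ι) B [EO73G.c5, EO73G.c5i, EO73G.c4, EO73G.c4i, EO73G.c3, EO73G.c3i, EO73G.c2, EO73G.c2i, EO73G.a1, EO73G.a1i, EO73G.a0, EO73G.a0i] := GoodM.word h5 [4,2,5,5,3] (by decide +kernel)
  have h7 : GoodM (O73M.C) (O73M.ι) B [EO73G.c6, EO73G.c6i, EO73G.c5, EO73G.c5i, EO73G.c4, EO73G.c4i, EO73G.c3, EO73G.c3i, EO73G.c2, EO73G.c2i, EO73G.a1, EO73G.a1i, EO73G.a0, EO73G.a0i] := GoodM.word h6 [1,1,3,3,3,3,1,3] (by decide +kernel)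
  have h8 : GoodM (O73M.C) (O73M.ι) B [EO73G.c7, EO73G.c7i, EO73G.c6, EO73G.c6i, EO73G.c5, EO73G.c5i, EO73G.c4, EO73G.c4i, EO73G.c3, EO73G.c3i, EO73G.c2, EO73G.c2i, EO73G.a1, EO73G.a1i, EO73G.a0, EO73G.a0i] := GoodM.word h7 [2,4,3,5,3,5] (by decide +kernel)
  have h9 : GoodM (O73M.C) (O73M.ι) B [EO73G.c8, EO73G.c8i, EO73G.c7, EO73G.c7i, EO73G.c6, EO73G.c6i, EO73G.c5, EO73G.c5i, EO73G.c4, EO73G.c4i, EO73G.c3, EO73G.c3i, EO73G.c2, EO73G.c2i, EO73G.a1, EO73G.a1i, EO73G.a0, EO73G.a0i] := GoodM.word h8 [1,2,2,1,3] (by decide +kernel)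
  have h10 : GoodM (O73M.C) (O73M.ι) B [EO73G.c9, EO73G.c9i, EO73G.c8, EO73G.c8i, EO73G.c7, EO73G.c7i, EO73G.c6, EO73G.c6i, EO73G.c5, EO73G.c5i, EO73G.c4, EO73G.c4i, EO73G.c3, EO73G.c3i, EO73G.c2, EO73G.c2i, EO73G.a1, EO73G.a1i, EO73G.a0, EO73G.a0i] := GoodM.word h9 [4,3,4,3] (by decide +kernel)
  exact h10
theorem gen (B : Subgroup (Cfsg.Omega (ZMod 3) (Cfsg.quadFormOdd 3 (ZMod 3)))) (h0 : GoodM (O73M.C) (O73M.ι) B [EO73G.a1, EO73G.a0]) : B = ⊤ :=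
  haveI : Finite (Cfsg.Omega (ZMod 3) (Cfsg.quadFormOdd 3 (ZMod 3))) := Nat.finite_of_card_ne_zero (by rw [O73M.card]; norm_num)
  gen_of_lb (O73M.can) (O73M.ι_inj) (all h0) (Ls := Ls) (O73M.card) (by decide +kernel)
end H65.EO73L
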