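import Cfsg.Agent.H81.Fam
import Cfsg.Agent.H65.EO73G
import Cfsg.Agent.H65.EO73L
set_option maxRecDepth 1000000
set_option Elab.async false
namespace H65.EO73C
open H71 H81
noncomputable def CM : ℕ := 3 * geo 128 8
noncomputable def RM : ℕ := 3 * geo 16 8
noncomputable def E : ℕ := geo 128 8 * geo 16 8
noncomputable def M1 : ℕ := 31 * E
noncomputable def M2 : ℕ := 1 * E
noncomputable def MB : ℕ := 3 * E
noncomputable def one : ℕ := geo 144 8
noncomputable def C : CdA (Matrix (Fin 8) (Fin 8) (ZMod 3)) :=
  cdaP 8 3 3 682 11 3 10923 15 CM RM M1 M2 one MB (by decide +kernel) (by decide +kernel)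
noncomputable def m1 : ℕ := 0x20001000200020000000000020000000200020002000100020002000000020001000100000000000000010002000200020001000000020001000200000000000200010002000000010000000000010001000000000002000100000002000100020002000000000000000000010000000000020002000000000001
noncomputable def m1i : ℕ := 0x200000002000000000002000100000000000200020000000100010000000200020001000200020001000200000001000200010001000100000002000200020002000000000002000000000002000200010000000200000002000000000000000200000001000100010000000000000002000100020000000000000001
noncomputable def m0 : ℕ := 0x10000000100010001000000020000000000000000000200010002000200020000000200010001000100010001000000010002000200020001000100020001000000000001000000020000000200020002000000000001000000000002000000000001000000020001000000010002000100010000000100010002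
noncomputable def m0i : ℕ := 0x200020001000200020002000100000000000200000001000200000002000100000000000100000002000000010000000000020002000000000001000100010000000100020001000000000000000100020001000200000001000200010001000100010001000200000001000100000002000100010000000000000002
noncomputable def y : ℕ := 0x2000000000000000000000000000000000002000000000000000000000000000000000002000000000000000000000000000000000002000000000000000000000000000000000002000000000000000000000000000000000002000000000000000000000000000000000002000000000000000000000000000000000002
noncomputable def z : ℕ := one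
noncomputable def tab : List ℕ := [m1, m1i, m0, m0i, y, z]
noncomputable def Ps : List ℕ := [0xa101bb00bd007600c5013d005c008800ed01740017010c00ab002d0003010a02990025018d015000d0020b01d600f30023015e01d50111000401cb011201810284009f00e0001e022f010f020001a801c700320054023301b300fb017302700277003800060072004b00e6006b00c000c10240020500e30222002600b801000149014001be0189016b009001ca02b5029f0121027e009c019900be0231015f01640298007f026d00d600430266009400cb028900fa009500f50086019c0022026700bc0099017c02ba0234007e02aa0028024b0252004a0067019a0160020901ce026800fe017f0041004e022100ae01bf005e007901ae00970186024101d9012a02a900a6022e010300f9023f017a00d2022802a400d50276023a01ea023e0194014200b000e40278027d003402bc01c001ec026a0297000b022d0096022601b701c801830141019602bb024400bf021b008c025300f600b902110152006f024d00e201cc0044013e012b008401ad005602b1008b006800d7009e0286004d012700d301eb01320131011000b202690059006002ad01a0015d01b40158023000de008e029e01af00ca021c011c021f029d01d4011a02b4006200c801ee01fb024600cc009301bc02650285008d0185029b0225017b024a00d901a301f6014b00af0197010201e2004f02a0009d01a6023c0243021e002f014d01280013003e001400a4006302290155003d0080014800e7000e022400e800e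e01ba014400ec003a0147027500bb01350257006902720057023200e9006401e701ef00dd000f026302b3020e00460108013c025d0139016e0030022a01f0009800a9008201b201c301f100d8023d003b00da0206013300ea024901c5010700a70179028e0220000800a5021901a5025b014e019f01140178005b003900550138016f02a601a901b102580074029c0281011e017e01360009007d012600ad01ed011701250077012e01f301c9026f007b0031000d0050013001ab0066021a011602a7021402b9002a02ac024500810192000c013b019d01da01fc01ac01b900f401fd0188026b0210019502a1015402030052029100490143004000350169028c01db02070262019e006d020c0021014c0036006e018a00eb00c40048016501200171007800ce00f7026c014a0202008500a00235024801660250025f022c0175007501c101590256024e01820073001201f700c30238007101c401f20123015301b0007a0287001c0201025c008a01b6007c012c00fc018402b2022301cd011b005800fd018e00df01ff00cf01e600d402a200ff00b101df016c012d027401d00122014f00470247021601680018018f02bd00420167016a00f00007029a01060145014601dc006c0002025500510251015c02420218016d00ac01700045006101c601e8029301870124006501b500cd00b401fa002400910295009a0212013701760239027b001900f8010e018b0290022b005f02b7015a00b5021700e1024c01bd01e4009b02b80156006a00ef00d1028001fe013401090162013a01570215015100aa027900a2025a028a02ae02540011027c02a80190013f020d0292008301d7001d0282010b011901de00270213012f007002ab01f50000026e01f90180001b017700c20296027f029401e1027a008f026101cf016301f4002e00b701aa003302040089002b00c60237015b00ba021d01e500c902b6012900f20264028b00c7019b0037028d01980208005d01a1000102a3017200b3018c01e301b800b6010d01d201a20271010401e9002c020a01d30273001a02a501f8017d002902af01010191001f01d1023b0015011500a300100227024f003f02830236016101d800f1025901c2020f008702b001a402600118000500dc000a011f0020028f00a800e5011d019301a70105005a003c025e01dd01e0009200db004c0053011300160288,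 0, 0x1bd003101b4029f01d3015500c600d7018601a0003c00e2022400bb01350126026602a2020101e2019d01b00214005f0173016502bb0240011001c1019a003a001f00d5007a01ee0254028e013c02ad011600ed023702830054010e0265010a019f01c50190012500e80011015b01c301b7009501a6007801af0279005a006400910192006a005c014301a401770132019c0216029800280008028a00600247026b0245018a009c029600f100380133006c001e0098013900e0020d014900d002ab0206012201cb010401e6004900df00f500a8018300ee0280004a001300c001f3026200d2000b016b00c4012e0065016700870157013402740092002902610203008802a8019b009a02880070012d02200084010500ce017e0225023102b60152009e0017004401f4012700e601c0016c0052002501eb0072021f00d90059022c004c004200c8022d005d00a000e901ab01a701b5008a004e00320158028d028c028601680073001a00eb018b017601e400bf013b017f007b028b0211028201f900fc0248026e00350172019501ba014a004301fd022b00b401dc02aa021900a6015d011302a5006e019100b7018f013e014001a800c200f3012a01b90229023e0241017a0198017400a1012b029902330269025a0147016f01e100360294003e00ff02440217012001f8020b010c01c601bf00d8023f002d027c025b0093010902460103011101b1011902ae023800970108023a00dd015a0284002f0063021b00bc01c801b8028701a1006f0022025302ba00ec015f017501ff01f000b0026f01f101cc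01a9004000ca0164018c027f00fb007600c900f902bd0018019e0205025c01800197029b01ce021a01f200260257000f00fe01c202280235009f00af008600aa025802a4007900ef02180243008d0144000100ac0136007501a50080002300a70082011e027a01ae01ca004601ec027800a2002400f2006700f4029c02a600900153007401510010020a005300ba0163009b006800a40215024c0015012c0272014800a900270291011401cd020e002e01ef01e0015e003d023d001c0047020f02b7024f01fc00410236006b01dd022201960160011500e50141018802b501e501ac01ed00b501be013a01c4021e017d02b10128007d00c1024a02ac01b301d8004500b101d2021c00e3010002b8026302500210014b028900da0199028501a2005801940154015000d3002001de0260029d02130187007701cf009d000602b0023201da00ab004d00c50259029a0106007f01ea00500200013f023b001d01d501e701aa02560273002b018d004b02a100fa01fb02b3022e0129014600940181021d01240207026d000502a000990138025501e3017b02420169026800c7016e0170011d00cf02b9003b004800830021014c005700be014e008b011f022701a300b800f00014017901d000ea0264011a01d100cd01d900f6000c00f8026701f602760295005e016a0142011c01d4021200cc026c022a008c0107003400f700b9025d000a0290028f0056003301b601f7029200e1024d02bc024e0002010d010200b20137029702af00bd0182017801d701b2025e012f007e02080051016d0081004f00b302a3006d000e0184018e00dc01bb00fd027002a700070000001901930061003900ae010b011b009601d60055008e008f011201310159023901e9016601bc017101560230020c006600b6010100db0162007c01890071027701300221003f00a3027100e70121000d0202024b0085011801fe0223020401ad014d00e40252014f005b0069018501df001201e8001b0226025f029e00ad010f00620234022f000400d100de001602a9027e017c027b0161027500d6015c026a000901db00890249025101f502810117002a00cb02b4023c0030013d01c901fa027d00d40123014502b2002c020901c70003029300c3003700a5]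
noncomputable def π (l x : ℕ) : ℕ := Nat.land (Nat.shiftRight (nthD Ps 0 l) (Nat.shiftLeft x 4)) 65535
noncomputable def Z : List ℕ := [one]
noncomputable def sprd (x : ℕ) (L : List (ℕ × ℕ)) : ℕ :=
  List.rec (motive := fun _ => ℕ) x (fun q _ y => Nat.lor (Nat.xor y (Nat.land y q.1)) (Nat.shiftLeft (Nat.land y q.1) q.2)) L
noncomputable def sa0 : ℕ := (2 ^ 2 - 1) * 2 ^ 2 * geo 32 32
noncomputable def sa1 : ℕ := (2 ^ 4 - 1) * 2 ^ 4 * geo 64 16
noncomputable def sa2 : ℕ := (2 ^ 8 - 1) * 2 ^ 8 * geo 128 8
noncomputable def sa3 : ℕ := (2 ^ 16 - 1) * 2 ^ 16 * geo 256 4
noncomputable def sa4 : ℕ := (2 ^ 32 - 1) * 2 ^ 32 * geo 512 2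
noncomputable def sa5 : ℕ := (2 ^ 64 - 1) * 2 ^ 64 * geo 1024 1
noncomputable def sa : List (ℕ × ℕ) := [(sa0, 14), (sa1, 28), (sa2, 56), (sa3, 112), (sa4, 224), (sa5, 448)]
noncomputable def t0 : ℕ := 0x48941251448911256444a11186842a21
noncomputable def t1 : ℕ := 0x46051509a4a06160064a05169064a051
noncomputable def t2 : ℕ := 0x58149241468115242454819182862825
noncomputable def t3 : ℕ := 0x69015a085520994002650459109580a9
noncomputable def t4 : ℕ := 0x4852126444151186a14498112a844921
noncomputable def t5 : ℕ := 0x5a809610660855014056209504a60265
noncomputable def t6 : ℕ := 0x5052906406150586a15098902a064905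
noncomputable def t7 : ℕ := 0x62245481258249281462415481252449
noncomputable def t8 : ℕ := 0x51419828162485428251149818168185
noncomputable def t9 : ℕ := 0x69995a5a556999556a65a65956959aa9
noncomputable def t10 : ℕ := 0x52489422264445128852129448261145
noncomputable def t11 : ℕ := 0x60a15098052a09495260645015058609
noncomputable def t12 : ℕ := 0x68445221458419228464115188852129
noncomputable def t13 : ℕ := 0x40021004041001800140081020044001
noncomputable def t14 : ℕ := 0x58419228462415428254149118868125
noncomputable def t15 : ℕ := 0x58069205469015a005540991a0866025
noncomputable def t16 : ℕ := 0x656959aa9566a95a9a69565a59559599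
noncomputable def t17 : ℕ := 0x6049502a056409528a60165058059109
noncomputable def t18 : ℕ := 0x46881512a4486111484a221644641251
noncomputable def t19 : ℕ := 0x555699659695a5a6a559999aaa566995
noncomputable def t20 : ℕ := 0x51429824161485828151189828164185
noncomputable def t21 : ℕ := 0x66405520a5046902806a105608650159
noncomputable def t22 : ℕ := 0x4858126244451116a84492114a841921
noncomputable def t23 : ℕ := 0x4059106a04650156aa4096105a049901
noncomputable def t24 : ℕ := 0x66a55599a5aa6969566a65569565a659
noncomputable def t25 : ℕ := 0x4a811618642851414246241514a48261
noncomputable def t26 : ℕ := 0x64905150850929056068a05206450a19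
noncomputable def t27 : ℕ := 0x52819418262845414252249414268245
noncomputable def t28 : ℕ := 0x4229148a246241581a42461451249441
noncomputable def t29 : ℕ := 0x4055106904a50166a64095109a04a901
noncomputable def t30 : ℕ := 0x68125244451119842164885122854829
noncomputable def t31 : ℕ := 0x51a09890160a85095051609805160685
noncomputable def t32 : ℕ := 0x4a821614641851814146281524a44261
noncomputable def t33 : ℕ := 0x41941851148981256441a11886142a81
noncomputable def t34 : ℕ := 0x6a085602654059100866025540a51069
noncomputable def t35 : ℕ := 0x4129188a146281581a41461851149481
noncomputable def t36 : ℕ := 0x42001400240041000042001400240041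
noncomputable def t37 : ℕ := 0x4a05160964a051600646051590a4a061
noncomputable def t38 : ℕ := 0x416218a41416818a9141581829144581
noncomputable def t39 : ℕ := 0x64145141858129242468815282452819
noncomputable def t40 : ℕ := 0x54189142864125142858829242461815
noncomputable def t41 : ℕ := 0x412a18861452819819414a1861145481
noncomputable def t42 : ℕ := 0x54419128862425428258149218468115
noncomputable def t43 : ℕ := 0x51249881168285281451419881162485
noncomputable def t44 : ℕ := 0x4a061605649051a005460915a0a46061
noncomputable def t45 : ℕ := 0x59aa9a96565a959959556a99659656a5
noncomputable def t46 : ℕ := 0x46221584a4126188114a481621644451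
noncomputable def t47 : ℕ := 0x61445821158489228461115888152189
noncomputable def t48 : ℕ := 0x59109a405601950420558099029608a5
noncomputable def t49 : ℕ := 0x68885212454819114864225144851229
noncomputable def t50 : ℕ := 0x66045501a5806920046a015680652059
noncomputable def t51 : ℕ := 0x50169045069105a425508990a2066805
noncomputable def t52 : ℕ := 0x51069805169085a005510998a0166085
noncomputable def t53 : ℕ := 0x6045502905a40962866015509805a109
noncomputable def t54 : ℕ := 0x666955aaa566695a9a6a565659659559
noncomputable def t55 : ℕ := 0x60985052054909156860a25046051a09
noncomputable def t56 : ℕ := 0x62115448252149442262845412258849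
noncomputable def t57 : ℕ := 0x5a6996aa6666555a9a56569559a69565
noncomputable def t58 : ℕ := 0x6aa65695659a59a955666955a5a56669
noncomputable def t59 : ℕ := 0x5a569665669555a6a5569995aaa66965
noncomputable def t60 : ℕ := 0x61885812154889114861225844151289
noncomputable def t61 : ℕ := 0x602a50860552099819604a5061055409
noncomputable def t62 : ℕ := 0x5a9a9656665955956956aa9566a65a65
noncomputable def t63 : ℕ := 0x646051a08506290a9068505209450519
noncomputable def t64 : ℕ := 0x6aaa5696655a599959666a5565a55669
noncomputable def t65 : ℕ := 0x64245181858229281468415281452419
noncomputable def t66 : ℕ := 0x4095105904a901656640a5109604aa01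
noncomputable def t67 : ℕ := 0x56959559a6a96565665aa5969666aa55
noncomputable def t68 : ℕ := 0x4aa01690640a51095046601505a40661
noncomputable def t69 : ℕ := 0x64825114851829814168285224454219
noncomputable def t70 : ℕ := 0x559a99569659a5956959aa9a66565a95
noncomputable def t71 : ℕ := 0x5409910a866025500a58069250469015
noncomputable def t72 : ℕ := 0x61125844151189842161885822154889
noncomputable def t73 : ℕ := 0x44001100840021000048001200440011
noncomputable def t74 : ℕ := 0x40a5109904aa0169564065109504a601
noncomputable def t75 : ℕ := 0x6054506105850926a46091508a052909
noncomputable def t76 : ℕ := 0x5025908906a20568165045909106a405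
noncomputable def t77 : ℕ := 0x4505190994a0a1600649051a9054a091
noncomputable def t78 : ℕ := 0x656a59a69556a99a99695a5a69555599
noncomputable def t79 : ℕ := 0x59019a085620954002550499109680a5
noncomputable def t80 : ℕ := 0x68845211458819214464215184852229
noncomputable def t81 : ℕ := 0x559699559699a5a56559a99aa6566a95
noncomputable def t82 : ℕ := 0x5a6596a966a6556a9656559599a6a565
noncomputable def t83 : ℕ := 0x51829814161885814151289824164285
noncomputable def t84 : ℕ := 0x421a14462451419429428a1462245841
noncomputable def t85 : ℕ := 0x4a241681648251281446411581a42461
noncomputable def t86 : ℕ := 0x506890a20646051a9850529049061505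
noncomputable def t87 : ℕ := 0x651059409501a9042069805a02550899
noncomputable def t88 : ℕ := 0x64065105859029a005680952a0456019
noncomputable def t89 : ℕ := 0x665a5566a5556996a96a9a566a655959
noncomputable def t90 : ℕ := 0x56969555a69965a5655aa996a6666a55
noncomputable def t91 : ℕ := 0x626054a02506490a9062505409250549
noncomputable def t92 : ℕ := 0x55a9999a966aa5595a59669a55569695
noncomputable def t93 : ℕ := 0x58429224461415828154189128864125
noncomputable def t94 : ℕ := 0x59809a105608950140552099049602a5
noncomputable def t95 : ℕ := 0x42861415249841a145422914a4246241
noncomputable def t96 : ℕ := 0x554099209604a5028059109a08560195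
noncomputable def t97 : ℕ := 0x58119248462115442254849112868825
noncomputable def t98 : ℕ := 0x49481a225444911288451219489411a1
noncomputable def t99 : ℕ := 0x454419219484a1228449111a88542191
noncomputable def t100 : ℕ := 0x550899029640a5100859029a40561095
noncomputable def t101 : ℕ := 0x69665aa5559699aa95655959a99565a9
noncomputable def t102 : ℕ := 0x426114a82426414a9242541419248541
noncomputable def t103 : ℕ := 0x4252146424154186a14298142a244941
noncomputable def t104 : ℕ := 0x48a21294441a11895144681125844621
noncomputable def t105 : ℕ := 0x50a19098062a05495250649015068605
noncomputable def t106 : ℕ := 0x4225148924a24168164245149124a441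
noncomputable def t107 : ℕ := 0x59a99a9a566a95595a556699559696a5
noncomputable def t108 : ℕ := 0x5450916086052506a05890920a460915
noncomputable def t109 : ℕ := 0x58829214461815814154289124864225
noncomputable def t110 : ℕ := 0x54819118862825414258249214468215
noncomputable def t111 : ℕ := 0x64a05190850a29095068605205450619
noncomputable def t112 : ℕ := 0x49211a885422914812454419119484a1
noncomputable def t113 : ℕ := 0x666555a9a5a6696a966a55569965a559
noncomputable def t114 : ℕ := 0x52909450260945056052a09406260a45
noncomputable def t115 : ℕ := 0x41a41891148a81295441611885142681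
noncomputable def t116 : ℕ := 0x51119848162185442251849812168885
noncomputable def t117 : ℕ := 0x4849122a446411528a44161158849121
noncomputable def t118 : ℕ := 0x6051506805250946a26094501a058909
noncomputable def t119 : ℕ := 0x62285482254249181862425441251449
noncomputable def t120 : ℕ := 0x4154186114858126a44191188a142981
noncomputable def t121 : ℕ := 0x66565565a59569a6a56a9956aa656959
noncomputable def t122 : ℕ := 0x4889121a446811514a44261154849221
noncomputable def t123 : ℕ := 0x4158186214458116a84192184a141981
noncomputable def t124 : ℕ := 0x6a6a56a66556599a99665a5569a55569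
noncomputable def t125 : ℕ := 0x6089501a056809514a60265054059209
noncomputable def t126 : ℕ := 0x669a5556a5596995696aaa5666655a59
noncomputable def t127 : ℕ := 0x4a111648642151442246841512a48861
noncomputable def t128 : ℕ := 0x49881a125448911148452219449412a1
noncomputable def t129 : ℕ := 0x6085501905a80961466025509405a209
noncomputable def t130 : ℕ := 0x640a51068550299009680a5260455019
noncomputable def t131 : ℕ := 0x5a409620660455028056109508a60165
noncomputable def t132 : ℕ := 0x5659956aa6656556aa5a96965a669955
noncomputable def t133 : ℕ := 0x50009000060005000050009000060005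
noncomputable def t134 : ℕ := 0x49441a215484912284451119889421a1
noncomputable def t135 : ℕ := 0x4452116484152186a14898122a444911
noncomputable def t136 : ℕ := 0x62845411258849214462215484252249
noncomputable def t137 : ℕ := 0x61845811158889214461215884152289
noncomputable def t138 : ℕ := 0x69595a6a55659956aa6596595a9599a9
noncomputable def t139 : ℕ := 0x565a9566a6556596a95a9a966a665955
noncomputable def t140 : ℕ := 0x58289282464215181854429141861425
noncomputable def t141 : ℕ := 0x42a11498242a41495242641415248641
noncomputable def t142 : ℕ := 0x580a92064650159009540a9160865025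
noncomputable def t143 : ℕ := 0x652059809502a9081069405a01550499
noncomputable def t144 : ℕ := 0x5a969655669955a56556a995a6a66a65
noncomputable def t145 : ℕ := 0x64125144851129842168885222454819
noncomputable def t146 : ℕ := 0x69695aaa5566995a9a655659599595a9
noncomputable def t147 : ℕ := 0x406910aa0466015a9a40561059049501
noncomputable def t148 : ℕ := 0x51219888162285481251449811168485
noncomputable def t149 : ℕ := 0x454219249414a1828149181a28544191
noncomputable def t150 : ℕ := 0x550499019680a5200459019a80562095
noncomputable def t151 : ℕ := 0x42921454241941856142a81426244a41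
noncomputable def t152 : ℕ := 0x4149182a146481528a41161858149181
noncomputable def t153 : ℕ := 0x586092a04606150a9054509109860525
noncomputable def t154 : ℕ := 0x49121a445411918421458819229448a1
noncomputable def t155 : ℕ := 0x416818a21446811a9841521849141581
noncomputable def t156 : ℕ := 0x4a441621648451228446111588a42161
noncomputable def t157 : ℕ := 0x42161445249141a425428914a2246841
noncomputable def t158 : ℕ := 0x4429118a846221581a48461251449411
noncomputable def t159 : ℕ := 0x50989052064905156850a29046061a05
noncomputable def t160 : ℕ := 0x66a9559aa56a69595a6a665655659659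
noncomputable def t161 : ℕ := 0x4a881612644851114846221544a41261
noncomputable def t162 : ℕ := 0x66015508a5206940026a045610658059
noncomputable def t163 : ℕ := 0x405a106604550196a9409a106a045901
noncomputable def t164 : ℕ := 0x558099109608a5014059209a04560295
noncomputable def t165 : ℕ := 0x46501560a4056106a04a90160a640951
noncomputable def t166 : ℕ := 0x606250a40516098a9160585029054509
noncomputable def t167 : ℕ := 0x56559569a6a56566a65a95969a66a955
noncomputable def t168 : ℕ := 0x49221a845412918811454819219444a1
noncomputable def t169 : ℕ := 0x650159089520a9400269045a10558099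
noncomputable def t170 : ℕ := 0x68485222454419128864125148851129
noncomputable def t171 : ℕ := 0x46901550a4096105604aa01606640a51
noncomputable def t172 : ℕ := 0x520a94062650459009520a9460265045
noncomputable def t173 : ℕ := 0x5405910986a02560065805929046a015
noncomputable def t174 : ℕ := 0x60a25094051a09895160685025054609
noncomputable def t175 : ℕ := 0x4a121644641151842146881522a44861
noncomputable def t176 : ℕ := 0x64215188852229481268445211458419
noncomputable def t177 : ℕ := 0x6a205680650259081066405501a50469
noncomputable def t178 : ℕ := 0x450a19069450a19009490a1a60545091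
noncomputable def t179 : ℕ := 0x4819124a446111542a44861152849821
noncomputable def t180 : ℕ := 0x56049501a6806520045a019680662055
noncomputable def t181 : ℕ := 0x45a01990940aa1095049601a05540691
noncomputable def t182 : ℕ := 0x62825414251849814162285424254249
noncomputable def t183 : ℕ := 0x46421524a4146182814a181628644151
noncomputable def t184 : ℕ := 0x59669aa5569695aa95555999a99665a5
noncomputable def t185 : ℕ := 0x4425118984a22168164845129144a411
noncomputable def t186 : ℕ := 0x516098a01606850a9051509809160585
noncomputable def t187 : ℕ := 0x58249281468215281454419181862425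
noncomputable def t188 : ℕ := 0x450619059490a1a00549091aa0546091
noncomputable def t189 : ℕ := 0x4a421624641451828146181528a44161
noncomputable def t190 : ℕ := 0x54229184861225881158489221464415
noncomputable def t191 : ℕ := 0x68215288452219481264445111858429
noncomputable def t192 : ℕ := 0x4145182914a48162864115189814a181
noncomputable def t193 : ℕ := 0x56209580a6026508105a409601660455
noncomputable def t194 : ℕ := 0x41a81892144a81195841621845141681
noncomputable def t195 : ℕ := 0x69565a65559599a6a5659959aa9569a9
noncomputable def t196 : ℕ := 0x555a99669655a596a9599a9a6a565995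
noncomputable def t197 : ℕ := 0x68905250450919056064a05106850a29
noncomputable def t198 : ℕ := 0x5a049601668055200456019580a62065
noncomputable def t199 : ℕ := 0x556a99a69656a59a99595a9a69565595
noncomputable def t200 : ℕ := 0x64285182854229181868425241451419
noncomputable def t201 : ℕ := 0x5250946026054506a05290940a260945
noncomputable def t202 : ℕ := 0x526094a02606450a9052509409260545
noncomputable def t203 : ℕ := 0x49841a115488912144452119849422a1
noncomputable def t204 : ℕ := 0x5a5a966666555596a9569a956aa65965
noncomputable def t205 : ℕ := 0x69205a805502990810654059019504a9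
noncomputable def t206 : ℕ := 0x699a5a56555999956965aa5966955aa9
noncomputable def t207 : ℕ := 0x56a9959aa66a65595a5a669655669655
noncomputable def t208 : ℕ := 0x69a95a9a556a99595a656659559596a9
noncomputable def t209 : ℕ := 0x4a841611648851214446211584a42261
noncomputable def t210 : ℕ := 0x61485822154489128861125848151189
noncomputable def t211 : ℕ := 0x566595a9a6a6656a965a55969966a555
noncomputable def t212 : ℕ := 0x52229484261245881152489421264445
noncomputable def t213 : ℕ := 0x4845122944a41162864415119884a121
noncomputable def t214 : ℕ := 0x48a41291448a11295444611185842621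
noncomputable def t215 : ℕ := 0x5aa5969966aa55695656659595a6a665
noncomputable def t216 : ℕ := 0x510a98061650859009510a9860165085
noncomputable def t217 : ℕ := 0x56569565a69565a6a55a9996aa666955
noncomputable def t218 : ℕ := 0x406510a904a6016a964055109904a501
noncomputable def t219 : ℕ := 0x4289141a246841514a42261454249241
noncomputable def t220 : ℕ := 0x55aa9996965aa59959596a9a65565695
noncomputable def t221 : ℕ := 0x61905850150989056061a05806150a89
noncomputable def t222 : ℕ := 0x61815818152889414261245814158289
noncomputable def t223 : ℕ := 0x40561065049501a6a5409910aa046901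
noncomputable def t224 : ℕ := 0x52189442264145142852829442261845
noncomputable def t225 : ℕ := 0x46a01590a40a6109504a601605640651
noncomputable def t226 : ℕ := 0x5029908a066205581a50469051069405
noncomputable def t227 : ℕ := 0x50949051068905256450a19086062a05
noncomputable def t228 : ℕ := 0x44a21194841a21895148681225444611
noncomputable def t229 : ℕ := 0x569a9556a6596595695aaa9666665a55
noncomputable def t230 : ℕ := 0x556699a59696a5aa9559599aa9566595
noncomputable def t231 : ℕ := 0x40a9109a046a01595a40661055049601
noncomputable def t232 : ℕ := 0x61145841158189242461815882152889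
noncomputable def t233 : ℕ := 0x66a65595a59a69a9556a6956a5656659
noncomputable def t234 : ℕ := 0x4449112a846421528a48161258449111
noncomputable def t235 : ℕ := 0x58489222464415128854129148861125
noncomputable def t236 : ℕ := 0x5085901906a80561465025909406a205
noncomputable def t237 : ℕ := 0x486212a44416118a9144581129844521
noncomputable def t238 : ℕ := 0x44a11198842a21495248641215448611
noncomputable def t239 : ℕ := 0x4851126844251146a24494111a848921
noncomputable def t240 : ℕ := 0x56089502a6406510085a029640661055
noncomputable def t241 : ℕ := 0x4458116284452116a84892124a441911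
noncomputable def t242 : ℕ := 0x409a1056045901956940aa1066045a01
noncomputable def t243 : ℕ := 0x54119148862125442258849212468815
noncomputable def t244 : ℕ := 0x49501a6054059106a04590190a9409a1
noncomputable def t245 : ℕ := 0x69025a045510998001650859209540a9
noncomputable def t246 : ℕ := 0x40201080040201081040401001040401
noncomputable def t247 : ℕ := 0x451219449411a1842149881a22544891
noncomputable def t248 : ℕ := 0x62215488252249481262445411258449
noncomputable def t249 : ℕ := 0x550199089620a5400259049a10568095
noncomputable def t250 : ℕ := 0x68225284451219881164485121854429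
noncomputable def t251 : ℕ := 0x556599a996a6a56a9659559a9956a595
noncomputable def t252 : ℕ := 0x50929054061905856150a89026064a05
noncomputable def t253 : ℕ := 0x46241581a4826128144a411681642451
noncomputable def t254 : ℕ := 0x482a12864452119819444a1161845421
noncomputable def t255 : ℕ := 0x608a50160558099149602a5064055209
noncomputable def t256 : ℕ := 0x4245142924a44162864215149824a141
noncomputable def t257 : ℕ := 0x46821514a4186181414a281624644251
noncomputable def t258 : ℕ := 0x551099409601a5042059809a02560895
noncomputable def t259 : ℕ := 0x66965555a59969a5656aa956a6656a59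
noncomputable def t260 : ℕ := 0x66805510a5086901406a205604650259
noncomputable def t261 : ℕ := 0x60915058052909456260a45016058a09
noncomputable def t262 : ℕ := 0x6595595995a9a9656669a55a9655aa99
noncomputable def t263 : ℕ := 0x64845111858829214468215284452219
noncomputable def t264 : ℕ := 0x59999a5a566995556a55a69956969aa5
noncomputable def t265 : ℕ := 0x55a5999996aaa5695659659a9556a695
noncomputable def t266 : ℕ := 0x5205940926a04560065205949026a045
noncomputable def t267 : ℕ := 0x62885412254849114862225444251249
noncomputable def t268 : ℕ := 0x4249142a246441528a42161458249141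
noncomputable def t269 : ℕ := 0x52429424261445828152189428264145
noncomputable def t270 : ℕ := 0x55a69995969aa5a95559699aa5566695
noncomputable def t271 : ℕ := 0x51489822164485128851129848161185
noncomputable def t272 : ℕ := 0x50269085069205a815504990a1066405
noncomputable def t273 : ℕ := 0x56409520a6046502805a109608660155
noncomputable def t274 : ℕ := 0x61215888152289481261445811158489
noncomputable def t275 : ℕ := 0x49051a0954a09160064505199094a0a1
noncomputable def t276 : ℕ := 0x4489111a846821514a48261254449211
noncomputable def t277 : ℕ := 0x58129244461115842154889122864825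
noncomputable def t278 : ℕ := 0x6a6656a5659659aa95665955a9a56569
noncomputable def t279 : ℕ := 0x60465025059409a285601950a8056109
noncomputable def t280 : ℕ := 0x452119889422a1481249441a11548491
noncomputable def t281 : ℕ := 0x69a55a9955aa9969566565599595a6a9
noncomputable def t282 : ℕ := 0x50a29094061a05895150689025064605
noncomputable def t283 : ℕ := 0x69965a55559999a56565a959a6956aa9
noncomputable def t284 : ℕ := 0x486812a24446111a9844521149841521
noncomputable def t285 : ℕ := 0x40961055049901a56540a910a6046a01
noncomputable def t286 : ℕ := 0x49141a415481912424458119829428a1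
noncomputable def t287 : ℕ := 0x5a019608662055400256049510a68065
noncomputable def t288 : ℕ := 0x59559a6956a59566a65595999a96a9a5
noncomputable def t289 : ℕ := 0x49811a185428914142452419149482a1
noncomputable def t290 : ℕ := 0x6850526045051906a06490510a850929
noncomputable def t291 : ℕ := 0x5aaa9696665a559959566a9565a65665
noncomputable def t292 : ℕ := 0x4454116184852126a44891128a442911
noncomputable def t293 : ℕ := 0x484a12264454119289441a1168845121
noncomputable def t294 : ℕ := 0x458819129448a1114849221a44541291
noncomputable def t295 : ℕ := 0x56a59599a6aa6569565a65969566a655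
noncomputable def t296 : ℕ := 0x6559596a9565a956aa69965a5a559999
noncomputable def t297 : ℕ := 0x61225884151289881161485821154489
noncomputable def t298 : ℕ := 0x6a95565965a959656666a55596a5aa69
noncomputable def t299 : ℕ := 0x42941451248941256442a11486242a41
noncomputable def t300 : ℕ := 0x5049902a066405528a50169058069105
noncomputable def t301 : ℕ := 0x40401020040401028040101008040101
noncomputable def t302 : ℕ := 0x540a91068650259009580a9260465015
noncomputable def t303 : ℕ := 0x4a481622644451128846121548a41161
noncomputable def t304 : ℕ := 0x5a6696a5669655aa95565995a9a66565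
noncomputable def t305 : ℕ := 0x5a55966966a55566a65695959aa6a965
noncomputable def t306 : ℕ := 0x666a55a6a556699a996a5a5669655559
noncomputable def t307 : ℕ := 0x69085a025540991008650259409510a9
noncomputable def t308 : ℕ := 0x4285141924a84161464225149424a241
noncomputable def t309 : ℕ := 0x4445112984a42162864815129844a111
noncomputable def t310 : ℕ := 0x48461225449411a285441911a8846121
noncomputable def t311 : ℕ := 0x6555596995a5a966a669955a9a55a999
noncomputable def t312 : ℕ := 0x426214a42416418a9142581429244541
noncomputable def t313 : ℕ := 0x51129844161185842151889822164885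
noncomputable def t314 : ℕ := 0x4a211688642251481246441511a48461
noncomputable def t315 : ℕ := 0x52a09490260a45095052609405260645
noncomputable def t316 : ℕ := 0x52289482264245181852429441261445
noncomputable def t317 : ℕ := 0x48911258442911456244a41116848a21
noncomputable def t318 : ℕ := 0x69045a015580992004650159809520a9
noncomputable def t319 : ℕ := 0x56029504a6106580015a089620664055
noncomputable def t320 : ℕ := 0x44161145849121a425488912a2446811
noncomputable def t321 : ℕ := 0x59029a045610958001550899209640a5
noncomputable def t322 : ℕ := 0x49061a05549091a005450919a09460a1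
noncomputable def t323 : ℕ := 0x422a14862452419819424a1461245441
noncomputable def t324 : ℕ := 0x4119184a146181542a41861852149881
noncomputable def t325 : ℕ := 0x64485122854429128868125248451119
noncomputable def t326 : ℕ := 0x6809520a456019500a64065150859029
noncomputable def t327 : ℕ := 0x546091a08606250a9058509209460515
noncomputable def t328 : ℕ := 0x606450a10586092a9460515089052509
noncomputable def t329 : ℕ := 0x69405a205504990280651059089501a9
noncomputable def t330 : ℕ := 0x49901a50540991056045a01906940aa1
noncomputable def t331 : ℕ := 0x64885112854829114868225244451219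
noncomputable def t332 : ℕ := 0x666655a5a59669aa956a5956a9656559
noncomputable def t333 : ℕ := 0x46111548a4216144224a841612648851
noncomputable def t334 : ℕ := 0x4115184914a18164264185189214a881
noncomputable def t335 : ℕ := 0x5045902906a40562865015909806a105
noncomputable def t336 : ℕ := 0x6a105640650159042066805502a50869
noncomputable def t337 : ℕ := 0x69655aa955a6996a966555599995a5a9
noncomputable def t338 : ℕ := 0x54249181868225281458419281462415
noncomputable def t339 : ℕ := 0x58449221468415228454119188862125
noncomputable def t340 : ℕ := 0x60865015059809a145602950a4056209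
noncomputable def t341 : ℕ := 0x40801010040801014040201004040201
noncomputable def t342 : ℕ := 0x40081002044001100840021040041001
noncomputable def t343 : ℕ := 0x42a21494241a41895142681425244641
noncomputable def t344 : ℕ := 0x458419119488a1214449211a84542291
noncomputable def t345 : ℕ := 0x5089901a066805514a50269054069205
noncomputable def t346 : ℕ := 0x6019504a056109542a60865052059809
noncomputable def t347 : ℕ := 0x4151186814258146a24194181a148981
noncomputable def t348 : ℕ := 0x460a1506a4506190094a0a1660645051
noncomputable def t349 : ℕ := 0x62125444251149842162885422254849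
noncomputable def t350 : ℕ := 0x58219288462215481254449111868425
noncomputable def t351 : ℕ := 0x51449821168485228451119888162185
noncomputable def t352 : ℕ := 0x6a59566a65655956aa6696555aa59969
noncomputable def t353 : ℕ := 0x414a18261454819289411a1868145181
noncomputable def t354 : ℕ := 0x6805520945a01960066405519085a029
noncomputable def t355 : ℕ := 0x446411a18486212a9448511289442511
noncomputable def t356 : ℕ := 0x4258146224454116a84292144a241941
noncomputable def t357 : ℕ := 0x48861215449811a145442911a4846221
noncomputable def t358 : ℕ := 0x58889212464815114854229144861225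
noncomputable def t359 : ℕ := 0x566995aaa666655a9a5a569659669555
noncomputable def t360 : ℕ := 0x42261485249241a815424914a1246441
noncomputable def t361 : ℕ := 0x41911858142981456241a41816148a81
noncomputable def t362 : ℕ := 0x6a025604651059800166085520a54069
noncomputable def t363 : ℕ := 0x60a45091058a09295460615085052609
noncomputable def t364 : ℕ := 0x49181a425441911428458219429418a1
noncomputable def t365 : ℕ := 0x6150586015058906a06190580a150989
noncomputable def t366 : ℕ := 0x69805a105508990140652059049502a9
noncomputable def t367 : ℕ := 0x54829114861825814158289224464215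
noncomputable def t368 : ℕ := 0x54069105869025a005580992a0466015
noncomputable def t369 : ℕ := 0x59959a5956a995656655a5999696aaa5
noncomputable def t370 : ℕ := 0x44941151848921256448a11286442a11
noncomputable def t371 : ℕ := 0x442a11868452219819484a1261445411
noncomputable def t372 : ℕ := 0x61415828152489428261145818158189
noncomputable def t373 : ℕ := 0x61185842154189142861825842151889
noncomputable def t374 : ℕ := 0x64445121858429228468115288452119
noncomputable def t375 : ℕ := 0x65a9599a956aa9595a69665a55559699
noncomputable def t376 : ℕ := 0x488a12164458119149442a1164845221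
noncomputable def t377 : ℕ := 0x5aa69695669a55a955566995a5a66665
noncomputable def t378 : ℕ := 0x446211a48416218a9148581229444511
noncomputable def t379 : ℕ := 0x48a81292444a11195844621145841621
noncomputable def t380 : ℕ := 0x6209540a256049500a62065450259049
noncomputable def t381 : ℕ := 0x58189242464115142854829142861825
noncomputable def t382 : ℕ := 0x466015a0a406610a904a501609640551
noncomputable def t383 : ℕ := 0x6109580a156089500a61065850159089
noncomputable def t384 : ℕ := 0x5054906106850526a45091908a062905
noncomputable def t385 : ℕ := 0x52889412264845114852229444261245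
noncomputable def t386 : ℕ := 0x4485111984a82161464825129444a211
noncomputable def t387 : ℕ := 0x61425824151489828161185828154189
noncomputable def t388 : ℕ := 0x6a805610650859014066205504a50269
noncomputable def t389 : ℕ := 0x54a09190860a25095058609205460615
noncomputable def t390 : ℕ := 0x6699555aa56969556a6aa65656659a59
noncomputable def t391 : ℕ := 0x52829414261845814152289424264245
noncomputable def t392 : ℕ := 0x62415428252449428262145418258149
noncomputable def t393 : ℕ := 0x5850926046051506a05490910a860925
noncomputable def t394 : ℕ := 0x40041001048001200440011080042001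
noncomputable def t395 : ℕ := 0x4419114a846121542a48861252449811
noncomputable def t396 : ℕ := 0x61285882154289181861425841151489
noncomputable def t397 : ℕ := 0x4451116884252146a24894121a448911
noncomputable def t398 : ℕ := 0x601a50460551099429608a5062055809
noncomputable def t399 : ℕ := 0x58849211468815214454219184862225
noncomputable def t400 : ℕ := 0x616058a01506890a9061505809150589
noncomputable def t401 : ℕ := 0x69aa5a96555a999959656a59659556a9
noncomputable def t402 : ℕ := 0x695a5a6655559996a9659a596a9559a9
noncomputable def t403 : ℕ := 0x44261185849221a815484912a1446411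
noncomputable def t404 : ℕ := 0x66105540a5016904206a805602650859
noncomputable def t405 : ℕ := 0x58819218462815414254249114868225
noncomputable def t406 : ℕ := 0x6105580915a08960066105589015a089
noncomputable def t407 : ℕ := 0x51889812164885114851229844161285
noncomputable def t408 : ℕ := 0x62485422254449128862125448251149
noncomputable def t409 : ℕ := 0x52119448262145442252849412268845
noncomputable def t410 : ℕ := 0x54289182864225181858429241461415
noncomputable def t411 : ℕ := 0x6052506405150986a16098502a054909
noncomputable def t412 : ℕ := 0x506190a80626054a9250549019068505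
noncomputable def t413 : ℕ := 0x68415228452419428264145118858129
noncomputable def t414 : ℕ := 0x6599595a9569a9556a69a65a56559a99
noncomputable def t415 : ℕ := 0x486412a14486112a9444511189842521
noncomputable def t416 : ℕ := 0x650259049510a9800169085a20554099
noncomputable def t417 : ℕ := 0x68145241458119242464815182852829
noncomputable def t418 : ℕ := 0x41a11898142a81495241641815148681
noncomputable def t419 : ℕ := 0x41861815149881a145412918a4146281
noncomputable def t420 : ℕ := 0x454819229444a1128849121a48541191
noncomputable def t421 : ℕ := 0x54429124861425828158189228464115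
noncomputable def t422 : ℕ := 0x5699955aa66965556a5aa69656669a55
noncomputable def t423 : ℕ := 0x66025504a5106980016a085620654059
noncomputable def t424 : ℕ := 0x42461425249441a285421914a8246141
noncomputable def t425 : ℕ := 0x52249481268245281452419481262445
noncomputable def t426 : ℕ := 0x428a14162458419149422a1464245241
noncomputable def t427 : ℕ := 0x64415128852429428268145218458119
noncomputable def t428 : ℕ := 0x5150986016058506a05190980a160985
noncomputable def t429 : ℕ := 0x49091a0a546091500a450619509490a1
noncomputable def t430 : ℕ := 0x502a90860652059819504a9061065405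
noncomputable def t431 : ℕ := 0x41461825149481a285411918a8146181
noncomputable def t432 : ℕ := 0x451119489421a1442249841a12548891
noncomputable def t433 : ℕ := 0x459019509409a1056049a01a06540a91
noncomputable def t434 : ℕ := 0x51849811168885214451219884162285
noncomputable def t435 : ℕ := 0x490a1a065450919009450a19609450a1
noncomputable def t436 : ℕ := 0x4254146124854126a44291148a242941
noncomputable def t437 : ℕ := 0x44911158842921456248a41216448a11
noncomputable def t438 : ℕ := 0x444a11268454219289481a1268445111
noncomputable def t439 : ℕ := 0x40aa1096045a019959406a1065045601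
noncomputable def t440 : ℕ := 0x68115248452119442264845112858829
noncomputable def t441 : ℕ := 0x606850a20546091a9860525049051509
noncomputable def t442 : ℕ := 0x46481522a4446112884a121648641151
noncomputable def t443 : ℕ := 0x62145441258149242462815482252849
noncomputable def t444 : ℕ := 0x66955559a5a96965666aa5569665aa59
noncomputable def t445 : ℕ := 0x59699aaa5666955a9a555699599695a5
noncomputable def t446 : ℕ := 0x61a05890150a89095061605805150689
noncomputable def t447 : ℕ := 0x42981452244941156842a21446241a41
noncomputable def t448 : ℕ := 0x60a85092054a09195860625045051609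
noncomputable def t449 : ℕ := 0x50869015069805a145502990a4066205
noncomputable def t450 : ℕ := 0x49281a825442911818454219419414a1
noncomputable def t451 : ℕ := 0x5a109640660155042056809502a60865
noncomputable def t452 : ℕ := 0x4415114984a12164264885129244a811
noncomputable def t453 : ℕ := 0x486112a84426114a9244541119848521
noncomputable def t454 : ℕ := 0x64185142854129142868825242451819
noncomputable def t455 : ℕ := 0x5a59966a66655556aa5696955aa69965
noncomputable def t456 : ℕ := 0x446811a28446211a9848521249441511
noncomputable def t457 : ℕ := 0x40011008042001400240041010048001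
noncomputable def t458 : ℕ := 0x446111a88426214a9248541219448511
noncomputable def t459 : ℕ := 0x6a99565a656959556a66a65556a59a69
noncomputable def t460 : ℕ := 0x659659559599a9a56569a95aa6556a99
noncomputable def t461 : ℕ := 0x595a9a6656559596a9559a996a9659a5
noncomputable def t462 : ℕ := 0x49411a285424914282451419189481a1
noncomputable def t463 : ℕ := 0x416418a11486812a9441511889142581
noncomputable def t464 : ℕ := 0x451419419481a1242449811a82542891
noncomputable def t465 : ℕ := 0x5019904a066105542a50869052069805
noncomputable def t466 : ℕ := 0x40101040040101042040801002040801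
noncomputable def t467 : ℕ := 0x4a09160a646051500a46061550a49061
noncomputable def t468 : ℕ := 0x506290a40616058a9150589029064505
noncomputable def t469 : ℕ := 0x552099809602a5081059409a01560495
noncomputable def t470 : ℕ := 0x61245881158289281461415881152489
noncomputable def t471 : ℕ := 0x68185242454119142864825142851829
noncomputable def t472 : ℕ := 0x6015504905a10964266085509205a809
noncomputable def t473 : ℕ := 0x418a18161458819149412a1864145281
noncomputable def t474 : ℕ := 0x5805920946a01560065405919086a025
noncomputable def t475 : ℕ := 0x6409510a856029500a68065250459019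
noncomputable def t476 : ℕ := 0x51189842164185142851829842161885
noncomputable def t477 : ℕ := 0x41001800140081000041001800140081
noncomputable def t478 : ℕ := 0x52849411268845214452219484262245
noncomputable def t479 : ℕ := 0x5599995a9669a5556a59a69a56569a95
noncomputable def t480 : ℕ := 0x65a5599995aaa9695669655a9555a699
noncomputable def t481 : ℕ := 0x60165045059109a425608950a2056809
noncomputable def t482 : ℕ := 0x4a411628642451428246141518a48161
noncomputable def t483 : ℕ := 0x6450516085052906a06890520a450919
noncomputable def t484 : ℕ := 0x54889112864825114858229244461215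
noncomputable def t485 : ℕ := 0x481a12464451119429448a1162845821
noncomputable def t486 : ℕ := 0x566695a5a69665aa955a5996a9666555
noncomputable def t487 : ℕ := 0x6a6556a965a6596a9666555599a5a569
noncomputable def t488 : ℕ := 0x5058906206450516a85092904a061905
noncomputable def t489 : ℕ := 0x44981152844921156848a21246441a11
noncomputable def t490 : ℕ := 0x654059209504a9028069105a08550199
noncomputable def t491 : ℕ := 0x54219188862225481258449211468415
noncomputable def t492 : ℕ := 0x6a55566965a55966a66695559aa5a969
noncomputable def t493 : ℕ := 0x5555996996a5a566a659959a9a56a995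
noncomputable def t494 : ℕ := 0x6a965655659959a56566a955a6a56a69
noncomputable def t495 : ℕ := 0x42a81492244a41195842621445241641
noncomputable def t496 : ℕ := 0x68425224451419828164185128854129
noncomputable def t497 : ℕ := 0x68285282454219181864425141851429
noncomputable def t498 : ℕ := 0x62815418252849414262245414258249
noncomputable def t499 : ℕ := 0x69955a5955a999656665a5599695aaa9
noncomputable def t500 : ℕ := 0x56019508a6206540025a049610668055
noncomputable def t501 : ℕ := 0x424a14262454419289421a1468245141
noncomputable def t502 : ℕ := 0x6aa9569a656a59595a66665555a59669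
noncomputable def t503 : ℕ := 0x56aa9596a65a6599595a6a9665665655
noncomputable def t504 : ℕ := 0x49a01a90540a910950456019059406a1
noncomputable def t505 : ℕ := 0x5a029604661055800156089520a64065
noncomputable def t506 : ℕ := 0x66aa5596a55a6999596a6a5665655659
noncomputable def t507 : ℕ := 0x4219144a246141542a42861452249841
noncomputable def t508 : ℕ := 0x46281582a4426118184a421641641451
noncomputable def t509 : ℕ := 0x56809510a6086501405a209604660255
noncomputable def t510 : ℕ := 0x50919058062905456250a49016068a05
noncomputable def t511 : ℕ := 0x69105a405501990420658059029508a9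
noncomputable def t512 : ℕ := 0x50a89092064a05195850629045061605
noncomputable def t513 : ℕ := 0x52069405269045a005520994a0266045
noncomputable def t514 : ℕ := 0x426414a12486412a9442511489242541
noncomputable def t515 : ℕ := 0x5595995996a9a5656659a59a9656aa95
noncomputable def t516 : ℕ := 0x44a81192844a21195848621245441611
noncomputable def t517 : ℕ := 0x5051906806250546a25094901a068905
noncomputable def t518 : ℕ := 0x51909850160985056051a09806160a85
noncomputable def t519 : ℕ := 0x54449121868425228458119288462115
noncomputable def t520 : ℕ := 0x48161245449111a425448911a2846821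
noncomputable def t521 : ℕ := 0x61115848152189442261845812158889
noncomputable def t522 : ℕ := 0x62445421258449228462115488252149
noncomputable def t523 : ℕ := 0x4815124944a11164264485119284a821
noncomputable def t524 : ℕ := 0x411a18461451819429418a1862145881
noncomputable def t525 : ℕ := 0x59209a805602950810554099019604a5
noncomputable def t526 : ℕ := 0x5a99965a666955556a56a69556a69a65
noncomputable def t527 : ℕ := 0x46441521a4846122844a111688642151
noncomputable def t528 : ℕ := 0x68815218452819414264245114858229
noncomputable def t529 : ℕ := 0x5a209680660255081056409501a60465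
noncomputable def t530 : ℕ := 0x58909250460915056054a09106860a25
noncomputable def t531 : ℕ := 0x49241a815482912814454119819424a1
noncomputable def t532 : ℕ := 0x44461125849421a285481912a8446111
noncomputable def t533 : ℕ := 0x51149841168185242451819882162885
noncomputable def t534 : ℕ := 0x6405510985a02960066805529045a019
noncomputable def t535 : ℕ := 0x64815118852829414268245214458219
noncomputable def t536 : ℕ := 0x48921254441911856144a81126844a21
noncomputable def t537 : ℕ := 0x6aa5569965aa59695666655595a5a669
noncomputable def t538 : ℕ := 0x4152186414158186a14198182a144981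
noncomputable def t539 : ℕ := 0x46121544a4116184214a881622644851
noncomputable def t540 : ℕ := 0x62225484251249881162485421254449
noncomputable def t541 : ℕ := 0x452219849412a1881149481a21544491
noncomputable def t542 : ℕ := 0x54849111868825214458219284462215
noncomputable def t543 : ℕ := 0x4825128944a21168164445119184a421
noncomputable def t544 : ℕ := 0x504a90260654059289501a9068065105
noncomputable def t545 : ℕ := 0x50a49091068a05295450619085062605
noncomputable def t546 : ℕ := 0x650459019580a9200469015a80552099
noncomputable def t547 : ℕ := 0x56a69595a69a65a9555a6996a5666655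
noncomputable def t548 : ℕ := 0x44a41191848a21295448611285442611
noncomputable def t549 : ℕ := 0x599a9a56565995956955aa9966965aa5
noncomputable def t550 : ℕ := 0x48261285449211a815444911a1846421
noncomputable def t551 : ℕ := 0x4251146824254146a24294141a248941
noncomputable def t552 : ℕ := 0x58229284461215881154489121864425
noncomputable def t553 : ℕ := 0x686052a04506190a9064505109850529
noncomputable def t554 : ℕ := 0x46211588a4226148124a441611648451
noncomputable def t555 : ℕ := 0x68825214451819814164285124854229
noncomputable def t556 : ℕ := 0x59659aa956a6956a965555999996a5a5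
noncomputable def t557 : ℕ := 0x658059109508a9014069205a04550299
noncomputable def t558 : ℕ := 0x4a141641648151242446811582a42861
noncomputable def t559 : ℕ := 0x40a61095049a01a955406910a5046601
noncomputable def t560 : ℕ := 0x5a95965966a955656656a59596a6aa65
noncomputable def t561 : ℕ := 0x4185181914a88161464125189414a281
noncomputable def t562 : ℕ := 0x5a6a96a66656559a99565a9569a65565
noncomputable def t563 : ℕ := 0x6a405620650459028066105508a50169
noncomputable def t564 : ℕ := 0x48a11298442a11495244641115848621
noncomputable def t565 : ℕ := 0x42a41491248a41295442611485242641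
noncomputable def t566 : ℕ := 0x6659556aa5656956aa6a96565a659959
noncomputable def t567 : ℕ := 0x46061505a49061a0054a0916a0646051
noncomputable def t568 : ℕ := 0x448a11168458219149482a1264445211
noncomputable def t569 : ℕ := 0x59569a65569595a6a5559999aa9669a5
noncomputable def t570 : ℕ := 0x506490a10686052a9450519089062505
noncomputable def t571 : ℕ := 0x416118a81426814a9241541819148581
noncomputable def t572 : ℕ := 0x66555569a5a56966a66a95569a65a959
noncomputable def t573 : ℕ := 0x54489122864425128858129248461115
noncomputable def t574 : ℕ := 0x4a901650640951056046a01506a40a61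
noncomputable def t575 : ℕ := 0x5559996a9665a556aa59969a5a569995
noncomputable def t576 : ℕ := 0x51819818162885414251249814168285
noncomputable def t577 : ℕ := 0x4509190a9460a1500a49061a50549091
noncomputable def t578 : ℕ := 0x426814a22446411a9842521449241541
noncomputable def t579 : ℕ := 0x49821a145418918141452819249442a1
noncomputable def t580 : ℕ := 0x62185442254149142862825442251849
noncomputable def t581 : ℕ := 0x41921854141981856141a81826144a81
noncomputable def t582 : ℕ := 0x5105980916a08560065105989016a085
noncomputable def t583 : ℕ := 0x6a6956aa6566595a9a66565559a59569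
noncomputable def t584 : ℕ := 0x556999aa9666a55a9a59569a59569595
noncomputable def t585 : ℕ := 0x6029508a056209581a60465051059409
noncomputable def t586 : ℕ := 0x606150a80526094a9260545019058509
noncomputable def t587 : ℕ := 0x59409a205604950280551099089601a5
noncomputable def t588 : ℕ := 0x49111a485421914422458419129488a1
noncomputable def t589 : ℕ := 0x66205580a5026908106a405601650459
noncomputable def t590 : ℕ := 0x59599a6a56659556aa5596995a9699a5
noncomputable def t591 : ℕ := 0x49601aa05406910a90455019099405a1
noncomputable def t592 : ℕ := 0x48001200440011000044001100840021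
noncomputable def t593 : ℕ := 0x656559a995a6a96a9669555a9955a599
noncomputable def t594 : ℕ := 0x4215144924a14164264285149224a841
noncomputable def t595 : ℕ := 0x59089a025640951008550299409610a5
noncomputable def t596 : ℕ := 0x52449421268445228452119488262145
noncomputable def t597 : ℕ := 0x54909150860925056058a09206460a15
noncomputable def t598 : ℕ := 0x68065205459019a005640951a0856029
noncomputable def t599 : ℕ := 0x52129444261145842152889422264845
noncomputable def t600 : ℕ := 0x41161845149181a425418918a2146881
noncomputable def t601 : ℕ := 0x696a5aa65556999a99655a59699555a9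
noncomputable def t602 : ℕ := 0x41a21894141a81895141681825144681
noncomputable def t603 : ℕ := 0x59969a55569995a56555a999a6966aa5
noncomputable def t604 : ℕ := 0x51229884161285881151489821164485
noncomputable def t605 : ℕ := 0x455019609405a106a049901a0a540991
noncomputable def t606 : ℕ := 0x441a11468451219429488a1262445811
noncomputable def t607 : ℕ := 0x566a95a6a656659a995a5a9669665555
noncomputable def t608 : ℕ := 0x6a5a566665555996a9669a556aa55969
noncomputable def t609 : ℕ := 0x6a045601658059200466015580a52069
noncomputable def t610 : ℕ := 0x680a52064550199009640a5160855029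
noncomputable def t611 : ℕ := 0x655659659595a9a6a569995aaa556999
noncomputable def t612 : ℕ := 0x5a089602664055100856029540a61065
noncomputable def t613 : ℕ := 0x4a221684641251881146481521a44461
noncomputable def t614 : ℕ := 0x54149141868125242458819282462815
noncomputable def t615 : ℕ := 0x52149441268145242452819482262845
noncomputable def t616 : ℕ := 0x6250546025054906a06290540a250949
noncomputable def t617 : ℕ := 0x454119289424a1428249141a18548191
noncomputable def t618 : ℕ := 0x61825814151889814161285824154289
noncomputable def t619 : ℕ := 0x5809920a466015500a54069150869025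
noncomputable def t620 : ℕ := 0x451819429441a1142849821a42541891
noncomputable def t621 : ℕ := 0x610a58061550899009610a5860155089
noncomputable def t622 : ℕ := 0x50469025069405a285501990a8066105
noncomputable def t623 : ℕ := 0x44861115849821a145482912a4446211
noncomputable def t624 : ℕ := 0x406a10a60456019a99405a1069045501
noncomputable def t625 : ℕ := 0x4125188914a28168164145189114a481
noncomputable def t626 : ℕ := 0x48981252444911156844a21146841a21
noncomputable def t627 : ℕ := 0x452819829442a1181849421a41541491
noncomputable def t628 : ℕ := 0x46841511a4886121444a211684642251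
noncomputable def t629 : ℕ := 0x49421a245414918281451819289441a1
noncomputable def t630 : ℕ := 0x59a59a9956aa9569565565999596a6a5
noncomputable def t631 : ℕ := 0x650859029540a9100869025a40551099
noncomputable def t632 : ℕ := 0x68245281458219281464415181852429
noncomputable def t633 : ℕ := 0x54129144861125842158889222464815
noncomputable def t634 : ℕ := 0x656659a59596a9aa9569595aa9556599
noncomputable def t635 : ℕ := 0x60945051058909256460a15086052a09
noncomputable def t636 : ℕ := 0x64115148852129442268845212458819
noncomputable def t637 : ℕ := 0x4829128a446211581a44461151849421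
noncomputable def t638 : ℕ := 0x456019a09406a10a9049501a09540591
noncomputable def t639 : ℕ := 0x62425424251449828162185428254149
noncomputable def t640 : ℕ := 0x4854126144851126a44491118a842921
noncomputable def t641 : ℕ := 0x659a59569559a9956969aa5a66555a99
noncomputable def t642 : ℕ := 0x4609150aa46061500a4a061650649051
noncomputable def t643 : ℕ := 0x620a54062550499009620a5460255049
noncomputable def t644 : ℕ := 0x68a05290450a19095064605105850629
noncomputable def t645 : ℕ := 0x604a50260554099289601a5068055109
noncomputable def t646 : ℕ := 0x64225184851229881168485221454419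
noncomputable def t647 : ℕ := 0x46411528a4246142824a141618648151
noncomputable def t648 : ℕ := 0x66085502a5406910086a025640651059
noncomputable def t649 : ℕ := 0x501a90460651059429508a9062065805
noncomputable def t650 : ℕ := 0x60005000050009000060005000050009
noncomputable def t651 : ℕ := 0x6058506205450916a86092504a051909
noncomputable def t652 : ℕ := 0x6a9a5656655959956966aa5566a55a69
noncomputable def t653 : ℕ := 0x6a565665659559a6a5669955aaa56969
noncomputable def t654 : ℕ := 0x655a59669555a996a9699a5a6a555999
noncomputable def t655 : ℕ := 0x5109980a166085500a51069850169085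
noncomputable def t656 : ℕ := 0x65aa5996955aa99959696a5a65555699
noncomputable def t657 : ℕ := 0x52219488262245481252449411268445
noncomputable def t658 : ℕ := 0x596a9aa65656959a99555a99699655a5
noncomputable def t659 : ℕ := 0x5015904906a10564265085909206a805
noncomputable def t660 : ℕ := 0x46181542a4416114284a821642641851
noncomputable def t661 : ℕ := 0x508a90160658059149502a9064065205
noncomputable def t662 : ℕ := 0x46811518a4286141424a241614648251
noncomputable def t663 : ℕ := 0x6025508905a20968166045509105a409
noncomputable def t664 : ℕ := 0x550299049610a5800159089a20564095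
noncomputable def t665 : ℕ := 0x406610a5049601aa95405910a9046501
noncomputable def t666 : ℕ := 0x41261885149281a815414918a1146481
noncomputable def t667 : ℕ := 0x4a181642644151142846821542a41861
noncomputable def t668 : ℕ := 0x4885121944a81161464425119484a221
noncomputable def t669 : ℕ := 0x56109540a6016504205a809602660855
noncomputable def t670 : ℕ := 0x46141541a4816124244a811682642851
noncomputable def t671 : ℕ := 0x4189181a146881514a41261854149281
noncomputable def t672 : ℕ := 0x59049a015680952004550199809620a5
noncomputable def t673 : ℕ := 0x4a6016a06406510a9046501509a40561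
noncomputable def t674 : ℕ := 0x64425124851429828168185228454119
noncomputable def t675 : ℕ := 0x5209940a266045500a52069450269045
noncomputable def t676 : ℕ := 0x4a50166064055106a04690150aa40961
noncomputable def t677 : ℕ := 0x65a65995959aa9a95569695aa5556699
noncomputable def t678 : ℕ := 0x5aa9969a666a55595a56669555a69665
noncomputable def t679 : ℕ := 0x452419819482a1281449411a81542491
noncomputable def t680 : ℕ := 0x62065405259049a005620954a0256049
noncomputable def t681 : ℕ := 0x60265085059209a815604950a1056409
noncomputable def t682 : ℕ := 0x61065805159089a005610958a0156089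
noncomputable def t683 : ℕ := 0x41981852144981156841a21846141a81
noncomputable def t684 : ℕ := 0x69555a6955a59966a66595599a95a9a9
noncomputable def t685 : ℕ := 0x60925054051909856160a85026054a09
noncomputable def t686 : ℕ := 0x52419428262445428252149418268145
noncomputable def t687 : ℕ := 0x69a65a95559a99a955656959a59566a9
noncomputable def t688 : ℕ := 0x44921154841921856148a81226444a11
noncomputable def t689 : ℕ := 0x42911458242941456242a41416248a41
noncomputable def t690 : ℕ := 0x4a281682644251181846421541a41461
noncomputable def t691 : ℕ := 0x4099105a046901556a40a61056049a01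
noncomputable def t692 : ℕ := 0x458119189428a1414249241a14548291
noncomputable def t693 : ℕ := 0x62905450250949056062a05406250a49
noncomputable def t694 : ℕ := 0x6a015608652059400266045510a58069
noncomputable def t695 : ℕ := 0x4a0a16066450519009460a1560a45061
noncomputable def t696 : ℕ := 0x59a69a95569a95a955556999a59666a5
noncomputable def t697 : ℕ := 0x62a05490250a49095062605405250649
noncomputable def t698 : ℕ := 0x58a09290460a15095054609105860625
noncomputable def t699 : ℕ := 0x458219149418a1814149281a24544291
noncomputable def t700 : ℕ := 0x6205540925a04960066205549025a049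
noncomputable def t701 : ℕ := 0x51289882164285181851429841161485
noncomputable def TT : Tr := (.node (.node (.node (.node (.node (.node (.node (.node (.node (.node (.leaf t0) (.leaf t512)) (.leaf t256)) (.node (.node (.leaf t128) (.leaf t640)) (.leaf t384))) (.node (.node (.node (.leaf t64) (.leaf t576)) (.leaf t320)) (.node (.leaf t192) (.leaf t448)))) (.node (.node (.node (.node (.leaf t32) (.leaf t544)) (.leaf t288)) (.node (.node (.leaf t160) (.leaf t672)) (.leaf t416))) (.node (.node (.node (.leaf t96) (.leaf t608)) (.leaf t352)) (.node (.leaf t224) (.leaf t480))))) (.node (.node (.node (.node (.node (.leaf t16) (.leaf t528)) (.leaf t272)) (.node (.node (.leaf t144) (.leaf t656)) (.leaf t400))) (.node (.node (.node (.leaf t80) (.leaf t592)) (.leaf t336)) (.node (.leaf t208) (.leaf t464)))) (.node (.node (.node (.node (.leaf t48) (.leaf t560)) (.leaf t304)) (.node (.node (.leaf t176) (.leaf t688)) (.leaf t432))) (.node (.node (.node (.leaf t112) (.leaf t624)) (.leaf t368)) (.node (.leaf t240) (.leaf t496)))))) (.node (.node (.node (.node (.node (.node (.leaf t8) (.leaf t520)) (.leaf t264)) (.node (.node (.leaf t136) (.leaf t648)) (.leaf t392))) (.node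 (.node (.node (.leaf t72) (.leaf t584)) (.leaf t328)) (.node (.leaf t200) (.leaf t456)))) (.node (.node (.node (.node (.leaf t40) (.leaf t552)) (.leaf t296)) (.node (.node (.leaf t168) (.leaf t680)) (.leaf t424))) (.node (.node (.node (.leaf t104) (.leaf t616)) (.leaf t360)) (.node (.leaf t232) (.leaf t488))))) (.node (.node (.node (.node (.node (.leaf t24) (.leaf t536)) (.leaf t280)) (.node (.node (.leaf t152) (.leaf t664)) (.leaf t408))) (.node (.node (.node (.leaf t88) (.leaf t600)) (.leaf t344)) (.node (.leaf t216) (.leaf t472)))) (.node (.node (.node (.node (.leaf t56) (.leaf t568)) (.leaf t312)) (.node (.node (.leaf t184) (.leaf t696)) (.leaf t440))) (.node (.node (.node (.leaf t120) (.leaf t632)) (.leaf t376)) (.node (.leaf t248) (.leaf t504))))))) (.node (.node (.node (.node (.node (.node (.node (.leaf t4) (.leaf t516)) (.leaf t260)) (.node (.node (.leaf t132) (.leaf t644)) (.leaf t388))) (.node (.node (.node (.leaf t68) (.leaf t580)) (.leaf t324)) (.node (.leaf t196) (.leaf t452)))) (.node (.node (.node (.node (.leaf t36) (.leaf t548)) (.leaf t292)) (.node (.node (.leaf t164) (.leaf t676)) (.leaf t420))) (.node (.node (.node (.leaf t100) (.leaf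 t612)) (.leaf t356)) (.node (.leaf t228) (.leaf t484))))) (.node (.node (.node (.node (.node (.leaf t20) (.leaf t532)) (.leaf t276)) (.node (.node (.leaf t148) (.leaf t660)) (.leaf t404))) (.node (.node (.node (.leaf t84) (.leaf t596)) (.leaf t340)) (.node (.leaf t212) (.leaf t468)))) (.node (.node (.node (.node (.leaf t52) (.leaf t564)) (.leaf t308)) (.node (.node (.leaf t180) (.leaf t692)) (.leaf t436))) (.node (.node (.node (.leaf t116) (.leaf t628)) (.leaf t372)) (.node (.leaf t244) (.leaf t500)))))) (.node (.node (.node (.node (.node (.node (.leaf t12) (.leaf t524)) (.leaf t268)) (.node (.node (.leaf t140) (.leaf t652)) (.leaf t396))) (.node (.node (.node (.leaf t76) (.leaf t588)) (.leaf t332)) (.node (.leaf t204) (.leaf t460)))) (.node (.node (.node (.node (.leaf t44) (.leaf t556)) (.leaf t300)) (.node (.node (.leaf t172) (.leaf t684)) (.leaf t428))) (.node (.node (.node (.leaf t108) (.leaf t620)) (.leaf t364)) (.node (.leaf t236) (.leaf t492))))) (.node (.node (.node (.node (.node (.leaf t28) (.leaf t540)) (.leaf t284)) (.node (.node (.leaf t156) (.leaf t668)) (.leaf t412))) (.node (.node (.node (.leaf t92) (.leaf t604)) (.leaf t348)) (.node (.leaf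 t220) (.leaf t476)))) (.node (.node (.node (.node (.leaf t60) (.leaf t572)) (.leaf t316)) (.node (.node (.leaf t188) (.leaf t700)) (.leaf t444))) (.node (.node (.node (.leaf t124) (.leaf t636)) (.leaf t380)) (.node (.leaf t252) (.leaf t508)))))))) (.node (.node (.node (.node (.node (.node (.node (.node (.leaf t2) (.leaf t514)) (.leaf t258)) (.node (.node (.leaf t130) (.leaf t642)) (.leaf t386))) (.node (.node (.node (.leaf t66) (.leaf t578)) (.leaf t322)) (.node (.leaf t194) (.leaf t450)))) (.node (.node (.node (.node (.leaf t34) (.leaf t546)) (.leaf t290)) (.node (.node (.leaf t162) (.leaf t674)) (.leaf t418))) (.node (.node (.node (.leaf t98) (.leaf t610)) (.leaf t354)) (.node (.leaf t226) (.leaf t482))))) (.node (.node (.node (.node (.node (.leaf t18) (.leaf t530)) (.leaf t274)) (.node (.node (.leaf t146) (.leaf t658)) (.leaf t402))) (.node (.node (.node (.leaf t82) (.leaf t594)) (.leaf t338)) (.node (.leaf t210) (.leaf t466)))) (.node (.node (.node (.node (.leaf t50) (.leaf t562)) (.leaf t306)) (.node (.node (.leaf t178) (.leaf t690)) (.leaf t434))) (.node (.node (.node (.leaf t114) (.leaf t626)) (.leaf t370)) (.node (.leaf t242) (.leaf t498))))))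 (.node (.node (.node (.node (.node (.node (.leaf t10) (.leaf t522)) (.leaf t266)) (.node (.node (.leaf t138) (.leaf t650)) (.leaf t394))) (.node (.node (.node (.leaf t74) (.leaf t586)) (.leaf t330)) (.node (.leaf t202) (.leaf t458)))) (.node (.node (.node (.node (.leaf t42) (.leaf t554)) (.leaf t298)) (.node (.node (.leaf t170) (.leaf t682)) (.leaf t426))) (.node (.node (.node (.leaf t106) (.leaf t618)) (.leaf t362)) (.node (.leaf t234) (.leaf t490))))) (.node (.node (.node (.node (.node (.leaf t26) (.leaf t538)) (.leaf t282)) (.node (.node (.leaf t154) (.leaf t666)) (.leaf t410))) (.node (.node (.node (.leaf t90) (.leaf t602)) (.leaf t346)) (.node (.leaf t218) (.leaf t474)))) (.node (.node (.node (.node (.leaf t58) (.leaf t570)) (.leaf t314)) (.node (.node (.leaf t186) (.leaf t698)) (.leaf t442))) (.node (.node (.node (.leaf t122) (.leaf t634)) (.leaf t378)) (.node (.leaf t250) (.leaf t506))))))) (.node (.node (.node (.node (.node (.node (.node (.leaf t6) (.leaf t518)) (.leaf t262)) (.node (.node (.leaf t134) (.leaf t646)) (.leaf t390))) (.node (.node (.node (.leaf t70) (.leaf t582)) (.leaf t326)) (.node (.leaf t198) (.leaf t454)))) (.node (.node (.node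 (.node (.leaf t38) (.leaf t550)) (.leaf t294)) (.node (.node (.leaf t166) (.leaf t678)) (.leaf t422))) (.node (.node (.node (.leaf t102) (.leaf t614)) (.leaf t358)) (.node (.leaf t230) (.leaf t486))))) (.node (.node (.node (.node (.node (.leaf t22) (.leaf t534)) (.leaf t278)) (.node (.node (.leaf t150) (.leaf t662)) (.leaf t406))) (.node (.node (.node (.leaf t86) (.leaf t598)) (.leaf t342)) (.node (.leaf t214) (.leaf t470)))) (.node (.node (.node (.node (.leaf t54) (.leaf t566)) (.leaf t310)) (.node (.node (.leaf t182) (.leaf t694)) (.leaf t438))) (.node (.node (.node (.leaf t118) (.leaf t630)) (.leaf t374)) (.node (.leaf t246) (.leaf t502)))))) (.node (.node (.node (.node (.node (.node (.leaf t14) (.leaf t526)) (.leaf t270)) (.node (.node (.leaf t142) (.leaf t654)) (.leaf t398))) (.node (.node (.node (.leaf t78) (.leaf t590)) (.leaf t334)) (.node (.leaf t206) (.leaf t462)))) (.node (.node (.node (.node (.leaf t46) (.leaf t558)) (.leaf t302)) (.node (.node (.leaf t174) (.leaf t686)) (.leaf t430))) (.node (.node (.node (.leaf t110) (.leaf t622)) (.leaf t366)) (.node (.leaf t238) (.leaf t494))))) (.node (.node (.node (.node (.node (.leaf t30) (.leaf t542))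 (.leaf t286)) (.node (.node (.leaf t158) (.leaf t670)) (.leaf t414))) (.node (.node (.node (.leaf t94) (.leaf t606)) (.leaf t350)) (.node (.leaf t222) (.leaf t478)))) (.node (.node (.node (.node (.leaf t62) (.leaf t574)) (.leaf t318)) (.node (.leaf t190) (.leaf t446))) (.node (.node (.node (.leaf t126) (.leaf t638)) (.leaf t382)) (.node (.leaf t254) (.leaf t510))))))))) (.node (.node (.node (.node (.node (.node (.node (.node (.node (.leaf t1) (.leaf t513)) (.leaf t257)) (.node (.node (.leaf t129) (.leaf t641)) (.leaf t385))) (.node (.node (.node (.leaf t65) (.leaf t577)) (.leaf t321)) (.node (.leaf t193) (.leaf t449)))) (.node (.node (.node (.node (.leaf t33) (.leaf t545)) (.leaf t289)) (.node (.node (.leaf t161) (.leaf t673)) (.leaf t417))) (.node (.node (.node (.leaf t97) (.leaf t609)) (.leaf t353)) (.node (.leaf t225) (.leaf t481))))) (.node (.node (.node (.node (.node (.leaf t17) (.leaf t529)) (.leaf t273)) (.node (.node (.leaf t145) (.leaf t657)) (.leaf t401))) (.node (.node (.node (.leaf t81) (.leaf t593)) (.leaf t337)) (.node (.leaf t209) (.leaf t465)))) (.node (.node (.node (.node (.leaf t49) (.leaf t561)) (.leaf t305)) (.node (.node (.leaf t177)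 (.leaf t689)) (.leaf t433))) (.node (.node (.node (.leaf t113) (.leaf t625)) (.leaf t369)) (.node (.leaf t241) (.leaf t497)))))) (.node (.node (.node (.node (.node (.node (.leaf t9) (.leaf t521)) (.leaf t265)) (.node (.node (.leaf t137) (.leaf t649)) (.leaf t393))) (.node (.node (.node (.leaf t73) (.leaf t585)) (.leaf t329)) (.node (.leaf t201) (.leaf t457)))) (.node (.node (.node (.node (.leaf t41) (.leaf t553)) (.leaf t297)) (.node (.node (.leaf t169) (.leaf t681)) (.leaf t425))) (.node (.node (.node (.leaf t105) (.leaf t617)) (.leaf t361)) (.node (.leaf t233) (.leaf t489))))) (.node (.node (.node (.node (.node (.leaf t25) (.leaf t537)) (.leaf t281)) (.node (.node (.leaf t153) (.leaf t665)) (.leaf t409))) (.node (.node (.node (.leaf t89) (.leaf t601)) (.leaf t345)) (.node (.leaf t217) (.leaf t473)))) (.node (.node (.node (.node (.leaf t57) (.leaf t569)) (.leaf t313)) (.node (.node (.leaf t185) (.leaf t697)) (.leaf t441))) (.node (.node (.node (.leaf t121) (.leaf t633)) (.leaf t377)) (.node (.leaf t249) (.leaf t505))))))) (.node (.node (.node (.node (.node (.node (.node (.leaf t5) (.leaf t517)) (.leaf t261)) (.node (.node (.leaf t133) (.leaf t645)) (.leaf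 t389))) (.node (.node (.node (.leaf t69) (.leaf t581)) (.leaf t325)) (.node (.leaf t197) (.leaf t453)))) (.node (.node (.node (.node (.leaf t37) (.leaf t549)) (.leaf t293)) (.node (.node (.leaf t165) (.leaf t677)) (.leaf t421))) (.node (.node (.node (.leaf t101) (.leaf t613)) (.leaf t357)) (.node (.leaf t229) (.leaf t485))))) (.node (.node (.node (.node (.node (.leaf t21) (.leaf t533)) (.leaf t277)) (.node (.node (.leaf t149) (.leaf t661)) (.leaf t405))) (.node (.node (.node (.leaf t85) (.leaf t597)) (.leaf t341)) (.node (.leaf t213) (.leaf t469)))) (.node (.node (.node (.node (.leaf t53) (.leaf t565)) (.leaf t309)) (.node (.node (.leaf t181) (.leaf t693)) (.leaf t437))) (.node (.node (.node (.leaf t117) (.leaf t629)) (.leaf t373)) (.node (.leaf t245) (.leaf t501)))))) (.node (.node (.node (.node (.node (.node (.leaf t13) (.leaf t525)) (.leaf t269)) (.node (.node (.leaf t141) (.leaf t653)) (.leaf t397))) (.node (.node (.node (.leaf t77) (.leaf t589)) (.leaf t333)) (.node (.leaf t205) (.leaf t461)))) (.node (.node (.node (.node (.leaf t45) (.leaf t557)) (.leaf t301)) (.node (.node (.leaf t173) (.leaf t685)) (.leaf t429))) (.node (.node (.node (.leaf t109)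 (.leaf t621)) (.leaf t365)) (.node (.leaf t237) (.leaf t493))))) (.node (.node (.node (.node (.node (.leaf t29) (.leaf t541)) (.leaf t285)) (.node (.node (.leaf t157) (.leaf t669)) (.leaf t413))) (.node (.node (.node (.leaf t93) (.leaf t605)) (.leaf t349)) (.node (.leaf t221) (.leaf t477)))) (.node (.node (.node (.node (.leaf t61) (.leaf t573)) (.leaf t317)) (.node (.node (.leaf t189) (.leaf t701)) (.leaf t445))) (.node (.node (.node (.leaf t125) (.leaf t637)) (.leaf t381)) (.node (.leaf t253) (.leaf t509)))))))) (.node (.node (.node (.node (.node (.node (.node (.node (.leaf t3) (.leaf t515)) (.leaf t259)) (.node (.node (.leaf t131) (.leaf t643)) (.leaf t387))) (.node (.node (.node (.leaf t67) (.leaf t579)) (.leaf t323)) (.node (.leaf t195) (.leaf t451)))) (.node (.node (.node (.node (.leaf t35) (.leaf t547)) (.leaf t291)) (.node (.node (.leaf t163) (.leaf t675)) (.leaf t419))) (.node (.node (.node (.leaf t99) (.leaf t611)) (.leaf t355)) (.node (.leaf t227) (.leaf t483))))) (.node (.node (.node (.node (.node (.leaf t19) (.leaf t531)) (.leaf t275)) (.node (.node (.leaf t147) (.leaf t659)) (.leaf t403))) (.node (.node (.node (.leaf t83) (.leaf t595)) (.leaf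 t339)) (.node (.leaf t211) (.leaf t467)))) (.node (.node (.node (.node (.leaf t51) (.leaf t563)) (.leaf t307)) (.node (.node (.leaf t179) (.leaf t691)) (.leaf t435))) (.node (.node (.node (.leaf t115) (.leaf t627)) (.leaf t371)) (.node (.leaf t243) (.leaf t499)))))) (.node (.node (.node (.node (.node (.node (.leaf t11) (.leaf t523)) (.leaf t267)) (.node (.node (.leaf t139) (.leaf t651)) (.leaf t395))) (.node (.node (.node (.leaf t75) (.leaf t587)) (.leaf t331)) (.node (.leaf t203) (.leaf t459)))) (.node (.node (.node (.node (.leaf t43) (.leaf t555)) (.leaf t299)) (.node (.node (.leaf t171) (.leaf t683)) (.leaf t427))) (.node (.node (.node (.leaf t107) (.leaf t619)) (.leaf t363)) (.node (.leaf t235) (.leaf t491))))) (.node (.node (.node (.node (.node (.leaf t27) (.leaf t539)) (.leaf t283)) (.node (.node (.leaf t155) (.leaf t667)) (.leaf t411))) (.node (.node (.node (.leaf t91) (.leaf t603)) (.leaf t347)) (.node (.leaf t219) (.leaf t475)))) (.node (.node (.node (.node (.leaf t59) (.leaf t571)) (.leaf t315)) (.node (.node (.leaf t187) (.leaf t699)) (.leaf t443))) (.node (.node (.node (.leaf t123) (.leaf t635)) (.leaf t379)) (.node (.leaf t251) (.leaf t507)))))))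 (.node (.node (.node (.node (.node (.node (.node (.leaf t7) (.leaf t519)) (.leaf t263)) (.node (.node (.leaf t135) (.leaf t647)) (.leaf t391))) (.node (.node (.node (.leaf t71) (.leaf t583)) (.leaf t327)) (.node (.leaf t199) (.leaf t455)))) (.node (.node (.node (.node (.leaf t39) (.leaf t551)) (.leaf t295)) (.node (.node (.leaf t167) (.leaf t679)) (.leaf t423))) (.node (.node (.node (.leaf t103) (.leaf t615)) (.leaf t359)) (.node (.leaf t231) (.leaf t487))))) (.node (.node (.node (.node (.node (.leaf t23) (.leaf t535)) (.leaf t279)) (.node (.node (.leaf t151) (.leaf t663)) (.leaf t407))) (.node (.node (.node (.leaf t87) (.leaf t599)) (.leaf t343)) (.node (.leaf t215) (.leaf t471)))) (.node (.node (.node (.node (.leaf t55) (.leaf t567)) (.leaf t311)) (.node (.node (.leaf t183) (.leaf t695)) (.leaf t439))) (.node (.node (.node (.leaf t119) (.leaf t631)) (.leaf t375)) (.node (.leaf t247) (.leaf t503)))))) (.node (.node (.node (.node (.node (.node (.leaf t15) (.leaf t527)) (.leaf t271)) (.node (.node (.leaf t143) (.leaf t655)) (.leaf t399))) (.node (.node (.node (.leaf t79) (.leaf t591)) (.leaf t335)) (.node (.leaf t207) (.leaf t463)))) (.node (.node (.node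 (.node (.leaf t47) (.leaf t559)) (.leaf t303)) (.node (.node (.leaf t175) (.leaf t687)) (.leaf t431))) (.node (.node (.node (.leaf t111) (.leaf t623)) (.leaf t367)) (.node (.leaf t239) (.leaf t495))))) (.node (.node (.node (.node (.node (.leaf t31) (.leaf t543)) (.leaf t287)) (.node (.node (.leaf t159) (.leaf t671)) (.leaf t415))) (.node (.node (.node (.leaf t95) (.leaf t607)) (.leaf t351)) (.node (.leaf t223) (.leaf t479)))) (.node (.node (.node (.node (.leaf t63) (.leaf t575)) (.leaf t319)) (.node (.leaf t191) (.leaf t447))) (.node (.node (.node (.leaf t127) (.leaf t639)) (.leaf t383)) (.node (.leaf t255) (.leaf t511))))))))))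
noncomputable def T (x : ℕ) : ℕ := sprd (TT.get x) sa
noncomputable def u0 : ℕ := 0x1000000020002000200010001
noncomputable def u1 : ℕ := 0x1000000020002000000000004
noncomputable def u2 : ℕ := 0x100020001000200020001000a
noncomputable def u3 : ℕ := 0x200010001000200020001000d
noncomputable def u4 : ℕ := 0x1000200020001000000020010
noncomputable def u5 : ℕ := 0x1000000000001000200000015
noncomputable def u6 : ℕ := 0x100000000000100010001001a
noncomputable def u7 : ℕ := 0x2000100010002001d
noncomputable def u8 : ℕ := 0x2000100010002000000000021
noncomputable def u9 : ℕ := 0x200000002000100010024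
noncomputable def u10 : ℕ := 0x200020002000000010001002a
noncomputable def u11 : ℕ := 0x200000000000200020002002d
noncomputable def u12 : ℕ := 0x100000001000100010031
noncomputable def u13 : ℕ := 0x100010000000000010036
noncomputable def u14 : ℕ := 0x2000000010000000200010039
noncomputable def u15 : ℕ := 0x2000100010002003e
noncomputable def u16 : ℕ := 0x2000200020000000100010041
noncomputable def u17 : ℕ := 0x100020002000100020044
noncomputable def u18 : ℕ := 0x200020002000000020000004a
noncomputable def u19 : ℕ := 0x10000000100010001004e
noncomputable def u20 : ℕ := 0x2000000000002000000020052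
noncomputable def u21 : ℕ := 0x1000000000001000100010055
noncomputable def u22 : ℕ := 0x2000100010000000100000059
noncomputable def u23 : ℕ := 0x10000000000020000005c
noncomputable def u24 : ℕ := 0x100000001000200000060
noncomputable def u25 : ℕ := 0x2000200010001000200010065
noncomputable def u26 : ℕ := 0x200020001000100020001006a
noncomputable def u27 : ℕ := 0x200000002000100000000006c
noncomputable def u28 : ℕ := 0x1000200020002000000000070
noncomputable def u29 : ℕ := 0x1000100000002000000020074
noncomputable def u30 : ℕ := 0x100000000000100000002007a
noncomputable def u31 : ℕ := 0x200010000000100020000007d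
noncomputable def u32 : ℕ := 0x2000100000001000200000082
noncomputable def u33 : ℕ := 0x1000100020001000000000085
noncomputable def u34 : ℕ := 0x200020002000000000002008a
noncomputable def u35 : ℕ := 0x200020002000000000002008d
noncomputable def u36 : ℕ := 0x1000000000001000000020091
noncomputable def u37 : ℕ := 0x2000100020002000100010095
noncomputable def u38 : ℕ := 0x200000002000100020001009a
noncomputable def u39 : ℕ := 0x200010002000200010001009e
noncomputable def u40 : ℕ := 0x20001000100000000000100a1
noncomputable def u41 : ℕ := 0x20001000100000000000100a6
noncomputable def u42 : ℕ := 0x10002000100000001000000a8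
noncomputable def u43 : ℕ := 0x20000000100020001000000ad
noncomputable def u44 : ℕ := 0x20000000100020001000000b2
noncomputable def u45 : ℕ := 0x20001000100000002000200b6
noncomputable def u46 : ℕ := 0x10002000100000000000100ba
noncomputable def u47 : ℕ := 0x2000000000002000000bd
noncomputable def u48 : ℕ := 0x10002000100000000000100c1
noncomputable def u49 : ℕ := 0x100020000000100c5
noncomputable def u50 : ℕ := 0x20001000200020000000000c9
noncomputable def u51 : ℕ := 0x20001000200020000000000ce
noncomputable def u52 : ℕ := 0x1000200000002000100d2
noncomputable def u53 : ℕ := 0x10001000200010002000100d4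
noncomputable def u54 : ℕ := 0x10002000200020001000200d8
noncomputable def u55 : ℕ := 0x20001000100000002000200dd
noncomputable def u56 : ℕ := 0x2000100020001000000e0
noncomputable def u57 : ℕ := 0x100020002000200e4
noncomputable def u58 : ℕ := 0x10001000200010000000000ea
noncomputable def u59 : ℕ := 0x2000000000002000000ee
noncomputable def u60 : ℕ := 0x1000100010001000000f1
noncomputable def u61 : ℕ := 0x10001000000010000000200f6
noncomputable def u62 : ℕ := 0x1000100010001000000fa
noncomputable def u63 : ℕ := 0x20000000000020000000200fd
noncomputable def u64 : ℕ := 0x100020002000200010102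
noncomputable def u65 : ℕ := 0x100020000000200010105
noncomputable def u66 : ℕ := 0x2000000010002000000010108
noncomputable def u67 : ℕ := 0x10002000000010002010c
noncomputable def u68 : ℕ := 0x1000000020000000100020111
noncomputable def u69 : ℕ := 0x1000000020000000100020116
noncomputable def u70 : ℕ := 0x1000200000001011a
noncomputable def u71 : ℕ := 0x100000000000200020000011c
noncomputable def u72 : ℕ := 0x1000100000000000100010122
noncomputable def u73 : ℕ := 0x1000100000000000100010125
noncomputable def u74 : ℕ := 0x1000000010001012a
noncomputable def u75 : ℕ := 0x200020000000200000002012d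
noncomputable def u76 : ℕ := 0x200000000000100010130
noncomputable def u77 : ℕ := 0x2000000020000000000020135
noncomputable def u78 : ℕ := 0x200010001000000010000013a
noncomputable def u79 : ℕ := 0x10000000200020000013c
noncomputable def u80 : ℕ := 0x1000000010001000100000141
noncomputable def u81 : ℕ := 0x1000000010001000100000146
noncomputable def u82 : ℕ := 0x1000000010001000000010148
noncomputable def u83 : ℕ := 0x20001000200000001014e
noncomputable def u84 : ℕ := 0x100010001000200020152
noncomputable def u85 : ℕ := 0x1000200000001000000020155
noncomputable def u86 : ℕ := 0x20002000100000002015a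
noncomputable def u87 : ℕ := 0x200010002000000020001015d
noncomputable def u88 : ℕ := 0x1000200000001000000020162
noncomputable def u89 : ℕ := 0x100010001000000010166
noncomputable def u90 : ℕ := 0x10000000100010169
noncomputable def u91 : ℕ := 0x200020000000000020000016d
noncomputable def u92 : ℕ := 0x1000100020000000100020170
noncomputable def u93 : ℕ := 0x2000200000000000200000176
noncomputable def u94 : ℕ := 0x200000000000200020002017a
noncomputable def u95 : ℕ := 0x200020000000200020002017c
noncomputable def u96 : ℕ := 0x20002000100020181
noncomputable def u97 : ℕ := 0x2000100000001000000020184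
noncomputable def u98 : ℕ := 0x100010001000000010189
noncomputable def u99 : ℕ := 0x1000000000002018c
noncomputable def u100 : ℕ := 0x100010001000200020191
noncomputable def u101 : ℕ := 0x1000200010002000000000194
noncomputable def u102 : ℕ := 0x1000100000000000200000198
noncomputable def u103 : ℕ := 0x2000200010002019e
noncomputable def u104 : ℕ := 0x1000000020001000101a2
noncomputable def u105 : ℕ := 0x200020002000101a4
noncomputable def u106 : ℕ := 0x20002000200010001000201a8
noncomputable def u107 : ℕ := 0x20002000200000002000001ad
noncomputable def u108 : ℕ := 0x20000000200010002000101b1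
noncomputable def u109 : ℕ := 0x1000100000002000201b6
noncomputable def u110 : ℕ := 0x20001000200000001000201b8
noncomputable def u111 : ℕ := 0x2000100020000000101bd
noncomputable def u112 : ℕ := 0x1000200010001000201c0
noncomputable def u113 : ℕ := 0x20002000200010002000101c4
noncomputable def u114 : ℕ := 0x1000000020001000101c9
noncomputable def u115 : ℕ := 0x20001000200020001000001cc
noncomputable def u116 : ℕ := 0x20002000000000001000101d0
noncomputable def u117 : ℕ := 0x10000000000020000000201d4
noncomputable def u118 : ℕ := 0x1000200010001000001da
noncomputable def u119 : ℕ := 0x20000000200020000000001dd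
noncomputable def u120 : ℕ := 0x2000100010000000101e1
noncomputable def u121 : ℕ := 0x10001000100000001000001e6
noncomputable def u122 : ℕ := 0x20002000100020000000101e8
noncomputable def u123 : ℕ := 0x20002000100020002000201ed
noncomputable def u124 : ℕ := 0x20002000100020002000201f2
noncomputable def u125 : ℕ := 0x10000000000020001000101f4
noncomputable def u126 : ℕ := 0x10000000200010000000001fa
noncomputable def u127 : ℕ := 0x10001000200020000000001fc
noncomputable def u128 : ℕ := 0x1000000020001000000000201
noncomputable def u129 : ℕ := 0x2000000000001000200000204
noncomputable def u130 : ℕ := 0x20000000200020000020a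
noncomputable def u131 : ℕ := 0x10002000100020001020d
noncomputable def u132 : ℕ := 0x1000200010001000000010210
noncomputable def u133 : ℕ := 0x2000000010000000000010215
noncomputable def u134 : ℕ := 0x1000100010000000100000219
noncomputable def u135 : ℕ := 0x10002000100020001021e
noncomputable def u136 : ℕ := 0x100010002000200000220
noncomputable def u137 : ℕ := 0x1000100010000000200020225
noncomputable def u138 : ℕ := 0x2000000020002000100020228
noncomputable def u139 : ℕ := 0x100010000000100000000022d
noncomputable def u140 : ℕ := 0x1000200010001000200020231
noncomputable def u141 : ℕ := 0x2000000010000000200020234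
noncomputable def u142 : ℕ := 0x200000002000200000000023a
noncomputable def u143 : ℕ := 0x10002000100000001023c
noncomputable def u144 : ℕ := 0x1000100010000000200020242
noncomputable def u145 : ℕ := 0x200000001000200010245
noncomputable def u146 : ℕ := 0x2000000020002024a
noncomputable def u147 : ℕ := 0x100010000000100000000024e
noncomputable def u148 : ℕ := 0x200000001000200010252
noncomputable def u149 : ℕ := 0x1000100020002000100020256
noncomputable def u150 : ℕ := 0x1000100010000000000010259
noncomputable def u151 : ℕ := 0x100020000000200010001025e
noncomputable def u152 : ℕ := 0x1000100000001000100010260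
noncomputable def u153 : ℕ := 0x1000100020002000100020265
noncomputable def u154 : ℕ := 0x200000001000000000001026a
noncomputable def u155 : ℕ := 0x20001000000000002026c
noncomputable def u156 : ℕ := 0x100010002000100010270
noncomputable def u157 : ℕ := 0x1000100010000000000010276
noncomputable def u158 : ℕ := 0x1000000020001000100020278
noncomputable def u159 : ℕ := 0x10000000000020001027c
noncomputable def u160 : ℕ := 0x2000100000002000100010280
noncomputable def u161 : ℕ := 0x20000000000010284
noncomputable def u162 : ℕ := 0x1000100010001028a
noncomputable def u163 : ℕ := 0x2000000020002028d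
noncomputable def u164 : ℕ := 0x1000200000002000100010291
noncomputable def u165 : ℕ := 0x1000000010002000200020295
noncomputable def u166 : ℕ := 0x100000001000200020002029a
noncomputable def u167 : ℕ := 0x200020001000000010000029c
noncomputable def u168 : ℕ := 0x100010001000102a1
noncomputable def u169 : ℕ := 0x10000000100020001000002a4
noncomputable def u170 : ℕ := 0x20001000000020000000202a9
noncomputable def u171 : ℕ := 0x20002000200020002000102ad
noncomputable def u172 : ℕ := 0x10001000200000001000002b1
noncomputable def u173 : ℕ := 0x20000000000010000000202b4
noncomputable def u174 : ℕ := 0x20002000200020002000102ba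
noncomputable def u175 : ℕ := 0x10000000100020000000202bd
noncomputable def u176 : ℕ := 0x10000000100020000000202c2
noncomputable def u177 : ℕ := 0x2000200000001000002c4
noncomputable def u178 : ℕ := 0x10002000100010002000202ca
noncomputable def u179 : ℕ := 0x10001000200000001000002ce
noncomputable def u180 : ℕ := 0x1000100020000000202d0
noncomputable def u181 : ℕ := 0x10002000200010000000002d5
noncomputable def u182 : ℕ := 0x10002000200010000000002da
noncomputable def u183 : ℕ := 0x1000200010001000002dd
noncomputable def u184 : ℕ := 0x20002000000020000000202e2
noncomputable def u185 : ℕ := 0x20000000200000002000102e4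
noncomputable def u186 : ℕ := 0x10002000200010002000102e9
noncomputable def u187 : ℕ := 0x20002000100000000000102ed
noncomputable def u188 : ℕ := 0x20002000100000000000102f2
noncomputable def u189 : ℕ := 0x10002000200010002000102f6
noncomputable def u190 : ℕ := 0x20002000200020000000002fa
noncomputable def u191 : ℕ := 0x20001000100020001000002fc
noncomputable def u192 : ℕ := 0x2000100000000000200000300
noncomputable def u193 : ℕ := 0x100010000000000010305
noncomputable def u194 : ℕ := 0x1000100020000000000010308
noncomputable def u195 : ℕ := 0x20001000100020000030d
noncomputable def u196 : ℕ := 0x2000100000002000000020312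
noncomputable def u197 : ℕ := 0x10001000000020314
noncomputable def u198 : ℕ := 0x1000200010002000100000319
noncomputable def u199 : ℕ := 0x10000000000010002031d
noncomputable def u200 : ℕ := 0x2000100020001000100020321
noncomputable def u201 : ℕ := 0x2000200020002000100020325
noncomputable def u202 : ℕ := 0x200020000000200020328
noncomputable def u203 : ℕ := 0x200000002000000010002032d
noncomputable def u204 : ℕ := 0x2000200000001000100010332
noncomputable def u205 : ℕ := 0x1000200020001000100020335
noncomputable def u206 : ℕ := 0x100020002000100000339
noncomputable def u207 : ℕ := 0x10002000200010000033e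
noncomputable def u208 : ℕ := 0x1000200000000000200010342
noncomputable def u209 : ℕ := 0x1000000020002000100000344
noncomputable def u210 : ℕ := 0x2000200000001000100010349
noncomputable def u211 : ℕ := 0x20001000100020000034e
noncomputable def u212 : ℕ := 0x2000100020000000200010352
noncomputable def u213 : ℕ := 0x2000000000001000100010354
noncomputable def u214 : ℕ := 0x2000000020000000000010358
noncomputable def u215 : ℕ := 0x200020002000100000000035c
noncomputable def u216 : ℕ := 0x2000100020001000100020362
noncomputable def u217 : ℕ := 0x2000100000000000100020365
noncomputable def u218 : ℕ := 0x200010000000000010002036a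
noncomputable def u219 : ℕ := 0x100000001000000010001036e
noncomputable def u220 : ℕ := 0x1000000010000000100010371
noncomputable def u221 : ℕ := 0x100010000000100010374
noncomputable def u222 : ℕ := 0x200000000000200000000037a
noncomputable def u223 : ℕ := 0x100000002000200000001037d
noncomputable def u224 : ℕ := 0x2000000010001000200020381
noncomputable def u225 : ℕ := 0x200020000000000010384
noncomputable def u226 : ℕ := 0x2000200000001000000020388
noncomputable def u227 : ℕ := 0x100010000000200000000038c
noncomputable def u228 : ℕ := 0x2000000000002000000000391
noncomputable def u229 : ℕ := 0x2000000010001000000020395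
noncomputable def u230 : ℕ := 0x1000100000002000200010399
noncomputable def u231 : ℕ := 0x200000001000100000002039e
noncomputable def u232 : ℕ := 0x200010000000103a0
noncomputable def u233 : ℕ := 0x200010002000203a5
noncomputable def u234 : ℕ := 0x2000000020002000103aa
noncomputable def u235 : ℕ := 0x1000200020000000103ac
noncomputable def u236 : ℕ := 0x200010002000203b2
noncomputable def u237 : ℕ := 0x20002000200020001000203b6
noncomputable def u238 : ℕ := 0x20001000100020000000103b8
noncomputable def u239 : ℕ := 0x10000000000010000000003be
noncomputable def u240 : ℕ := 0x20001000100000002000003c0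
noncomputable def u241 : ℕ := 0x10000000100000000000203c4
noncomputable def u242 : ℕ := 0x10002000000000002000103c9
noncomputable def u243 : ℕ := 0x10000000000010002000103ce
noncomputable def u244 : ℕ := 0x1000100000000000203d0
noncomputable def u245 : ℕ := 0x20000000000020002000003d6
noncomputable def u246 : ℕ := 0x20000000000020002000003d9
noncomputable def u247 : ℕ := 0x10002000100000002000003dd
noncomputable def u248 : ℕ := 0x10002000100000002000003e2
noncomputable def u249 : ℕ := 0x20000000000020001000203e6
noncomputable def u250 : ℕ := 0x20000000000020001000203e9
noncomputable def u251 : ℕ := 0x10002000100020002000203ec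
noncomputable def u252 : ℕ := 0x20002000100010001000003f2
noncomputable def u253 : ℕ := 0x1000000010002000103f4
noncomputable def u254 : ℕ := 0x20000000100010002000203fa
noncomputable def u255 : ℕ := 0x10002000200020001000003fd
noncomputable def u256 : ℕ := 0x1000100000002000200050002
noncomputable def u257 : ℕ := 0x1000000000001000100060005
noncomputable def u258 : ℕ := 0x100010000000200040008
noncomputable def u259 : ℕ := 0x200000002000000010006000e
noncomputable def u260 : ℕ := 0x2000200010001000100040011
noncomputable def u261 : ℕ := 0x1000000000001000100060016
noncomputable def u262 : ℕ := 0x10000000100010006001a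
noncomputable def u263 : ℕ := 0x20001000100000006001c
noncomputable def u264 : ℕ := 0x1000200020002000100040022
noncomputable def u265 : ℕ := 0x2000100020002000200050024
noncomputable def u266 : ℕ := 0x2000200000002000200040028
noncomputable def u267 : ℕ := 0x200010001000000010005002c
noncomputable def u268 : ℕ := 0x100000000000100060032
noncomputable def u269 : ℕ := 0x1000000000001000000040035
noncomputable def u270 : ℕ := 0x2000000010002000200040039
noncomputable def u271 : ℕ := 0x20002000100010004003c
noncomputable def u272 : ℕ := 0x100020000000100040041
noncomputable def u273 : ℕ := 0x2000000020001000100040044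
noncomputable def u274 : ℕ := 0x2000200010001000200060048
noncomputable def u275 : ℕ := 0x10002000000010004004e
noncomputable def u276 : ℕ := 0x1000100010002000200040052
noncomputable def u277 : ℕ := 0x2000000020001000000050055
noncomputable def u278 : ℕ := 0x20001000100000005005a
noncomputable def u279 : ℕ := 0x100000001000100020004005d
noncomputable def u280 : ℕ := 0x2000000020001000000050062
noncomputable def u281 : ℕ := 0x2000200000002000000040066
noncomputable def u282 : ℕ := 0x200010002000200040069
noncomputable def u283 : ℕ := 0x100010002000100020006006d
noncomputable def u284 : ℕ := 0x100010001000200040070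
noncomputable def u285 : ℕ := 0x2000200000002000000040075
noncomputable def u286 : ℕ := 0x1000200000001000200050078
noncomputable def u287 : ℕ := 0x200010000000100020005007e
noncomputable def u288 : ℕ := 0x1000000010001000200040082
noncomputable def u289 : ℕ := 0x200010002000200040086
noncomputable def u290 : ℕ := 0x2000100000001000000040088
noncomputable def u291 : ℕ := 0x100010001000200020004008d
noncomputable def u292 : ℕ := 0x2000000010002000100050090
noncomputable def u293 : ℕ := 0x1000200020002000000050095
noncomputable def u294 : ℕ := 0x200020001000200060098
noncomputable def u295 : ℕ := 0x100010002000100020006009e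
noncomputable def u296 : ℕ := 0x10002000200020000000500a2
noncomputable def u297 : ℕ := 0x20001000000010002000500a5
noncomputable def u298 : ℕ := 0x2000000000002000500aa
noncomputable def u299 : ℕ := 0x1000200000000000500ac
noncomputable def u300 : ℕ := 0x10001000100020001000500b2
noncomputable def u301 : ℕ := 0x10002000100000000000600b4
noncomputable def u302 : ℕ := 0x10002000200020002000600b9
noncomputable def u303 : ℕ := 0x20001000100000000000600bc
noncomputable def u304 : ℕ := 0x10002000000010000000400c1
noncomputable def u305 : ℕ := 0x100000002000500c5
noncomputable def u306 : ℕ := 0x10001000100020001000500c9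
noncomputable def u307 : ℕ := 0x2000200010000000500cc
noncomputable def u308 : ℕ := 0x20000000100020002000400d2
noncomputable def u309 : ℕ := 0x10002000000010000000400d6
noncomputable def u310 : ℕ := 0x20002000200010001000400d9
noncomputable def u311 : ℕ := 0x20002000200010001000400de
noncomputable def u312 : ℕ := 0x10000000200000002000600e1
noncomputable def u313 : ℕ := 0x20001000200000001000400e5
noncomputable def u314 : ℕ := 0x20001000200000001000400ea
noncomputable def u315 : ℕ := 0x10001000000000002000500ec
noncomputable def u316 : ℕ := 0x100020000000600f0
noncomputable def u317 : ℕ := 0x20002000100010000000600f6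
noncomputable def u318 : ℕ := 0x10002000200000001000400f8
noncomputable def u319 : ℕ := 0x10002000200010001000600fe
noncomputable def u320 : ℕ := 0x1000200010002000100040102
noncomputable def u321 : ℕ := 0x20002000200060105
noncomputable def u322 : ℕ := 0x10000000100060108
noncomputable def u323 : ℕ := 0x100010001000200000006010d
noncomputable def u324 : ℕ := 0x1000200020002000200060112
noncomputable def u325 : ℕ := 0x1000000000002000200050114
noncomputable def u326 : ℕ := 0x100010001000200000006011a
noncomputable def u327 : ℕ := 0x2000200000005011c
noncomputable def u328 : ℕ := 0x200000000000100060120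
noncomputable def u329 : ℕ := 0x100000002000200050124
noncomputable def u330 : ℕ := 0x1000000020000000000050128
noncomputable def u331 : ℕ := 0x200020001000200020004012c
noncomputable def u332 : ℕ := 0x2000100010001000200040131
noncomputable def u333 : ℕ := 0x20002000200060136
noncomputable def u334 : ℕ := 0x200020002000100000005013a
noncomputable def u335 : ℕ := 0x200010001000100020004013e
noncomputable def u336 : ℕ := 0x2000200020002000000040141
noncomputable def u337 : ℕ := 0x1000000020002000000050146
noncomputable def u338 : ℕ := 0x1000100010000000200040148
noncomputable def u339 : ℕ := 0x100010002000100010004014c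
noncomputable def u340 : ℕ := 0x2000200020001000200060151
noncomputable def u341 : ℕ := 0x2000100020000000000050154
noncomputable def u342 : ℕ := 0x1000000000002000100060158
noncomputable def u343 : ℕ := 0x200020000000000020005015d
noncomputable def u344 : ℕ := 0x1000200020000000000050160
noncomputable def u345 : ℕ := 0x2000000020002000100040166
noncomputable def u346 : ℕ := 0x20001000000020004016a
noncomputable def u347 : ℕ := 0x100010000000000010006016e
noncomputable def u348 : ℕ := 0x200010000000200040171
noncomputable def u349 : ℕ := 0x100000002000100060175
noncomputable def u350 : ℕ := 0x10000000200010006017a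
noncomputable def u351 : ℕ := 0x100020002000000020006017c
noncomputable def u352 : ℕ := 0x1000000020001000100040182
noncomputable def u353 : ℕ := 0x1000000020001000100040185
noncomputable def u354 : ℕ := 0x200010001000100010005018a
noncomputable def u355 : ℕ := 0x1000000020005018e
noncomputable def u356 : ℕ := 0x1000200010001000200040190
noncomputable def u357 : ℕ := 0x100000001000100060195
noncomputable def u358 : ℕ := 0x1000000000002000000040198
noncomputable def u359 : ℕ := 0x200020001000200010005019e
noncomputable def u360 : ℕ := 0x20001000100010001000501a1
noncomputable def u361 : ℕ := 0x20000000100000001000501a6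
noncomputable def u362 : ℕ := 0x10000000000010002000501a9
noncomputable def u363 : ℕ := 0x10001000100000001000501ac
noncomputable def u364 : ℕ := 0x2000000020001000601b0
noncomputable def u365 : ℕ := 0x20002000000000001000601b4
noncomputable def u366 : ℕ := 0x10000000100020002000401b8
noncomputable def u367 : ℕ := 0x20000000100000001000501bd
noncomputable def u368 : ℕ := 0x20002000200010000000501c1
noncomputable def u369 : ℕ := 0x20002000200010002000601c6
noncomputable def u370 : ℕ := 0x2000200020001000401c8
noncomputable def u371 : ℕ := 0x10002000100010001000501cd
noncomputable def u372 : ℕ := 0x10001000200020000000501d2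
noncomputable def u373 : ℕ := 0x20000000200020002000601d4
noncomputable def u374 : ℕ := 0x20000000000010000000401d8
noncomputable def u375 : ℕ := 0x1000000000001000401dd
noncomputable def u376 : ℕ := 0x20001000000020000000401e1
noncomputable def u377 : ℕ := 0x20001000100010000000601e5
noncomputable def u378 : ℕ := 0x10001000200020000000501e9
noncomputable def u379 : ℕ := 0x10000000200010002000601ec
noncomputable def u380 : ℕ := 0x2000100000001000601f1
noncomputable def u381 : ℕ := 0x2000100000001000601f6
noncomputable def u382 : ℕ := 0x20000000100000000000601f8
noncomputable def u383 : ℕ := 0x10002000100010001000501fe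
noncomputable def u384 : ℕ := 0x200020002000000050200
noncomputable def u385 : ℕ := 0x100000000000100040206
noncomputable def u386 : ℕ := 0x200010001000100000006020a
noncomputable def u387 : ℕ := 0x100000001000200000004020c
noncomputable def u388 : ℕ := 0x10001000200050212
noncomputable def u389 : ℕ := 0x1000200000002000000040214
noncomputable def u390 : ℕ := 0x1000100000001000000050219
noncomputable def u391 : ℕ := 0x200020001000100000006021d
noncomputable def u392 : ℕ := 0x100020001000000060221
noncomputable def u393 : ℕ := 0x100020001000000060226
noncomputable def u394 : ℕ := 0x2000000000001000200050228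
noncomputable def u395 : ℕ := 0x2000000000006022d
noncomputable def u396 : ℕ := 0x20000000000060232
noncomputable def u397 : ℕ := 0x200000001000200060235
noncomputable def u398 : ℕ := 0x100000000000200060238
noncomputable def u399 : ℕ := 0x200000000000100010006023c
noncomputable def u400 : ℕ := 0x200000001000200060242
noncomputable def u401 : ℕ := 0x1000100020000000200040244
noncomputable def u402 : ℕ := 0x2000200010002000100050249
noncomputable def u403 : ℕ := 0x200020001000000020004024d
noncomputable def u404 : ℕ := 0x1000100020002000200060250
noncomputable def u405 : ℕ := 0x200020000000200040255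
noncomputable def u406 : ℕ := 0x200020001000000020004025a
noncomputable def u407 : ℕ := 0x100010000000100010006025c
noncomputable def u408 : ℕ := 0x1000200000000000100060260
noncomputable def u409 : ℕ := 0x1000200000002000100060266
noncomputable def u410 : ℕ := 0x100010001000100050268
noncomputable def u411 : ℕ := 0x1000100010006026c
noncomputable def u412 : ℕ := 0x2000100010002000200060270
noncomputable def u413 : ℕ := 0x1000000020000000200060276
noncomputable def u414 : ℕ := 0x200010000000200000004027a
noncomputable def u415 : ℕ := 0x100010001000000000006027c
noncomputable def u416 : ℕ := 0x1000200000002000100060281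
noncomputable def u417 : ℕ := 0x200020002000200060284
noncomputable def u418 : ℕ := 0x10001000200050289
noncomputable def u419 : ℕ := 0x20000000000020005028d
noncomputable def u420 : ℕ := 0x2000000010001000200040290
noncomputable def u421 : ℕ := 0x1000100000000000100060295
noncomputable def u422 : ℕ := 0x2000100020001000000040298
noncomputable def u423 : ℕ := 0x20000000100010004029c
noncomputable def u424 : ℕ := 0x10000000200020002000402a0
noncomputable def u425 : ℕ := 0x10000000100010001000502a4
noncomputable def u426 : ℕ := 0x10002000000000001000402a8
noncomputable def u427 : ℕ := 0x2000200000001000502ad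
noncomputable def u428 : ℕ := 0x2000200000001000502b2
noncomputable def u429 : ℕ := 0x20001000200010000000502b6
noncomputable def u430 : ℕ := 0x20001000200010000000502b9
noncomputable def u431 : ℕ := 0x20000000200000002000602bd
noncomputable def u432 : ℕ := 0x10000000200000002000502c0
noncomputable def u433 : ℕ := 0x2000200000002000402c6
noncomputable def u434 : ℕ := 0x20001000000000002000502c8
noncomputable def u435 : ℕ := 0x20000000100010000000402cc
noncomputable def u436 : ℕ := 0x20002000100000000000602d0
noncomputable def u437 : ℕ := 0x10001000100010002000502d5
noncomputable def u438 : ℕ := 0x1000200020002000402d8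
noncomputable def u439 : ℕ := 0x20002000000010000000502dc
noncomputable def u440 : ℕ := 0x10001000100010000000402e1
noncomputable def u441 : ℕ := 0x20002000000010000000402e4
noncomputable def u442 : ℕ := 0x10000000100000002000502ea
noncomputable def u443 : ℕ := 0x20000000200000000000602ee
noncomputable def u444 : ℕ := 0x20001000000000001000402f1
noncomputable def u445 : ℕ := 0x10000000100000002000502f5
noncomputable def u446 : ℕ := 0x10001000100010002000502fa
noncomputable def u447 : ℕ := 0x20001000200010002000602fc
noncomputable def u448 : ℕ := 0x100010001000000060300
noncomputable def u449 : ℕ := 0x200010001000200050304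
noncomputable def u450 : ℕ := 0x100020000000000020006030a
noncomputable def u451 : ℕ := 0x20001000200000006030c
noncomputable def u452 : ℕ := 0x1000000020002000100050311
noncomputable def u453 : ℕ := 0x2000000000002000100040315
noncomputable def u454 : ℕ := 0x100010002000000000006031a
noncomputable def u455 : ℕ := 0x200000001000100010006031d
noncomputable def u456 : ℕ := 0x2000000010001000100060322
noncomputable def u457 : ℕ := 0x200020000000000060325
noncomputable def u458 : ℕ := 0x1000200000002000000060328
noncomputable def u459 : ℕ := 0x200020000000100010006032e
noncomputable def u460 : ℕ := 0x20001000100050330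
noncomputable def u461 : ℕ := 0x200000002000100040334
noncomputable def u462 : ℕ := 0x200000000000200020005033a
noncomputable def u463 : ℕ := 0x100020001000200010005033c
noncomputable def u464 : ℕ := 0x100000001000100040342
noncomputable def u465 : ℕ := 0x1000200000000000200060345
noncomputable def u466 : ℕ := 0x100000000000100010004034a
noncomputable def u467 : ℕ := 0x100010002000000000006034d
noncomputable def u468 : ℕ := 0x2000000000002000200050351
noncomputable def u469 : ℕ := 0x1000100010001000000040356
noncomputable def u470 : ℕ := 0x100000002000200010005035a
noncomputable def u471 : ℕ := 0x200020002000000010004035c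
noncomputable def u472 : ℕ := 0x1000200010002000000060362
noncomputable def u473 : ℕ := 0x2000200000001000100060365
noncomputable def u474 : ℕ := 0x100000001000100040369
noncomputable def u475 : ℕ := 0x1000200020005036d
noncomputable def u476 : ℕ := 0x10002000200050372
noncomputable def u477 : ℕ := 0x2000000000002000000050376
noncomputable def u478 : ℕ := 0x100010000000200020006037a
noncomputable def u479 : ℕ := 0x10002000200000006037d
noncomputable def u480 : ℕ := 0x1000100000002000200060381
noncomputable def u481 : ℕ := 0x1000100000002000000050384
noncomputable def u482 : ℕ := 0x1000000000001000200060389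
noncomputable def u483 : ℕ := 0x100000000000100020006038e
noncomputable def u484 : ℕ := 0x200000002000200060392
noncomputable def u485 : ℕ := 0x1000000010000000100060394
noncomputable def u486 : ℕ := 0x100000001000200060398
noncomputable def u487 : ℕ := 0x2000100000006039d
noncomputable def u488 : ℕ := 0x20002000200000002000603a0
noncomputable def u489 : ℕ := 0x20002000200000000000503a4
noncomputable def u490 : ℕ := 0x20000000000020001000403aa
noncomputable def u491 : ℕ := 0x20000000000020000000503ad
noncomputable def u492 : ℕ := 0x20000000200000002000603b2
noncomputable def u493 : ℕ := 0x2000100010001000603b5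
noncomputable def u494 : ℕ := 0x1000200000002000403b8
noncomputable def u495 : ℕ := 0x1000200020000000603be
noncomputable def u496 : ℕ := 0x10002000100000002000503c0
noncomputable def u497 : ℕ := 0x2000200010002000403c6
noncomputable def u498 : ℕ := 0x10000000000010000000503c9
noncomputable def u499 : ℕ := 0x10002000000010002000403cc
noncomputable def u500 : ℕ := 0x10000000000010001000403d1
noncomputable def u501 : ℕ := 0x200000001000503d4
noncomputable def u502 : ℕ := 0x2000000020002000603d9
noncomputable def u503 : ℕ := 0x100020001000603dc
noncomputable def u504 : ℕ := 0x20000000200010001000503e2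
noncomputable def u505 : ℕ := 0x20000000200010002000403e4
noncomputable def u506 : ℕ := 0x20000000200020001000403e9
noncomputable def u507 : ℕ := 0x2000200010002000403ed
noncomputable def u508 : ℕ := 0x20001000000020001000603f0
noncomputable def u509 : ℕ := 0x2000000010001000603f4
noncomputable def u510 : ℕ := 0x20000000200010001000503f9
noncomputable def u511 : ℕ := 0x2000200000000000603fe
noncomputable def u512 : ℕ := 0x1000100000001000000090002
noncomputable def u513 : ℕ := 0x20001000200020002000a0005
noncomputable def u514 : ℕ := 0x2000100010001000a000a
noncomputable def u515 : ℕ := 0x100010002000100010009000d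
noncomputable def u516 : ℕ := 0x200020001000100090012
noncomputable def u517 : ℕ := 0x10001000100010001000a0015
noncomputable def u518 : ℕ := 0x100010000000000010008001a
noncomputable def u519 : ℕ := 0x200010000000a001e
noncomputable def u520 : ℕ := 0x2000000010002000200090020
noncomputable def u521 : ℕ := 0x10002000100000001000a0025
noncomputable def u522 : ℕ := 0x2000200000002000200090028
noncomputable def u523 : ℕ := 0x20001000200020002000a002e
noncomputable def u524 : ℕ := 0x1000100010002000200090030
noncomputable def u525 : ℕ := 0x2000200010001000100090034
noncomputable def u526 : ℕ := 0x200020001000100090039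
noncomputable def u527 : ℕ := 0x200000001000200000008003e
noncomputable def u528 : ℕ := 0x2000200000000000200090042
noncomputable def u529 : ℕ := 0x10002000100000001000a0046
noncomputable def u530 : ℕ := 0x100000000000100000009004a
noncomputable def u531 : ℕ := 0x200020000000200000009004e
noncomputable def u532 : ℕ := 0x10001000200010000000a0050
noncomputable def u533 : ℕ := 0x1000000010001000000080056
noncomputable def u534 : ℕ := 0x1000000010001000000080059
noncomputable def u535 : ℕ := 0x100010000000000010008005d
noncomputable def u536 : ℕ := 0x2000100000001000000090060
noncomputable def u537 : ℕ := 0x1000200000001000000090065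
noncomputable def u538 : ℕ := 0x1000000020000000100090068
noncomputable def u539 : ℕ := 0x20001000200020009006c
noncomputable def u540 : ℕ := 0x10001000000000002000a0070
noncomputable def u541 : ℕ := 0x2000200010001000000080074
noncomputable def u542 : ℕ := 0x100020000000100000009007a
noncomputable def u543 : ℕ := 0x1000200000000000a007d
noncomputable def u544 : ℕ := 0x1000000000002000100080080
noncomputable def u545 : ℕ := 0x2000100000000000100080086
noncomputable def u546 : ℕ := 0x1000200000000000a008a
noncomputable def u547 : ℕ := 0x100000001000100020009008c
noncomputable def u548 : ℕ := 0x1000200020000000200080092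
noncomputable def u549 : ℕ := 0x10001000100020001000a0094
noncomputable def u550 : ℕ := 0x1000000000009009a
noncomputable def u551 : ℕ := 0x10000000200010008009d
noncomputable def u552 : ℕ := 0x200020001000900a0
noncomputable def u553 : ℕ := 0x1000000020001000800a6
noncomputable def u554 : ℕ := 0x10000000200000000000a00a9
noncomputable def u555 : ℕ := 0x20001000200000002000800ac
noncomputable def u556 : ℕ := 0x20000000100020000000800b1
noncomputable def u557 : ℕ := 0x2000100020001000a00b6
noncomputable def u558 : ℕ := 0x2000000000002000a00ba
noncomputable def u559 : ℕ := 0x2000000000001000800bc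
noncomputable def u560 : ℕ := 0x10002000200000002000800c1
noncomputable def u561 : ℕ := 0x100000002000a00c4
noncomputable def u562 : ℕ := 0x2000000020002000900c9
noncomputable def u563 : ℕ := 0x20001000000010002000a00ce
noncomputable def u564 : ℕ := 0x2000100020001000a00d1
noncomputable def u565 : ℕ := 0x10001000200010001000900d6
noncomputable def u566 : ℕ := 0x2000200010000000a00d9
noncomputable def u567 : ℕ := 0x10002000100020000000a00dd
noncomputable def u568 : ℕ := 0x10000000000020002000a00e0
noncomputable def u569 : ℕ := 0x10002000000010002000a00e4
noncomputable def u570 : ℕ := 0x10002000200000001000900ea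
noncomputable def u571 : ℕ := 0x20001000000010002000a00ed
noncomputable def u572 : ℕ := 0x10002000200000001000900f1
noncomputable def u573 : ℕ := 0x20000000200020002000800f6
noncomputable def u574 : ℕ := 0x200020000000a00fa
noncomputable def u575 : ℕ := 0x20002000100020000000800fd
noncomputable def u576 : ℕ := 0x200020000000a0101
noncomputable def u577 : ℕ := 0x1000000020001000200080105
noncomputable def u578 : ℕ := 0x200020001000200000008010a
noncomputable def u579 : ℕ := 0x1000000020002000a010c
noncomputable def u580 : ℕ := 0x1000000020001000200080112
noncomputable def u581 : ℕ := 0x2000200000000000100080114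
noncomputable def u582 : ℕ := 0x2000000000002000a0119
noncomputable def u583 : ℕ := 0x200000002000200020008011d
noncomputable def u584 : ℕ := 0x200010000000100080120
noncomputable def u585 : ℕ := 0x1000200010001000000080125
noncomputable def u586 : ℕ := 0x1000100020002000200080129
noncomputable def u587 : ℕ := 0x100010002000200020008012e
noncomputable def u588 : ℕ := 0x20001000200000000000a0131
noncomputable def u589 : ℕ := 0x20001000200000000000a0136
noncomputable def u590 : ℕ := 0x1000200010009013a
noncomputable def u591 : ℕ := 0x10001000100010001000a013e
noncomputable def u592 : ℕ := 0x20002000000000002000a0142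
noncomputable def u593 : ℕ := 0x200020002000200080145
noncomputable def u594 : ℕ := 0x10002000200000000000a0149
noncomputable def u595 : ℕ := 0x100020001000100000008014e
noncomputable def u596 : ℕ := 0x200020002000200080152
noncomputable def u597 : ℕ := 0x200000001000200080155
noncomputable def u598 : ℕ := 0x2000000000001000100080158
noncomputable def u599 : ℕ := 0x100010002000200010009015c
noncomputable def u600 : ℕ := 0x2000100010001000000080160
noncomputable def u601 : ℕ := 0x200010000000200090164
noncomputable def u602 : ℕ := 0x20000000100020008016a
noncomputable def u603 : ℕ := 0x200010001000100020009016c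
noncomputable def u604 : ℕ := 0x100020001000200080170
noncomputable def u605 : ℕ := 0x2000000010000000200090176
noncomputable def u606 : ℕ := 0x20001000000000009017a
noncomputable def u607 : ℕ := 0x200010000000200010008017c
noncomputable def u608 : ℕ := 0x10002000100010001000a0180
noncomputable def u609 : ℕ := 0x200020002000100090186
noncomputable def u610 : ℕ := 0x1000000000002000000090188
noncomputable def u611 : ℕ := 0x20001000100010001000a018c
noncomputable def u612 : ℕ := 0x200010000000000090191
noncomputable def u613 : ℕ := 0x20000000100000001000a0194
noncomputable def u614 : ℕ := 0x100010002000100080199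
noncomputable def u615 : ℕ := 0x1000000000009019d
noncomputable def u616 : ℕ := 0x10002000000020001000801a2
noncomputable def u617 : ℕ := 0x10002000000020001000801a5
noncomputable def u618 : ℕ := 0x20002000200020000000a01a8
noncomputable def u619 : ℕ := 0x20001000000020000000901ad
noncomputable def u620 : ℕ := 0x20001000000020000000901b2
noncomputable def u621 : ℕ := 0x10001000000010001000801b4
noncomputable def u622 : ℕ := 0x20000000000010002000a01b8
noncomputable def u623 : ℕ := 0x20000000000010000000901bc
noncomputable def u624 : ℕ := 0x10000000200010000000a01c0
noncomputable def u625 : ℕ := 0x2000200020001000901c5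
noncomputable def u626 : ℕ := 0x200000001000a01c9
noncomputable def u627 : ℕ := 0x1000000000001000901cd
noncomputable def u628 : ℕ := 0x2000200020000000a01d2
noncomputable def u629 : ℕ := 0x20002000200020002000801d4
noncomputable def u630 : ℕ := 0x2000200020000000a01d9
noncomputable def u631 : ℕ := 0x20001000200010002000801de
noncomputable def u632 : ℕ := 0x10002000200000000000a01e2
noncomputable def u633 : ℕ := 0x10002000200010002000801e4
noncomputable def u634 : ℕ := 0x1000100020002000a01ea
noncomputable def u635 : ℕ := 0x1000100020000000901ed
noncomputable def u636 : ℕ := 0x100010002000a01f0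
noncomputable def u637 : ℕ := 0x20001000200010002000801f5
noncomputable def u638 : ℕ := 0x100010000000901f9
noncomputable def u639 : ℕ := 0x100010000000901fe
noncomputable def u640 : ℕ := 0x1000100020002000a0201
noncomputable def u641 : ℕ := 0x20000000200020000000a0204
noncomputable def u642 : ℕ := 0x20000000200090208
noncomputable def u643 : ℕ := 0x10000000000010009020e
noncomputable def u644 : ℕ := 0x10000000100020001000a0212
noncomputable def u645 : ℕ := 0x10002000100090215
noncomputable def u646 : ℕ := 0x1000200000002000000090218
noncomputable def u647 : ℕ := 0x20000000100010009021c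
noncomputable def u648 : ℕ := 0x1000100020000000200090221
noncomputable def u649 : ℕ := 0x1000100020000000200090226
noncomputable def u650 : ℕ := 0x10000000200000000000a022a
noncomputable def u651 : ℕ := 0x100020000000000020008022d
noncomputable def u652 : ℕ := 0x2000100020001000100090230
noncomputable def u653 : ℕ := 0x2000200010000000200090234
noncomputable def u654 : ℕ := 0x1000100010002000000080238
noncomputable def u655 : ℕ := 0x200020000000100010008023d
noncomputable def u656 : ℕ := 0x200000001000a0242
noncomputable def u657 : ℕ := 0x20002000000000002000a0245
noncomputable def u658 : ℕ := 0x100020000000000020008024a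
noncomputable def u659 : ℕ := 0x200020000000200000009024d
noncomputable def u660 : ℕ := 0x10001000000010000000a0251
noncomputable def u661 : ℕ := 0x20002000100020001000a0254
noncomputable def u662 : ℕ := 0x1000100010001000100080258
noncomputable def u663 : ℕ := 0x20002000100000001000a025d
noncomputable def u664 : ℕ := 0x2000200020002000100090260
noncomputable def u665 : ℕ := 0x2000000020000000100090264
noncomputable def u666 : ℕ := 0x10001000200010008026a
noncomputable def u667 : ℕ := 0x200020000000100010008026e
noncomputable def u668 : ℕ := 0x200010001000100080270
noncomputable def u669 : ℕ := 0x2000100010002000200090276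
noncomputable def u670 : ℕ := 0x2000100000000000100090279
noncomputable def u671 : ℕ := 0x200000001000100010008027c
noncomputable def u672 : ℕ := 0x20002000100000001000a0282
noncomputable def u673 : ℕ := 0x100010000000100080285
noncomputable def u674 : ℕ := 0x10001000000010008028a
noncomputable def u675 : ℕ := 0x100020000000000010009028c
noncomputable def u676 : ℕ := 0x2000100010002000000080292
noncomputable def u677 : ℕ := 0x1000000020002000200090296
noncomputable def u678 : ℕ := 0x1000200020002000200090298
noncomputable def u679 : ℕ := 0x100010000000200020008029d
noncomputable def u680 : ℕ := 0x10001000000020002000802a2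
noncomputable def u681 : ℕ := 0x20001000000000001000902a6
noncomputable def u682 : ℕ := 0x20001000000000002000a02a8
noncomputable def u683 : ℕ := 0x1000200020002000902ad
noncomputable def u684 : ℕ := 0x200010002000902b0
noncomputable def u685 : ℕ := 0x10002000200010001000902b4
noncomputable def u686 : ℕ := 0x10001000100010000000902b8
noncomputable def u687 : ℕ := 0x20001000200020000000a02bc
noncomputable def u688 : ℕ := 0x10000000000010002000802c2
noncomputable def u689 : ℕ := 0x10000000100020001000a02c5
noncomputable def u690 : ℕ := 0x2000000020002000802c9
noncomputable def u691 : ℕ := 0x10000000100000002000a02cc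
noncomputable def u692 : ℕ := 0x20001000100020001000a02d1
noncomputable def u693 : ℕ := 0x20001000100020001000a02d6
noncomputable def u694 : ℕ := 0x10001000100010002000a02d8
noncomputable def u695 : ℕ := 0x10000000100000000000902de
noncomputable def u696 : ℕ := 0x1000100020000000902e2
noncomputable def u697 : ℕ := 0x1000100000002000a02e5
noncomputable def u698 : ℕ := 0x20000000000020001000902e9
noncomputable def u699 : ℕ := 0x20000000000020001000902ee
noncomputable def u700 : ℕ := 0x10002000100020002000902f1
noncomputable def u701 : ℕ := 0x10000000100000000000902f5
noncomputable def UU : Tr := (.node (.node (.node (.node (.node (.node (.node (.node (.node (.node (.leaf u0) (.leaf u512)) (.leaf u256)) (.node (.node (.leaf u128) (.leaf u640)) (.leaf u384))) (.node (.node (.node (.leaf u64) (.leaf u576)) (.leaf u320)) (.node (.leaf u192) (.leaf u448)))) (.node (.node (.node (.node (.leaf u32) (.leaf u544)) (.leaf u288)) (.node (.node (.leaf u160) (.leaf u672)) (.leaf u416))) (.node (.node (.node (.leaf u96) (.leaf u608)) (.leaf u352)) (.node (.leaf u224) (.leaf u480))))) (.node (.node (.node (.node (.node (.leaf u16) (.leaf u528)) (.leaf u272)) (.node (.node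 (.leaf u144) (.leaf u656)) (.leaf u400))) (.node (.node (.node (.leaf u80) (.leaf u592)) (.leaf u336)) (.node (.leaf u208) (.leaf u464)))) (.node (.node (.node (.node (.leaf u48) (.leaf u560)) (.leaf u304)) (.node (.node (.leaf u176) (.leaf u688)) (.leaf u432))) (.node (.node (.node (.leaf u112) (.leaf u624)) (.leaf u368)) (.node (.leaf u240) (.leaf u496)))))) (.node (.node (.node (.node (.node (.node (.leaf u8) (.leaf u520)) (.leaf u264)) (.node (.node (.leaf u136) (.leaf u648)) (.leaf u392))) (.node (.node (.node (.leaf u72) (.leaf u584)) (.leaf u328)) (.node (.leaf u200) (.leaf u456)))) (.node (.node (.node (.node (.leaf u40) (.leaf u552)) (.leaf u296)) (.node (.node (.leaf u168) (.leaf u680)) (.leaf u424))) (.node (.node (.node (.leaf u104) (.leaf u616)) (.leaf u360)) (.node (.leaf u232) (.leaf u488))))) (.node (.node (.node (.node (.node (.leaf u24) (.leaf u536)) (.leaf u280)) (.node (.node (.leaf u152) (.leaf u664)) (.leaf u408))) (.node (.node (.node (.leaf u88) (.leaf u600)) (.leaf u344)) (.node (.leaf u216) (.leaf u472)))) (.node (.node (.node (.node (.leaf u56) (.leaf u568)) (.leaf u312)) (.node (.node (.leaf u184) (.leaf u696)) (.leaf u440)))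 (.node (.node (.node (.leaf u120) (.leaf u632)) (.leaf u376)) (.node (.leaf u248) (.leaf u504))))))) (.node (.node (.node (.node (.node (.node (.node (.leaf u4) (.leaf u516)) (.leaf u260)) (.node (.node (.leaf u132) (.leaf u644)) (.leaf u388))) (.node (.node (.node (.leaf u68) (.leaf u580)) (.leaf u324)) (.node (.leaf u196) (.leaf u452)))) (.node (.node (.node (.node (.leaf u36) (.leaf u548)) (.leaf u292)) (.node (.node (.leaf u164) (.leaf u676)) (.leaf u420))) (.node (.node (.node (.leaf u100) (.leaf u612)) (.leaf u356)) (.node (.leaf u228) (.leaf u484))))) (.node (.node (.node (.node (.node (.leaf u20) (.leaf u532)) (.leaf u276)) (.node (.node (.leaf u148) (.leaf u660)) (.leaf u404))) (.node (.node (.node (.leaf u84) (.leaf u596)) (.leaf u340)) (.node (.leaf u212) (.leaf u468)))) (.node (.node (.node (.node (.leaf u52) (.leaf u564)) (.leaf u308)) (.node (.node (.leaf u180) (.leaf u692)) (.leaf u436))) (.node (.node (.node (.leaf u116) (.leaf u628)) (.leaf u372)) (.node (.leaf u244) (.leaf u500)))))) (.node (.node (.node (.node (.node (.node (.leaf u12) (.leaf u524)) (.leaf u268)) (.node (.node (.leaf u140) (.leaf u652)) (.leaf u396))) (.node (.node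 (.node (.leaf u76) (.leaf u588)) (.leaf u332)) (.node (.leaf u204) (.leaf u460)))) (.node (.node (.node (.node (.leaf u44) (.leaf u556)) (.leaf u300)) (.node (.node (.leaf u172) (.leaf u684)) (.leaf u428))) (.node (.node (.node (.leaf u108) (.leaf u620)) (.leaf u364)) (.node (.leaf u236) (.leaf u492))))) (.node (.node (.node (.node (.node (.leaf u28) (.leaf u540)) (.leaf u284)) (.node (.node (.leaf u156) (.leaf u668)) (.leaf u412))) (.node (.node (.node (.leaf u92) (.leaf u604)) (.leaf u348)) (.node (.leaf u220) (.leaf u476)))) (.node (.node (.node (.node (.leaf u60) (.leaf u572)) (.leaf u316)) (.node (.node (.leaf u188) (.leaf u700)) (.leaf u444))) (.node (.node (.node (.leaf u124) (.leaf u636)) (.leaf u380)) (.node (.leaf u252) (.leaf u508)))))))) (.node (.node (.node (.node (.node (.node (.node (.node (.leaf u2) (.leaf u514)) (.leaf u258)) (.node (.node (.leaf u130) (.leaf u642)) (.leaf u386))) (.node (.node (.node (.leaf u66) (.leaf u578)) (.leaf u322)) (.node (.leaf u194) (.leaf u450)))) (.node (.node (.node (.node (.leaf u34) (.leaf u546)) (.leaf u290)) (.node (.node (.leaf u162) (.leaf u674)) (.leaf u418))) (.node (.node (.node (.leaf u98) (.leaf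 u610)) (.leaf u354)) (.node (.leaf u226) (.leaf u482))))) (.node (.node (.node (.node (.node (.leaf u18) (.leaf u530)) (.leaf u274)) (.node (.node (.leaf u146) (.leaf u658)) (.leaf u402))) (.node (.node (.node (.leaf u82) (.leaf u594)) (.leaf u338)) (.node (.leaf u210) (.leaf u466)))) (.node (.node (.node (.node (.leaf u50) (.leaf u562)) (.leaf u306)) (.node (.node (.leaf u178) (.leaf u690)) (.leaf u434))) (.node (.node (.node (.leaf u114) (.leaf u626)) (.leaf u370)) (.node (.leaf u242) (.leaf u498)))))) (.node (.node (.node (.node (.node (.node (.leaf u10) (.leaf u522)) (.leaf u266)) (.node (.node (.leaf u138) (.leaf u650)) (.leaf u394))) (.node (.node (.node (.leaf u74) (.leaf u586)) (.leaf u330)) (.node (.leaf u202) (.leaf u458)))) (.node (.node (.node (.node (.leaf u42) (.leaf u554)) (.leaf u298)) (.node (.node (.leaf u170) (.leaf u682)) (.leaf u426))) (.node (.node (.node (.leaf u106) (.leaf u618)) (.leaf u362)) (.node (.leaf u234) (.leaf u490))))) (.node (.node (.node (.node (.node (.leaf u26) (.leaf u538)) (.leaf u282)) (.node (.node (.leaf u154) (.leaf u666)) (.leaf u410))) (.node (.node (.node (.leaf u90) (.leaf u602)) (.leaf u346)) (.node (.leaf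 u218) (.leaf u474)))) (.node (.node (.node (.node (.leaf u58) (.leaf u570)) (.leaf u314)) (.node (.node (.leaf u186) (.leaf u698)) (.leaf u442))) (.node (.node (.node (.leaf u122) (.leaf u634)) (.leaf u378)) (.node (.leaf u250) (.leaf u506))))))) (.node (.node (.node (.node (.node (.node (.node (.leaf u6) (.leaf u518)) (.leaf u262)) (.node (.node (.leaf u134) (.leaf u646)) (.leaf u390))) (.node (.node (.node (.leaf u70) (.leaf u582)) (.leaf u326)) (.node (.leaf u198) (.leaf u454)))) (.node (.node (.node (.node (.leaf u38) (.leaf u550)) (.leaf u294)) (.node (.node (.leaf u166) (.leaf u678)) (.leaf u422))) (.node (.node (.node (.leaf u102) (.leaf u614)) (.leaf u358)) (.node (.leaf u230) (.leaf u486))))) (.node (.node (.node (.node (.node (.leaf u22) (.leaf u534)) (.leaf u278)) (.node (.node (.leaf u150) (.leaf u662)) (.leaf u406))) (.node (.node (.node (.leaf u86) (.leaf u598)) (.leaf u342)) (.node (.leaf u214) (.leaf u470)))) (.node (.node (.node (.node (.leaf u54) (.leaf u566)) (.leaf u310)) (.node (.node (.leaf u182) (.leaf u694)) (.leaf u438))) (.node (.node (.node (.leaf u118) (.leaf u630)) (.leaf u374)) (.node (.leaf u246) (.leaf u502)))))) (.node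 (.node (.node (.node (.node (.node (.leaf u14) (.leaf u526)) (.leaf u270)) (.node (.node (.leaf u142) (.leaf u654)) (.leaf u398))) (.node (.node (.node (.leaf u78) (.leaf u590)) (.leaf u334)) (.node (.leaf u206) (.leaf u462)))) (.node (.node (.node (.node (.leaf u46) (.leaf u558)) (.leaf u302)) (.node (.node (.leaf u174) (.leaf u686)) (.leaf u430))) (.node (.node (.node (.leaf u110) (.leaf u622)) (.leaf u366)) (.node (.leaf u238) (.leaf u494))))) (.node (.node (.node (.node (.node (.leaf u30) (.leaf u542)) (.leaf u286)) (.node (.node (.leaf u158) (.leaf u670)) (.leaf u414))) (.node (.node (.node (.leaf u94) (.leaf u606)) (.leaf u350)) (.node (.leaf u222) (.leaf u478)))) (.node (.node (.node (.node (.leaf u62) (.leaf u574)) (.leaf u318)) (.node (.leaf u190) (.leaf u446))) (.node (.node (.node (.leaf u126) (.leaf u638)) (.leaf u382)) (.node (.leaf u254) (.leaf u510))))))))) (.node (.node (.node (.node (.node (.node (.node (.node (.node (.leaf u1) (.leaf u513)) (.leaf u257)) (.node (.node (.leaf u129) (.leaf u641)) (.leaf u385))) (.node (.node (.node (.leaf u65) (.leaf u577)) (.leaf u321)) (.node (.leaf u193) (.leaf u449)))) (.node (.node (.node (.node (.leaf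 u33) (.leaf u545)) (.leaf u289)) (.node (.node (.leaf u161) (.leaf u673)) (.leaf u417))) (.node (.node (.node (.leaf u97) (.leaf u609)) (.leaf u353)) (.node (.leaf u225) (.leaf u481))))) (.node (.node (.node (.node (.node (.leaf u17) (.leaf u529)) (.leaf u273)) (.node (.node (.leaf u145) (.leaf u657)) (.leaf u401))) (.node (.node (.node (.leaf u81) (.leaf u593)) (.leaf u337)) (.node (.leaf u209) (.leaf u465)))) (.node (.node (.node (.node (.leaf u49) (.leaf u561)) (.leaf u305)) (.node (.node (.leaf u177) (.leaf u689)) (.leaf u433))) (.node (.node (.node (.leaf u113) (.leaf u625)) (.leaf u369)) (.node (.leaf u241) (.leaf u497)))))) (.node (.node (.node (.node (.node (.node (.leaf u9) (.leaf u521)) (.leaf u265)) (.node (.node (.leaf u137) (.leaf u649)) (.leaf u393))) (.node (.node (.node (.leaf u73) (.leaf u585)) (.leaf u329)) (.node (.leaf u201) (.leaf u457)))) (.node (.node (.node (.node (.leaf u41) (.leaf u553)) (.leaf u297)) (.node (.node (.leaf u169) (.leaf u681)) (.leaf u425))) (.node (.node (.node (.leaf u105) (.leaf u617)) (.leaf u361)) (.node (.leaf u233) (.leaf u489))))) (.node (.node (.node (.node (.node (.leaf u25) (.leaf u537)) (.leaf u281))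 (.node (.node (.leaf u153) (.leaf u665)) (.leaf u409))) (.node (.node (.node (.leaf u89) (.leaf u601)) (.leaf u345)) (.node (.leaf u217) (.leaf u473)))) (.node (.node (.node (.node (.leaf u57) (.leaf u569)) (.leaf u313)) (.node (.node (.leaf u185) (.leaf u697)) (.leaf u441))) (.node (.node (.node (.leaf u121) (.leaf u633)) (.leaf u377)) (.node (.leaf u249) (.leaf u505))))))) (.node (.node (.node (.node (.node (.node (.node (.leaf u5) (.leaf u517)) (.leaf u261)) (.node (.node (.leaf u133) (.leaf u645)) (.leaf u389))) (.node (.node (.node (.leaf u69) (.leaf u581)) (.leaf u325)) (.node (.leaf u197) (.leaf u453)))) (.node (.node (.node (.node (.leaf u37) (.leaf u549)) (.leaf u293)) (.node (.node (.leaf u165) (.leaf u677)) (.leaf u421))) (.node (.node (.node (.leaf u101) (.leaf u613)) (.leaf u357)) (.node (.leaf u229) (.leaf u485))))) (.node (.node (.node (.node (.node (.leaf u21) (.leaf u533)) (.leaf u277)) (.node (.node (.leaf u149) (.leaf u661)) (.leaf u405))) (.node (.node (.node (.leaf u85) (.leaf u597)) (.leaf u341)) (.node (.leaf u213) (.leaf u469)))) (.node (.node (.node (.node (.leaf u53) (.leaf u565)) (.leaf u309)) (.node (.node (.leaf u181) (.leaf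 u693)) (.leaf u437))) (.node (.node (.node (.leaf u117) (.leaf u629)) (.leaf u373)) (.node (.leaf u245) (.leaf u501)))))) (.node (.node (.node (.node (.node (.node (.leaf u13) (.leaf u525)) (.leaf u269)) (.node (.node (.leaf u141) (.leaf u653)) (.leaf u397))) (.node (.node (.node (.leaf u77) (.leaf u589)) (.leaf u333)) (.node (.leaf u205) (.leaf u461)))) (.node (.node (.node (.node (.leaf u45) (.leaf u557)) (.leaf u301)) (.node (.node (.leaf u173) (.leaf u685)) (.leaf u429))) (.node (.node (.node (.leaf u109) (.leaf u621)) (.leaf u365)) (.node (.leaf u237) (.leaf u493))))) (.node (.node (.node (.node (.node (.leaf u29) (.leaf u541)) (.leaf u285)) (.node (.node (.leaf u157) (.leaf u669)) (.leaf u413))) (.node (.node (.node (.leaf u93) (.leaf u605)) (.leaf u349)) (.node (.leaf u221) (.leaf u477)))) (.node (.node (.node (.node (.leaf u61) (.leaf u573)) (.leaf u317)) (.node (.node (.leaf u189) (.leaf u701)) (.leaf u445))) (.node (.node (.node (.leaf u125) (.leaf u637)) (.leaf u381)) (.node (.leaf u253) (.leaf u509)))))))) (.node (.node (.node (.node (.node (.node (.node (.node (.leaf u3) (.leaf u515)) (.leaf u259)) (.node (.node (.leaf u131) (.leaf u643))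 (.leaf u387))) (.node (.node (.node (.leaf u67) (.leaf u579)) (.leaf u323)) (.node (.leaf u195) (.leaf u451)))) (.node (.node (.node (.node (.leaf u35) (.leaf u547)) (.leaf u291)) (.node (.node (.leaf u163) (.leaf u675)) (.leaf u419))) (.node (.node (.node (.leaf u99) (.leaf u611)) (.leaf u355)) (.node (.leaf u227) (.leaf u483))))) (.node (.node (.node (.node (.node (.leaf u19) (.leaf u531)) (.leaf u275)) (.node (.node (.leaf u147) (.leaf u659)) (.leaf u403))) (.node (.node (.node (.leaf u83) (.leaf u595)) (.leaf u339)) (.node (.leaf u211) (.leaf u467)))) (.node (.node (.node (.node (.leaf u51) (.leaf u563)) (.leaf u307)) (.node (.node (.leaf u179) (.leaf u691)) (.leaf u435))) (.node (.node (.node (.leaf u115) (.leaf u627)) (.leaf u371)) (.node (.leaf u243) (.leaf u499)))))) (.node (.node (.node (.node (.node (.node (.leaf u11) (.leaf u523)) (.leaf u267)) (.node (.node (.leaf u139) (.leaf u651)) (.leaf u395))) (.node (.node (.node (.leaf u75) (.leaf u587)) (.leaf u331)) (.node (.leaf u203) (.leaf u459)))) (.node (.node (.node (.node (.leaf u43) (.leaf u555)) (.leaf u299)) (.node (.node (.leaf u171) (.leaf u683)) (.leaf u427))) (.node (.node (.node (.leaf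 u107) (.leaf u619)) (.leaf u363)) (.node (.leaf u235) (.leaf u491))))) (.node (.node (.node (.node (.node (.leaf u27) (.leaf u539)) (.leaf u283)) (.node (.node (.leaf u155) (.leaf u667)) (.leaf u411))) (.node (.node (.node (.leaf u91) (.leaf u603)) (.leaf u347)) (.node (.leaf u219) (.leaf u475)))) (.node (.node (.node (.node (.leaf u59) (.leaf u571)) (.leaf u315)) (.node (.node (.leaf u187) (.leaf u699)) (.leaf u443))) (.node (.node (.node (.leaf u123) (.leaf u635)) (.leaf u379)) (.node (.leaf u251) (.leaf u507))))))) (.node (.node (.node (.node (.node (.node (.node (.leaf u7) (.leaf u519)) (.leaf u263)) (.node (.node (.leaf u135) (.leaf u647)) (.leaf u391))) (.node (.node (.node (.leaf u71) (.leaf u583)) (.leaf u327)) (.node (.leaf u199) (.leaf u455)))) (.node (.node (.node (.node (.leaf u39) (.leaf u551)) (.leaf u295)) (.node (.node (.leaf u167) (.leaf u679)) (.leaf u423))) (.node (.node (.node (.leaf u103) (.leaf u615)) (.leaf u359)) (.node (.leaf u231) (.leaf u487))))) (.node (.node (.node (.node (.node (.leaf u23) (.leaf u535)) (.leaf u279)) (.node (.node (.leaf u151) (.leaf u663)) (.leaf u407))) (.node (.node (.node (.leaf u87) (.leaf u599)) (.leaf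 u343)) (.node (.leaf u215) (.leaf u471)))) (.node (.node (.node (.node (.leaf u55) (.leaf u567)) (.leaf u311)) (.node (.node (.leaf u183) (.leaf u695)) (.leaf u439))) (.node (.node (.node (.leaf u119) (.leaf u631)) (.leaf u375)) (.node (.leaf u247) (.leaf u503)))))) (.node (.node (.node (.node (.node (.node (.leaf u15) (.leaf u527)) (.leaf u271)) (.node (.node (.leaf u143) (.leaf u655)) (.leaf u399))) (.node (.node (.node (.leaf u79) (.leaf u591)) (.leaf u335)) (.node (.leaf u207) (.leaf u463)))) (.node (.node (.node (.node (.leaf u47) (.leaf u559)) (.leaf u303)) (.node (.node (.leaf u175) (.leaf u687)) (.leaf u431))) (.node (.node (.node (.leaf u111) (.leaf u623)) (.leaf u367)) (.node (.leaf u239) (.leaf u495))))) (.node (.node (.node (.node (.node (.leaf u31) (.leaf u543)) (.leaf u287)) (.node (.node (.leaf u159) (.leaf u671)) (.leaf u415))) (.node (.node (.node (.leaf u95) (.leaf u607)) (.leaf u351)) (.node (.leaf u223) (.leaf u479)))) (.node (.node (.node (.node (.leaf u63) (.leaf u575)) (.leaf u319)) (.node (.leaf u191) (.leaf u447))) (.node (.node (.node (.leaf u127) (.leaf u639)) (.leaf u383)) (.node (.leaf u255) (.leaf u511))))))))))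
noncomputable def hs : Lv := ⟨0, [], [], 0x149011e00810038028a007d0019003800050008002b00000000007b0015001100c6000700150085000000210023000700920005001600740022000500030154018c003b0006000000030020007a00010026000300050000015500710000000300a5001f0005000f001200a500000083005e001a000700250019007c00000007000000420043000000f8001b003f01cf001d001700030005000d000d007b006c00000011000200000009003e00020030001100ba000200000060000900350013000d003e000700010001001b001b00000003008400090000000700070001002c0007002600010000000700010001003700060003000a0000002a000600000000001c00030008000000000003002e001a001f006a001d000200020000000b00830003000a00510000001f0028001a0004000f00000000001f000300090011000000290006000800160000000a00230004001800010009001e001b00050010000100010000002c0007000000060001000f0000000800000012003700000000007a008200000002000000000003000000000004000200050014000300050010000e0010000e006600700011002e0000000b000000000002000f0005000200000011001600020000000000070005000b0016005400020001000000130016002c0017000c000b0001000100000000001000180000000700040000000b000000230001000b0000000700080000, 872589750, 261, 702⟩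
noncomputable def L0 : List ℕ := [EO73G.a1, EO73G.a1i, EO73G.a0, EO73G.a0i]
theorem g0 : ptsChk (O73M.C).mul (O73M.C).one (nthD L0 (O73M.C).one) UU.get hs.hsh π [0,2] 702 0 702 = true := by decide +kernel
theorem f0 : famChk C.mul (nthD tab C.one) T π [0,2] 702 0 702 = true := by decide +kernel
noncomputable def X : ℕ := 0x100020000000200010000000100000002000200000002000100020000000000000001000100000000000000010000000200000002000200010000000000000000000200000000000100000000000000000000000100010002000200000000000000000000000000000000000000000002000100000000000000000002
noncomputable def Bi : ℕ := 0x20002000000020001000000000002000000010001000000010000000000020001000200000001000100000000000000000001000200020002000200010000000200010001000100010002000000010001000200020001000000010002000100020001000000010002000000000002000200010000000200010000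
theorem nor : norChk C.mul C.add C.one T 702 Z [(0, 298, 0), (0, 60, 0), (0, 583, 0), (0, 279, 0), (0, 561, 0), (0, 535, 0), (1, 0, 4), (2, 0, 6), (1, 0, 2), (2, 0, 0), (1, 0, 2), (2, 1, 7), (1, 0, 9), (2, 0, 0), (1, 1, 10), (2, 0, 8), (1, 1, 1), (2, 0, 12)] 0x20001000200000000000100000001 X
  [(0x200000000000000000000000000000000000000000000000000000000000000000000000000000000000000000000000000000000000000000000000000000000000000000000000000000000000000000000000000000000000000000000000000000000000000000000000000000000, 0)] (fun i => Nat.shiftLeft 1 (Nat.mul 128 i))
  [(0, 17), (1, 16), (2, 15), (3, 14), (4, 13), (5, 12), (5, 16)] Bi = true := by decide +kernel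
theorem act : ActOn (Cfsg.Omega (ZMod 3) (Cfsg.quadFormOdd 3 (ZMod 3))) [0,2] π 702 :=
  actOn_of_rows (O73M.can) (L := L0) (S := [0,2]) EO73G.good0 (EO73L.gen) ((Cov.zero _).step g0)
noncomputable def d1 : ℕ := 0x2000200020001000000000000000000010002000100010001000100010000000200020002000000020001000100010001000200000000000000010000000200020000000100000000000100020000000000010002000000010001000000000002000100010001000200010000000200010001000200010000000100020001
noncomputable def d2 : ℕ := one
theorem base : baseChk C.mul C.one C.ent tab 4 4 2 1 [0,0,0,0] [0] = true := by decide +kernel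
theorem main : HasU (Cfsg.Omega (ZMod 3) (Cfsg.quadFormOdd 3 (ZMod 3))) (Multiplicative (ZMod 2 × ZMod 1)) :=
  haveI := O73M.simple
  haveI : Finite (Cfsg.Omega (ZMod 3) (Cfsg.quadFormOdd 3 (ZMod 3))) := Nat.finite_of_card_ne_zero (by rw [O73M.card]; norm_num)
  hasU_of_fam C act base ((Cov.zero _).step f0) (by decide +kernel) nor
    (x := [2]) (y := [0]) (x' := []) (y' := []) (d := d1) (m := 7) (d' := d2) (m' := 0)
    (by decide) (by decide +kernel) (by decide +kernel)
end H65.EO73C
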