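import Cfsg.Agent.H65.S62M
set_option maxRecDepth 1000000
set_option Elab.async false
namespace H65.ES62G
open H71 H81
noncomputable def a0 : ℕ := 0x810204089
noncomputable def a0i : ℕ := a0
noncomputable def a1 : ℕ := 0x1c3067cd8
noncomputable def a1i : ℕ := 0x936df0608
theorem good0 : GoodM (S62M.C) (MW.spM S62M.e) ⊤ [ES62G.a1, ES62G.a1i, ES62G.a0, ES62G.a0i] :=
  MW.good_sp S62M.e S62M.hs (MW.good_sp S62M.e S62M.hs (GoodM.nil) 34630549633 (by decide +kernel)) 6493195710 (by decide +kernel)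
noncomputable def c2 : ℕ := 0x1c3667cc1
noncomputable def c2i : ℕ := 0x936ff0441
noncomputable def L2 : List ℕ := c2 :: c2i :: [ES62G.a1, ES62G.a1i, ES62G.a0, ES62G.a0i]
theorem gd2 : GoodM (S62M.C) (MW.spM S62M.e) ⊤ L2 :=
  GoodM.word good0 [3,1,3,0,0] (by decide +kernel)
noncomputable def c3 : ℕ := 0x5e7ff3d41
noncomputable def c3i : ℕ := c3
noncomputable def L3 : List ℕ := c3 :: c3i :: L2
theorem gd3 : GoodM (S62M.C) (MW.spM S62M.e) ⊤ L3 :=
  GoodM.word gd2 [2,4,3] (by decide +kernel)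
noncomputable def c4 : ℕ := 0x810244081
noncomputable def c4i : ℕ := c4
noncomputable def L4 : List ℕ := c4 :: c4i :: L3
theorem gd4 : GoodM (S62M.C) (MW.spM S62M.e) ⊤ L4 :=
  GoodM.word gd3 [5,7,4] (by decide +kernel)
noncomputable def c5 : ℕ := 0x9d73c4081
noncomputable def c5i : ℕ := c5
noncomputable def L5 : List ℕ := c5 :: c5i :: L4
theorem gd5 : GoodM (S62M.C) (MW.spM S62M.e) ⊤ L5 :=
  GoodM.word gd4 [9,6,9,6,9,6,9,7,9,7,8,7,8] (by decide +kernel)
noncomputable def c6 : ℕ := 0x936230981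
noncomputable def c6i : ℕ := 0x592236881
noncomputable def L6 : List ℕ := c6 :: c6i :: L5
theorem gd6 : GoodM (S62M.C) (MW.spM S62M.e) ⊤ L6 :=
  GoodM.word gd5 [7,3,4,3] (by decide +kernel)
noncomputable def c7 : ℕ := 0x810224081
noncomputable def c7i : ℕ := c7
noncomputable def L7 : List ℕ := c7 :: c7i :: L6
theorem gd7 : GoodM (S62M.C) (MW.spM S62M.e) ⊤ L7 :=
  GoodM.word gd6 [8,2,9] (by decide +kernel)
noncomputable def c8 : ℕ := 0x434216101
noncomputable def c8i : ℕ := 0xca0202981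
noncomputable def L8 : List ℕ := c8 :: c8i :: L7
theorem gd8 : GoodM (S62M.C) (MW.spM S62M.e) ⊤ L8 :=
  GoodM.word gd7 [2,1,3,3,1] (by decide +kernel)
noncomputable def c9 : ℕ := 0x110220081
noncomputable def c9i : ℕ := c9
noncomputable def L9 : List ℕ := c9 :: c9i :: L8
theorem gd9 : GoodM (S62M.C) (MW.spM S62M.e) ⊤ L9 :=
  GoodM.word gd8 [5,2,4] (by decide +kernel)
noncomputable def c10 : ℕ := 0xd16204401
noncomputable def c10i : ℕ := 0x982204581
noncomputable def L10 : List ℕ := c10 :: c10i :: L9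
theorem gd10 : GoodM (S62M.C) (MW.spM S62M.e) ⊤ L10 :=
  GoodM.word gd9 [2,1,2,0] (by decide +kernel)
noncomputable def c11 : ℕ := 0x996204081
noncomputable def c11i : ℕ := c11
noncomputable def L11 : List ℕ := c11 :: c11i :: L10
theorem gd11 : GoodM (S62M.C) (MW.spM S62M.e) ⊤ L11 :=
  GoodM.word gd10 [5,3,4] (by decide +kernel)
theorem good : GoodM (S62M.C) (MW.spM S62M.e) ⊤ [ES62G.c11, ES62G.c11i, ES62G.c10, ES62G.c10i, ES62G.c9, ES62G.c9i, ES62G.c8, ES62G.c8i, ES62G.c7, ES62G.c7i, ES62G.c6, ES62G.c6i, ES62G.c5, ES62G.c5i, ES62G.c4, ES62G.c4i, ES62G.c3, ES62G.c3i, ES62G.c2, ES62G.c2i, ES62G.a1, ES62G.a1i, ES62G.a0, ES62G.a0i] := gd11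
end H65.ES62G
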