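import Cfsg.Agent.H81.Fam
import Cfsg.Agent.H65.ES62G
import Cfsg.Agent.H65.ES62L
set_option maxRecDepth 1000000
set_option Elab.async false
namespace H65.ES62C
open H71 H81
noncomputable def CM : ℕ := 7 * geo 128 8
noncomputable def RM : ℕ := 7 * geo 16 8
noncomputable def E : ℕ := geo 128 8 * geo 16 8
noncomputable def M1 : ℕ := 63 * E
noncomputable def M2 : ℕ := 1 * E
noncomputable def MB : ℕ := 7 * E
noncomputable def one : ℕ := geo 144 8
noncomputable def C : CdA (Matrix (Fin 8) (Fin 8) (ZMod 7)) :=
  cdaP 8 7 7 146 10 7 4682 15 CM RM M1 M2 one MB (by decide +kernel) (by decide +kernel)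
noncomputable def m1 : ℕ := 0x4000400010003000100030005000100050001000300030006000400030001000300060001000200060003000300040003000600060003000400050004000100050004000500020003000000020003000500040004000500050002000000040002000400030000000400020002000200000005000300050003000500020004
noncomputable def m1i : ℕ := 0x4000500030003000500050002000000040001000600060004000400040005000100030001000600050004000300030003000300020003000200050000000500010006000600040003000500040003000300040003000500000002000200050005000300030004000200000002000200010001000400010003000400020004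
noncomputable def m0 : ℕ := 0x20000000000020000000000000000000000020002000000000000000500000000000000000000000000020000000500000000000000000002000000000005000000000000000000050000000500000000000000000000000000050000000000000005000200000000000000000000000500000000000200000000
noncomputable def m0i : ℕ := 0x50000000000050000000000000000000000050005000000000000000200000000000000000000000000050000000200000000000000000005000000000002000000000000000000020000000200000000000000000000000000020000000000000002000500000000000000000000000200000000000500000000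
noncomputable def y : ℕ := 0x6000000000000000000000000000000000006000000000000000000000000000000000006000000000000000000000000000000000006000000000000000000000000000000000006000000000000000000000000000000000006000000000000000000000000000000000006000000000000000000000000000000000006
noncomputable def z : ℕ := one
noncomputable def tab : List ℕ := [m1, m1i, m0, m0i, y, z]
noncomputable def Ps : List ℕ := [0x27a011a007400fe0114010c003401d500aa025a00ca015600ef01c1025f000801bc0041000f00d301ed01bb01da01de007f0043019c023c010200bb0186020b0246022a00500010013600a901f902620072012800eb01d8023d022300ea02000271006d00bf0143017d00e70117002b0218021600800006014f004802350288024c00cc0035016f001101f201ba00cd023f0255003b01e70142022200850071011b00f10092010d01a80287007500a801c7008d009c0028012f00f70135020c029d00e90215016802960267012d0286005701c600a200af01820290023600270276005c0257029b020d01950268007a01c800f500670046021d01b10144008c024e01e4017c0122022901250254010e00780297021b0203010b01be00a70073006300d90097024500b9017e026e023a003c000c029a021201e000960021005f01ee0237016a00b2006401f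000150105026f029902830289018400d5011e0134018d023800ab016e01bf029f00de013e015d009001ea00ae02240029001900dc00c300d6015801a701bd001301d00066010401e200ed0137015700e4026b0202014800300024002d017a006801f5024d004701b00040001c013d02770191001a009300fb017f017801cc008f00030197025801c20231026d004501db00ce015e00bd0051006e011501b801ae00f402840111012401730088006b0032012c019f0014021f0018021000ff00b10103020e021a029e024f01ec01c900ec01dc0239019a004c01b70249011d01cb00c7018701f6016b01670209015a018001a001c3024401c5018800790131019400be01d300b00089026c01b30130028000a1005a0204010a015b01ab015c01590005015301ca0016011601d2000d022800c0004400e50179028b0295002f00f901cf01ff003901e901d4017b00cf022600b600a3009d00d101e601b5025600db003e024800530294006f0001027e023000c801fd002c0205006c013a018100d201d601d701e8029101a301fa01f8027500e60285016002170213011300e800fd00d000d8028e0138021e01e500c2020f024701b20139014901fe003700b401fc0233019e01dd0098012a003a011200e100b3027f00a500c6010600d70108026a0100017400b8017601e1008b028f01fb004201b4000e02530265000a002e01c00192018300c5005e0278019602070185022f01070146019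b00b70083003d02790141022e018a013b01aa007d0070026402660036008101010023026300f8007c0234011801550052021c01a2027300cb00c4010900860060002601a9007e00f000120172007b014e01b90208004b0055019901f7018e014c016300990095000000200281010f0065024a01750211025e0091009b01a4016c0132008400bc01a101c4004a0292013c01710298016d015000a4023202520002025d00e20022001702190165008e006a009e000402600282004e029c00fc0242017001a5012b0177027b0250019d002501510240014a01f4003f0274022d013f0133015200dd01f10145009a014701ef018c00b50220015f0198009f01ce012e01af005901d90241005d027c007601ac022c025b023b018f00da001e006200f20033012600870009003100d400a00038012301270201004901b6014b01d1027001cd01290054014001eb006100e002590190011f0269029301660189002a020600df00f3000b025100c101ad005800fa0214004f0069022101190272001f028d0082001b028c00ad02430169014d0225024b004d020a00ee005b023e026100e3009401a600a6012101640077005601df01610154028a0110019300f6025c008a01f3016200ba000700c9018b01e300ac0120001d022b0227011c027d, 0, 0x2530226003401da00790088029900c60031010502680240020c0087017f02840219011d0192012d0112020500da007602870072007e02900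0700046018c00ec0077003e010c027c027b027701c901e1027a0276013402120103012102440270019f01bc026d01e2026b026a02690295025c024c0139004f0062010701b8010a0239025e00a80267010e025a015e02580185025601e6003f029f019a01330250008200ed00c302660233024a0013014c004a0124022c0271005c004c00d902940049005200440059023b01a4025f0238023700c802350051024b023200ee0230015c022d022e024501cc00d5022901260227029e005e020a01750172022100b700f0021e021d00c900840039028f02180135021601a20074008502740211007c020f0090020d0293006c022401c80157008e0075028a0035020301480201020001ff01fe01fd0094009d01b501ec00040005009a01f500c501f3013e00b601f0000e015901ed01f901eb01ea014901e500b1025501e801910180026c027801e00081005d0026006301db029c01c201ac010801d600f401d400780142018f01600099014d005f022b001500560279020901c7002a013201c4006901d900bf0071014001be01b2026e006101ba00ba0261011901b601fa011a01b301bd00b801670197001f01ad01d8012e012901370008011701a601a5023a00c4021500230138026f0014019d006a019b02520199019801af0019018d01940053028d01e4011801d1018e01950281018b004200fa013100e6013c02570058018300b9018101e30291017e0178017c00d1017a00df017d0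1530073022301740115022200fd017000b40156016d0007010101610010016801b0016600cf012f008a0152016a01d0015f02590089022f015b015a01ee01580208016e0155015401770162011100bb0130008d01ce0248014b00cd01e9020201470146014500cb014301d2014101bf013f01f200540186006b013a026501a001a9013602170275025101c50188014f016401ab028c0060012b000601aa0128012502280127024600d80097027200f8011f00e8028e011c011b01b401b7019001a70116017300a40113028b0151011000d2025b006e027d00db026000fe01d70262002002960055027300e0016b0100004b01090171004300fb018900f2012000f700f600f501d500f300f90091021f00ef0231024e0280006400ea00ad011e001e018700e500cc004e0080005b0102017900de002f00dc010b0289024101230037000c022a00d400b2010f017b00a601650033014a00e4014400ca021c023600c7029801f401a3024d00c2008300c001c100be000900bc015001b9018201b1022001f1004d016f00b300d301e700b0005a00ae00e900ac0028001b00a9025d002b00d000a50114006f001700a1000a009f009e01fb009c001a01f601cf009801220096009501fc007f009200f1020e008f0207014e008c008b0163015d029a0292007b0213021b00c1024f01df00e200930285007d02100086007a029b01d3027f0288020602140176028601c0028300a3010d006d020b013b019c01c3001100670066006500eb01dc026301bb012c01cd022501de024300e100af023c0184005701ca0104013d0193023e02340050026400e300b5024200ff0247023f000f004702820045023d00fc018a001800400254027e003d003c003b0038021a003a00d700010204029d00ce00320297003000dd0029002c002d00a701c6002e00ab002701dd0025002401a100220021010601ae00e7001d001c00aa009b0196004100a2001601cb019e0249001200680169004801ef000d00d6000300a000bd01a8016c012a01f701f8000b000200360000]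
noncomputable def π (l x : ℕ) : ℕ := Nat.land (Nat.shiftRight (nthD Ps 0 l) (Nat.shiftLeft x 4)) 65535
noncomputable def Z : List ℕ := [one]
noncomputable def sprd (x : ℕ) (L : List (ℕ × ℕ)) : ℕ :=
  List.rec (motive := fun _ => ℕ) x (fun q _ y => Nat.lor (Nat.xor y (Nat.land y q.1)) (Nat.shiftLeft (Nat.land y q.1) q.2)) L
noncomputable def sa0 : ℕ := (2 ^ 3 - 1) * 2 ^ 3 * geo 32 32
noncomputable def sa1 : ℕ := (2 ^ 6 - 1) * 2 ^ 6 * geo 64 16
noncomputable def sa2 : ℕ := (2 ^ 12 - 1) * 2 ^ 12 * geo 128 8
noncomputable def sa3 : ℕ := (2 ^ 24 - 1) * 2 ^ 24 * geo 256 4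
noncomputable def sa4 : ℕ := (2 ^ 48 - 1) * 2 ^ 48 * geo 512 2
noncomputable def sa5 : ℕ := (2 ^ 96 - 1) * 2 ^ 96 * geo 1024 1
noncomputable def sa : List (ℕ × ℕ) := [(sa0, 13), (sa1, 26), (sa2, 52), (sa3, 104), (sa4, 208), (sa5, 416)]
noncomputable def t0 : ℕ := 0xc6c158d8250443422575e190170d2b4c178281d4310d0976
noncomputable def t1 : ℕ := 0xc180c31848188301030c68200c3c188181841038308200c6
noncomputable def t2 : ℕ := 0xcc101998c0081b0643cc6220026d0103078c9831b0c20cc6
noncomputable def t3 : ℕ := 0xd307507814252344c219e16b968c60422d83ac26310ac136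
noncomputable def t4 : ℕ := 0xd0609a7b0b1007474221ea2b0a2c43ad0d98942131a2c836
noncomputable def t5 : ℕ := 0xca80ccb85cc3435619096660064d68906585c234327300ae
noncomputable def t6 : ℕ := 0xc2c63518a0ec5b488075e58081dc291291a22804f34c0d66
noncomputable def t7 : ℕ := 0xc71189d89c0e3b1c41db624804ec49236d8ed86db1c70c76
noncomputable def t8 : ℕ := 0xcc2886994a301760ddace610684d85a203ac0650b32104e6
noncomputable def t9 : ℕ := 0xd0001b78001c033700026900023cc001b9809000348c001e
noncomputable def t10 : ℕ := 0xc1480d18d12bbb468069e440625c110ee1a5c80af3500ca6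
noncomputable def t11 : ℕ := 0xc080cb19e806d33c000668400cbc308061a1c002f484019e
noncomputable def t12 : ℕ := 0xc036031a01180f0120806803803c040d8198118130804606
noncomputable def t13 : ℕ := 0xd4b1105832c2c3541b9160b01a8c9c705b81a218321607ae
noncomputable def t14 : ℕ := 0xd857433ab4180b31a2526c28941cc240899311a176828b0e
noncomputable def t15 : ℕ := 0xc330c8181826234cc099e0400c8c0c826186cc0c33040666
noncomputable def t16 : ℕ := 0xcc102198b0081b0843d0622001ed0103078b7831b0c20d06
noncomputable def t17 : ℕ := 0xca89a0b85626435cc409610c708d682235856c643205b0ae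
noncomputable def t18 : ℕ := 0xcb40e8b84d05232a246ee148050d638c258641e635098856
noncomputable def t19 : ℕ := 0xda404038021b63610660e0f0180da3c1c38010163610880e
noncomputable def t20 : ℕ := 0xc0b0d519e812d305588464830edc1e8151b4b608705442c6
noncomputable def t21 : ℕ := 0xcf0690981a1d2335051a61538a8da0a1a383b0563609410e
noncomputable def t22 : ℕ := 0xc711b6d89c313b1381db6d88071c49209d8e246db13b0c76
noncomputable def t23 : ℕ := 0xd230007a40006f30008e6000000ce400099c0007340006de
noncomputable def t24 : ℕ := 0xd33030781019230304986198030ccc019986304c30198646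
noncomputable def t25 : ℕ := 0xd060a27b0ad007494221ea2c09ac43b10d98742131a2b836
noncomputable def t26 : ℕ := 0xd501a3582706a32c2416e90810bc902c3b8261ea35858156
noncomputable def t27 : ℕ := 0xc53160d85503a34c2589e050148d144c678561da311106b6
noncomputable def t28 : ℕ := 0xd060267b3030070984306c18019cc60089b3644070218306
noncomputable def t29 : ℕ := 0xc820e1ba8d200b5844a1680b05bd458f05906c6172c1c42e
noncomputable def t30 : ℕ := 0xd421a35a86f00b28c1a2ec24119c85320b90643175833416
noncomputable def t31 : ℕ := 0xcd41709854c1a3681d68e0d0158d93504385225a331908a6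
noncomputable def t32 : ℕ := 0xc60044d98204731006036730184c60c03da00016f16c8036
noncomputable def t33 : ℕ := 0xd458c1590c2417205c42e908643c82833ba80e60b5cd8a16
noncomputable def t34 : ℕ := 0xc4e1b6db6c31c71381276d88071c76209db12462713b03b6
noncomputable def t35 : ℕ := 0xd98968384422836ac20ce0ac750cc84259864c2c3316b066
noncomputable def t36 : ℕ := 0xc210ed18b8157b0b60d065440d5c348121a15582f0483786
noncomputable def t37 : ℕ := 0xc4e071db6209c712462763b01b6c76c31db1381271d883b6
noncomputable def t38 : ℕ := 0xd8294439342017305ab26228746cc54309ab0e20b662850e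
noncomputable def t39 : ℕ := 0xc010e618c8301b3980ce6c000d9c0180818c6401b4200cde
noncomputable def t40 : ℕ := 0xc031201a06040f0804806118118c046031986041300d8606
noncomputable def t41 : ℕ := 0xc2c83518a12c5b388076658061dc290e91a22804f44c0d5e
noncomputable def t42 : ℕ := 0xc298221a21164f4d40d5eb0060ac2c0d318a7405b3a40766
noncomputable def t43 : ℕ := 0xd008c078090003301b0260236c0cc08c098002303402401e
noncomputable def t44 : ℕ := 0xc080cc1a6806cf3c000666400ccc30806199c0033464019e
noncomputable def t45 : ℕ := 0xd3095078141d23450219e16c768c6041ad83b026310ab136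
noncomputable def t46 : ℕ := 0xd019427884131b415dc1ead0742c44414da01650f1b10636
noncomputable def t47 : ℕ := 0xdb60713b120927624638e3b01b6d8ec313b6381c76d8824e
noncomputable def t48 : ℕ := 0xc330ed199815330b609865440d5c268121b3558670483306
noncomputable def t49 : ℕ := 0xcc86a8986a22c33ac5066093890d98a253844c58361540ce
noncomputable def t50 : ℕ := 0xc1e0c61b083487418021ed000c1c1e80b1b00408732c0226
noncomputable def t51 : ℕ := 0xc048031a00e00f00d8606804603c031201980e0130803806
noncomputable def t52 : ℕ := 0xc206181841046306200c6103820c200c31848186300c40c6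
noncomputable def t53 : ℕ := 0xc120f31aa819ab09a0b46cc40d9c1580c192318b70983546
noncomputable def t54 : ℕ := 0xc180c41848208300c30c66200c4c188201840c38306200c6
noncomputable def t55 : ℕ := 0xccc008986026c30cc3646060008d33026781cc3230060986
noncomputable def t56 : ℕ := 0xc58044d982039310060366f0184c58c04da00018f1708036
noncomputable def t57 : ℕ := 0xd00900780700033023026024700cc06c098001b03402301e
noncomputable def t58 : ℕ := 0xca87a0b8561e435d0409610b908d6821b58570643205c0ae
noncomputable def t59 : ℕ := 0xdb604e3b1236276d8638ec70189d8ec0e3b6c41c7624824e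
noncomputable def t60 : ℕ := 0xc50698d9da04b3420209e1ab8b0d10a017a5802af10ec0b6
noncomputable def t61 : ℕ := 0xcf202b994032370ae0ac6c84011d250257ae4586b0943446
noncomputable def t62 : ℕ := 0xc041181986031306046060d8120c036041a08040f0118806
noncomputable def t63 : ℕ := 0xcc615a9b04d0073745226a14162d83510398945136a1380e
noncomputable def t64 : ℕ := 0xda876039a403533c05166053948ce84069a26054f611414e
noncomputable def t65 : ℕ := 0xcc81549864c5c3341a06676816cd98502384a228366a80ce
noncomputable def t66 : ℕ := 0xcc002398001b03490001e8c001bd0001c780700033900026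
noncomputable def t67 : ℕ := 0xc2e82519a12e533c8036650060dc2b0eb1b268047444095e
noncomputable def t68 : ℕ := 0xda0184398c0473600100e708044da02033a00066f66f000e
noncomputable def t69 : ℕ := 0xd0102178b0081b0844d0621801ecc103098b7841b0c18d06
noncomputable def t70 : ℕ := 0xc1560b1920deb70784546d18821c1210b1aad04ab0858b46
noncomputable def t71 : ℕ := 0xc060e11b48080738402e62000dec068301b4780074c002de
noncomputable def t72 : ℕ := 0xc6016bd834c2631a1a1368a8153d3050578142223496819e
noncomputable def t73 : ℕ := 0xc88728ba3205cf2a0312e173990d586025994019350a4196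
noncomputable def t74 : ℕ := 0xc1a62e1910da973b80ba6680814c0d10d1ab500cb434051e
noncomputable def t75 : ℕ := 0xcec00a98a0135b0758746a43022d290167a2d604f0b04d46
noncomputable def t76 : ℕ := 0xd0c008786026c30cc4646058008cf3026981cc4230058986
noncomputable def t77 : ℕ := 0xd611055a02d06f5146c1641c185ca4710b881447b240b62e
noncomputable def t78 : ℕ := 0xcc08c098090003402401e01c6c0d008c078001c03301b026
noncomputable def t79 : ℕ := 0xcc56819aca080b61254ce810883d82a1839419d173c10ae6
noncomputable def t80 : ℕ := 0xd2877079a4015318051760d3958c68404da22054f419415e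
noncomputable def t81 : ℕ := 0xc3410818161e233d007a6040108c0b61e186d00c3404085e
noncomputable def t82 : ℕ := 0xc0c0f0186819c3430065e1800f0c338191813002331809a6
noncomputable def t83 : ℕ := 0xc9c042b889289b208362ea330c2d59ce85a00818f5a24c16
noncomputable def t84 : ℕ := 0xcc2686993a301760e5b0e610884d85a203ab05d0b3210526
noncomputable def t85 : ℕ := 0xc9e0c2b98d2893208122ea23042d5b8e85b0083875a34816
noncomputable def t86 : ℕ := 0xc03118198604130603806120120c046031a08030f00e0606
noncomputable def t87 : ℕ := 0xc71071d892093b1246db63b01b6c49c31d8e381db1d88c76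
noncomputable def t88 : ℕ := 0xc2d0cc1958265706604863040e6c2a8331adcd84b0643a86
noncomputable def t89 : ℕ := 0xc150e6192833b70cd85466430ccc128261aa660ab0304b46
noncomputable def t90 : ℕ := 0xd800643a42000f68060ce63019cd80c0039c6011366080ce
noncomputable def t91 : ℕ := 0xcdd1469a85308b60c240e62b144d9a4e039004297322ca26
noncomputable def t92 : ℕ := 0xcc07009806c003301c02601b900d0070078002403401c01e
noncomputable def t93 : ℕ := 0xc226161960dd774580a5e74082cc3510a1acb002b32804e6
noncomputable def t94 : ℕ := 0xc82906ba821c0b519ba16730784d4560b5901211722e042e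
noncomputable def t95 : ℕ := 0xc186181840c48306200c6104820c181031848188300c30c6
noncomputable def t96 : ℕ := 0xd6085059e80273540605609c6e8cb0c05ba4a042f214b0ee
noncomputable def t97 : ℕ := 0xc046031980e01300d8606803803c031201a00e00f0804806
noncomputable def t98 : ℕ := 0xc296221a20d64f3d40d66b0080ac2c11318a7405b4a4075e
noncomputable def t99 : ℕ := 0xd831a0383c1803690190e008058d8421838370603603070e
noncomputable def t100 : ℕ := 0xc1460d18d0ebbb36806a6440825c1112e1a5c80af4500c9e
noncomputable def t101 : ℕ := 0xce10069880347b0184c06d18001d2100b7880447b02d8c06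
noncomputable def t102 : ℕ := 0xcc06c09808c003302402601c8c0d0090078001c03401b01e
noncomputable def t103 : ℕ := 0xc0b11519e612d3056084648412dc1e6151b4b588705432c6
noncomputable def t104 : ℕ := 0xc58043da02038f10060368f0183c58c04d98001931908036
noncomputable def t105 : ℕ := 0xd6810b5852c343261e0ae8581a3ca8706b85c24435908096
noncomputable def t106 : ℕ := 0xc990c5ba0cd08f2141c2e424045d5c9105881439b5433616
noncomputable def t107 : ℕ := 0xc038031980e01300d8806804603c041201a00e00f0803606
noncomputable def t108 : ℕ := 0xc048041a00d80f0118606604604c03118198120130603806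
noncomputable def t109 : ℕ := 0xc84985b8c6101b215c6ee408705d412105a41660f5418cd6
noncomputable def t110 : ℕ := 0xd66102598328735086216a1b182ca36e8bb0084672a0c82e
noncomputable def t111 : ℕ := 0xc300f31998013332001a69800f3c088011a6200cf498005e
noncomputable def t112 : ℕ := 0xc90708b82223a356c615605b9a0d50626582cc4a3210c16e
noncomputable def t113 : ℕ := 0xd83198384c180367018ce008060d842183849060360306ce
noncomputable def t114 : ℕ := 0xc588a8d84a1a831b050f6094690d08a1d786505c3415305e
noncomputable def t115 : ℕ := 0xd1094879d406b316050b6114760c50403da5c05af405309e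
noncomputable def t116 : ℕ := 0xd82744394420173062ae6228946cc54309ac0da0b66284ce
noncomputable def t117 : ℕ := 0xc1d8291a91228b3a405a6880613c0a0f51934c0d74d40b1e
noncomputable def t118 : ℕ := 0xc188201840c48308180c6104618c181031846208300c30c6
noncomputable def t119 : ℕ := 0xc121331aa619ab0998b46cc3119c1560c192320b70984546
noncomputable def t120 : ℕ := 0xcc803499e001d30204046798034d300017a12042f0798186
noncomputable def t121 : ℕ := 0xc206201830c36308201060c4818c20104183618630103106
noncomputable def t122 : ℕ := 0xc180c41838188301041066180c4c18818183104830618106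
noncomputable def t123 : ℕ := 0xcf30309810192303039861a0030d0c019786303c301a0646
noncomputable def t124 : ℕ := 0xd981833a0c038f600100e8c8043d9820439800693693000e
noncomputable def t125 : ℕ := 0xd190067880339b0183c06ce0001cd900c9880439b0320c06
noncomputable def t126 : ℕ := 0xcdb00099c0009330008e6000000d1c0007a40008f40006de
noncomputable def t127 : ℕ := 0xc060d91b38080736403262000e6c068301b3980074c0031e
noncomputable def t128 : ℕ := 0xd50133582304a3282616e99819bc906c1b8221ca358c8156
noncomputable def t129 : ℕ := 0xd260017b000c670043206320006ce60339b0183670ce0206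
noncomputable def t130 : ℕ := 0xd0876878641ac34b0205e0ab950c5841dd8450283116c0f6
noncomputable def t131 : ℕ := 0xc036041a00d80f0118806603804c04118198120130604606
noncomputable def t132 : ℕ := 0xcc60269b3030070983306c20019d060087b3643070220306
noncomputable def t133 : ℕ := 0xc1e82d1b4115870b432c6560615c0b0d219e543d304a0846
noncomputable def t134 : ℕ := 0xda00ac383ac2636a1d10e690094cf0b059814252337501a6
noncomputable def t135 : ℕ := 0xc201041836206300c4106618104c206201830c4630618106
noncomputable def t136 : ℕ := 0xc046041981201300e0606603804c030e01a00d80f0604806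
noncomputable def t137 : ℕ := 0xc0b130186621c332c0866180130c346211812c023418079e
noncomputable def t138 : ℕ := 0xc048041a01200f00e0606604604c030e01980d8130603806
noncomputable def t139 : ℕ := 0xd008c078090003401c01e01b6c0cc08c098002403301c026
noncomputable def t140 : ℕ := 0xc200c31848206300c40c68180c3c208201840c46308180c6
noncomputable def t141 : ℕ := 0xc348151a11122f054478649862dc210d518bb447b0558d06
noncomputable def t142 : ℕ := 0xc2a0d91ad80c4b0318a869830f3c2d8191959a0570cc4486
noncomputable def t143 : ℕ := 0xc061191b360807464031e200126c066301b3980073c00326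
noncomputable def t144 : ℕ := 0xd8e0763b6231c7638624edb01b1db6c093b124127638838e
noncomputable def t145 : ℕ := 0xd9095839d404b332050a6194770cd04019a5805af60d308e
noncomputable def t146 : ℕ := 0xc2181218b12a7b0483d06aa062ac340ed1a1a832f0b60786
noncomputable def t147 : ℕ := 0xcde0019b000b8700442062d8006d1e0347b0184870d18206
noncomputable def t148 : ℕ := 0xd0b00878601ec30d04846058008cf401e981d04230058786
noncomputable def t149 : ℕ := 0xcec14898250643662574e110160dab4c3382c1d433050966
noncomputable def t150 : ℕ := 0xc266151b30d26705433064a082dc33115199b43330560986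
noncomputable def t151 : ℕ := 0xd8005b39b20013660610e8301a3d80c003a38010f680810e
noncomputable def t152 : ℕ := 0xc761b1db1c092712413b6388076c4e231db6386c71db0276
noncomputable def t153 : ℕ := 0xd340307810212302c4786198030ccb0219862c4c30198846
noncomputable def t154 : ℕ := 0xc046041a01180f0120606603804c030d8198118130604806
noncomputable def t155 : ℕ := 0xc44058d842200316c66f60301a0c43c20d848c10310088f6
noncomputable def t156 : ℕ := 0xd006c07808c003402401e01c8c0cc090098001c03301b026
noncomputable def t157 : ℕ := 0xcc08c09809000330230260246c0d008c078001b03402301e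
noncomputable def t158 : ℕ := 0xca4042b888e87b208362ea340c2d61d285a00816f5a23c16
noncomputable def t159 : ℕ := 0xd007007806c003402301e024900cc070098001b033023026
noncomputable def t160 : ℕ := 0xcc1882988a141b315ac26b28682d84a133a01620f6ae860e
noncomputable def t161 : ℕ := 0xc261061b0633673180226cc0101c2660c1b004067430021e
noncomputable def t162 : ℕ := 0xc208201840c36308180c60c4618c201041846206301030c6
noncomputable def t163 : ℕ := 0xda07503834256364c210e16b968cf0422981ac22330ac1a6
noncomputable def t164 : ℕ := 0xccb00898601ec30d03846060008d3401e781d03230060786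
noncomputable def t165 : ℕ := 0xc1d6291a90e28b4a4059e880813c0a1351934c0d73d40b26
noncomputable def t166 : ℕ := 0xd3000c799006330c0318666000ccc80069a6c03cf0660046
noncomputable def t167 : ℕ := 0xc188201841038308180c60c3618c180c41846208301040c6
noncomputable def t168 : ℕ := 0xc2161218b0ea7b0484d06a9882ac3412d1a1a842f0b58786
noncomputable def t169 : ℕ := 0xd130b0785ac1a3181a8b60e8098c54b04d85222a341a869e
noncomputable def t170 : ℕ := 0xdac098382ac443321a7661a80b0cebb019828224360e894e
noncomputable def t171 : ℕ := 0xc208201830c4630818106104618c201031836206300c3106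
noncomputable def t172 : ℕ := 0xcc001b9800230336c00268c0023d000247808c003490001e
noncomputable def t173 : ℕ := 0xc64180d80c1b6311016360c8040c6321cd80106631130836
noncomputable def t174 : ℕ := 0xcb0910ba42022f24030ee0b47a8d6060559ea01735163056
noncomputable def t175 : ℕ := 0xc90998b82619a353041560cc730d5021c582906a3219b16e
noncomputable def t176 : ℕ := 0xc0d62b1ab0f2cb4ac051ec80811c1a125191440973940ba6
noncomputable def t177 : ℕ := 0xc0c82d1a6115cf0b43646560615c190d218c5439b04a0cc6
noncomputable def t178 : ℕ := 0xc4315dd98528131685836413165d064e87b088507441421e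
noncomputable def t179 : ℕ := 0xd1d0167a901d8b059858674302ccca00a993b20d70284b06
noncomputable def t180 : ℕ := 0xc85701b90224175063416930983d426335a80d90b2ce0a2e
noncomputable def t181 : ℕ := 0xd4464558c8101b51636d64308c5c81c10ba41590f2420cee
noncomputable def t182 : ℕ := 0xc1281e1aa134ab02c4b46798634c150e1192844b702d8546
noncomputable def t183 : ℕ := 0xc6016cd83502631a221366a8154d304c578141a23476819e
noncomputable def t184 : ℕ := 0xc688a0d9aa03534c0215e06c688d28a067a26024f112b176
noncomputable def t185 : ℕ := 0xc0d82b1ab132cb3ac0526c80611c1a0e5191440974940b9e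
noncomputable def t186 : ℕ := 0xd057417ab4080b1122536828943c42418d9319a174c28b1e
noncomputable def t187 : ℕ := 0xcc001c9800240346c001e700024d000237808c00336c0026
noncomputable def t188 : ℕ := 0xc190c118880c9b4040c1e3000c6c198331881809b3cc0c26
noncomputable def t189 : ℕ := 0xcc00249800230348c001e6c001cd000247806c0033700026
noncomputable def t190 : ℕ := 0xce60019b000c670044206318006d260337b0184670cd8206
noncomputable def t191 : ℕ := 0xd069457b042c07409d21e510745c4342bd980a51314d0836
noncomputable def t192 : ℕ := 0xcc090098070003301b026023700d006c078002303402401e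
noncomputable def t193 : ℕ := 0xc038041980d8130118806604604c041181a01200f0603606
noncomputable def t194 : ℕ := 0xc1e1121b462a8704982c6a8312ac0b62d19eaa0d30b44846
noncomputable def t195 : ℕ := 0xd8309d398ae813668280e42c0a5cc6b289b088207342b226
noncomputable def t196 : ℕ := 0xc60890d83a256314c51361546a8d30a22781ac523409319e
noncomputable def t197 : ℕ := 0xd8006339c2001368060ce83019bd80c003a46010f68080ce
noncomputable def t198 : ℕ := 0xd641a85866c5635a19656160110cb3302b844232320b08ee
noncomputable def t199 : ℕ := 0xd588685a18058f5a0619615c6d0c88c02b9b404d3208b12e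
noncomputable def t200 : ℕ := 0xc43058d842180317068f60301a0c44c18d849010310086f6
noncomputable def t201 : ℕ := 0xc036041980e01300d8806603804c041201a00e00f0604606
noncomputable def t202 : ℕ := 0xcc08c098090003301c02601b6c0d008c078002403401c01e
noncomputable def t203 : ℕ := 0xc15134192621b708605462c411ec126341aa2d8ab0783b46
noncomputable def t204 : ℕ := 0xc0810b19e606d34c0005e84010bc306061a1c002f38401a6
noncomputable def t205 : ℕ := 0xd428c65a8c1b0b219ca2e6c8644c8580cb90126175318416
noncomputable def t206 : ℕ := 0xc038031a01200f00e0806804603c040e01980d8130803606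
noncomputable def t207 : ℕ := 0xc15126192633b70ce054664410cc126261aa658ab0303b46
noncomputable def t208 : ℕ := 0xc60690d83a1d6315051361538a8d30a1a781b0523409419e
noncomputable def t209 : ℕ := 0xc86705b9b21013216632e418985d436105b315c075408916
noncomputable def t210 : ℕ := 0xc206201841036308200c60c3818c200c41846186301040c6
noncomputable def t211 : ℕ := 0xc2b8321b211447494095eb8061ac2e0d119a340533ac0366
noncomputable def t212 : ℕ := 0xdb61893b1c0e276c4138e24804ed8e2363b6d86c76c7024e
noncomputable def t213 : ℕ := 0xc42884d94a2017405dade210686d05a307ac0e50b16104f6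
noncomputable def t214 : ℕ := 0xc048041980e01300d8606604604c031201a00e00f0603806
noncomputable def t215 : ℕ := 0xd300ab781b02234a2519e890093c60ac5d8341d631950136
noncomputable def t216 : ℕ := 0xc208201831036308181060c3618c200c4183620630104106
noncomputable def t217 : ℕ := 0xd73128584305235a238d6170190ca46c2b864196320a066e
noncomputable def t218 : ℕ := 0xc326141940cd374500ade34082ec2511a1aeb806b3680466
noncomputable def t219 : ℕ := 0xcc58819aba080b611d50e810683d82a183931a5173c10b26
noncomputable def t220 : ℕ := 0xcc601e9b40300707832c6c20021d060087b48430702202c6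
noncomputable def t221 : ℕ := 0xc76049db120e271c463b627018ec4ec36db6d81c71c48276
noncomputable def t222 : ℕ := 0xd0001b7800230346c001e8c0023cc00249808c0033900026
noncomputable def t223 : ℕ := 0xc300f41a18012f32001a67800f4c0880119e200d3478005e
noncomputable def t224 : ℕ := 0xc206181830c4630620106104820c201031838186300c3106
noncomputable def t225 : ℕ := 0xc2a0cb1ad81e4b0798a86d030e1c2d80b195d20570844486
noncomputable def t226 : ℕ := 0xd84198384c200366c16ce008060d832203848c60360308ce
noncomputable def t227 : ℕ := 0xc040d81a08040f06046061180e0c038031988041300d8806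
noncomputable def t228 : ℕ := 0xc586a8d84a22831ac50f6093890d08a257864c5c3415405e
noncomputable def t229 : ℕ := 0xca10c5ba0d106f2141c2e423045d648d05881437b5434616
noncomputable def t230 : ℕ := 0xc046031a00d80f0118606803803c03118198120130804806
noncomputable def t231 : ℕ := 0xc85783b906341750e1416d20901d422235a805b0b28f0a2e
noncomputable def t232 : ℕ := 0xc0112618c6301b4980cdec00119c0160818c6401b3200ce6
noncomputable def t233 : ℕ := 0xc90064b82906a35c231567300ccd50cc3582619a3266016e
noncomputable def t234 : ℕ := 0xd0002478001c03490001e70001ccc001b9807000336c0026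
noncomputable def t235 : ℕ := 0xd840a23a0ad00f694260ea2c09acc1b109887421b3a2bc26
noncomputable def t236 : ℕ := 0xc0c130186619c33300666180130c3361918130023418099e
noncomputable def t237 : ℕ := 0xc1e0d21b482a8704a02c6a840eac0b82d19ea98d30b43846
noncomputable def t238 : ℕ := 0xd456435908331720e642ecd88c1c82c24ba805c0b5908a16
noncomputable def t239 : ℕ := 0xcc00239800240338c002690001bd000237806c00348c001e
noncomputable def t240 : ℕ := 0xc20620183104630820106103818c200c31836186300c4106
noncomputable def t241 : ℕ := 0xc686a0da2a034f4c0215e06b888d28a0679a60253112c176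
noncomputable def t242 : ℕ := 0xc1360a1b50d3a7474089ea40822c1611619dd40b33b002a6
noncomputable def t243 : ℕ := 0xd8904e38e236db6d86c4ec70189db1c0e389c413b6248d8e
noncomputable def t244 : ℕ := 0xd010a5788b281b4882c1e42b09dc44ae8da06820f142c636
noncomputable def t245 : ℕ := 0xc180c31838208300c41068180c3c188201830c4830818106
noncomputable def t246 : ℕ := 0xca0990ba66026f240106e0a4728d7020559ca033351730d6
noncomputable def t247 : ℕ := 0xdb118e389c363b6d81d8ec48049d8920e38ec46db6270c4e
noncomputable def t248 : ℕ := 0xc358131ac1352b44c04ded40629c220e2196a40773880a66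
noncomputable def t249 : ℕ := 0xcc66859b0a2c0730a2226528885d83a2b39809a1364e880e
noncomputable def t250 : ℕ := 0xd110257a502eaf0ca0c8650400dcd402b98d698bb0443686
noncomputable def t251 : ℕ := 0xc186181830c38306201060c4820c18104183818830103106
noncomputable def t252 : ℕ := 0xd8394239841313615d80ead0742cc64149b0165073b10226
noncomputable def t253 : ℕ := 0xc040d81988031306036060e00e0c038041a08030f0120806
noncomputable def t254 : ℕ := 0xda30403802236360c680e0f0180da4c243800c163610860e
noncomputable def t255 : ℕ := 0xd849453a042c0f609d60e510745cc142b9880a51b34d0c26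
noncomputable def t256 : ℕ := 0xcf502c9ac00a2b0b184c6283016d2201d7965a0770744a46
noncomputable def t257 : ℕ := 0xd428445a880b0b211ea2e2d86c6c85c1cb901a4175708416
noncomputable def t258 : ℕ := 0xcc07009806c003402401e01c900d0070078001c03301b026
noncomputable def t259 : ℕ := 0xce2141990508776102a0e82b143da54d83a81826b3c2c426
noncomputable def t260 : ℕ := 0xc83982bb362807209c92ea08702d4622859b0a6135a18316
noncomputable def t261 : ℕ := 0xd451a459070817290142e22311ec822d8ba87830b5634a16
noncomputable def t262 : ℕ := 0xd506c8582c1ba3270116e063860c9081eb82d03a35134156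
noncomputable def t263 : ℕ := 0xd2e01a79a011530360346ac4032ceb0149b2958470b83946
noncomputable def t264 : ℕ := 0xc2d11e1956345702d8486783134c2a6211ad8604b02c4a86
noncomputable def t265 : ℕ := 0xc900f3b82cc4a358191569a005bd50901582223a328f016e
noncomputable def t266 : ℕ := 0xcc090098070003302402601c700d006c078001c03401b01e
noncomputable def t267 : ℕ := 0xc2d10c195626570658486303126c2a6331adce04b0644a86
noncomputable def t268 : ℕ := 0xc156191920ccb70304546998833c121191aa984ab0cd8b46
noncomputable def t269 : ℕ := 0xd438425b482807509b8d6a306c2c86c28b9c0a1132a202ee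
noncomputable def t270 : ℕ := 0xd1d0867a8af08b10c5436614084c5ab20d90045974213a1e
noncomputable def t271 : ℕ := 0xd2400079c0007330006e6000000ce30009a40006f40008de
noncomputable def t272 : ℕ := 0xc85901b9022317505b4168f0783d426345a80e10b2d20a2e
noncomputable def t273 : ℕ := 0xd22029796022770a58a46883013cf50359ac4e02b0d444c6
noncomputable def t274 : ℕ := 0xc188181830c4830618106104620c181031838208300c3106
noncomputable def t275 : ℕ := 0xc850e6b90cd817598441660c05cd429085a87060b221ba2e
noncomputable def t276 : ℕ := 0xd300ac781ac2234a1d19e690094c60b05d83425631750136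
noncomputable def t277 : ℕ := 0xd006c07808c00330230260248c0cc090098001b03402301e
noncomputable def t278 : ℕ := 0xda89603a24034f3c05166054748ce840699a60553611314e
noncomputable def t279 : ℕ := 0xc49049d8e20edb1c46c7627018ec71c36d89d813b1c48db6
noncomputable def t280 : ℕ := 0xc1681d19d129b3428029e4c0635c130ec1b5880a735808a6
noncomputable def t281 : ℕ := 0xcf0890981a252334c51a61546a8da0a22383ac563609310e
noncomputable def t282 : ℕ := 0xd1c00079b000933000726000000cdb0009a30008f400091e
noncomputable def t283 : ℕ := 0xd5c1905817028354217960a0128c8b2c5b83a1bc3217092e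
noncomputable def t284 : ℕ := 0xc0c62d1a60d5cf0b44646558815c1911218c5449b0498cc6
noncomputable def t285 : ℕ := 0xd9a083390b18973185a26c13081cddac89a81058b681440e
noncomputable def t286 : ℕ := 0xd210067880347b0183c06d20001ce100b9880437b02e0c06
noncomputable def t287 : ℕ := 0xc83782bb46280720a48eea08902d4622859c09e135a182d6
noncomputable def t288 : ℕ := 0xd3202b794032370ad8ac6c83011ce50259ae4606b0944446
noncomputable def t289 : ℕ := 0xc7618edb1c36271d813b6c48049c4e20edb6c46c71270276
noncomputable def t290 : ℕ := 0xd686f0585c244328c10ae1a3858ca8821b852c34350f4096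
noncomputable def t291 : ℕ := 0xd0090078070003301c02601b700cc06c098002403401c01e
noncomputable def t292 : ℕ := 0xdb10763892313b6386d8edb01b1d89c0938e241db6388c4e
noncomputable def t293 : ℕ := 0xc038031a00d80f0118806804603c04118198120130803606
noncomputable def t294 : ℕ := 0xd706d05a4c022f54040d608b868ca0805b9ea0673215c06e
noncomputable def t295 : ℕ := 0xc038041a00e00f00d8806604604c041201980e0130603606
noncomputable def t296 : ℕ := 0xc188181831038306181060c3620c180c4183820830104106
noncomputable def t297 : ℕ := 0xd891b638ec31db6381c4ed88071db12093892463b63b0d8e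
noncomputable def t298 : ℕ := 0xc4415ada04d00f1745636a14162d015107889451b4a13c1e
noncomputable def t299 : ℕ := 0xca3045bb091067214382e4330c5d66cd0598141735424216
noncomputable def t300 : ℕ := 0xd606505a68026f540605609b8e8cb0c05b9ca0433214c0ee
noncomputable def t301 : ℕ := 0xd007007806c003401c01e01b900cc070098002403301c026
noncomputable def t302 : ℕ := 0xc8b0d0b83d02c3242492e088068d5c8c5581a1e835158796
noncomputable def t303 : ℕ := 0xd6819c5857014322240ae6c8134ca82c4b8581e435798096
noncomputable def t304 : ℕ := 0xd0109d788ae81b4682c1e42c0a5c44b28da08820f142b636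
noncomputable def t305 : ℕ := 0xd2c088782ac643161a7761280a0c6bb03d82c2243406895e
noncomputable def t306 : ℕ := 0xce30009a40006f40008de000000d2400079c0007330006e6
noncomputable def t307 : ℕ := 0xc44885da0a2b0f109a6364e8685d01a2c7880a21b4528c1e
noncomputable def t308 : ℕ := 0xcf40309810212302c37861a0030d0b0217862c3c301a0846
noncomputable def t309 : ℕ := 0xd107487a5406af16050b6113960c50403d9dc05b3405409e
noncomputable def t310 : ℕ := 0xc85983b906331750d9416ce0701d422245a80630b2930a2e
noncomputable def t311 : ℕ := 0xc010de18b8301b3780d26c000e1c0180818b8401b4200d1e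
noncomputable def t312 : ℕ := 0xd1b0007a30008f3000926000000cdc00099b00093400071e
noncomputable def t313 : ℕ := 0xd0601e7b40300707842c6c18021cc60089b48440702182c6
noncomputable def t314 : ℕ := 0xd421195a83200b2643a2e8331a3c856f0b908c1175c24416
noncomputable def t315 : ℕ := 0xc036031a00e00f00d8806803803c041201980e0130804606
noncomputable def t316 : ℕ := 0xc989a8b99605932a011ae164710d482025a3403cf50b3116
noncomputable def t317 : ℕ := 0xc2a10b1ad61e4b07a0a86d04121c2d60b195d18570843486
noncomputable def t318 : ℕ := 0xd130357b502ca708a088658401dcd602999d298b304c3286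
noncomputable def t319 : ℕ := 0xd416c25a3c280f50a1d16a20842c84828b8b09b1b2a3072e
noncomputable def t320 : ℕ := 0xc2d6211950cb570d0348686080bc2a11e1ad7834b0d20a86
noncomputable def t321 : ℕ := 0xc201041846186301030c6620104c206181841036306200c6
noncomputable def t322 : ℕ := 0xc030e01988031308048060d80d8c048041a06040f0118606
noncomputable def t323 : ℕ := 0xc340ea1a182d2f0a98786b430d2c2182a18b4a07b0a84d06
noncomputable def t324 : ℕ := 0xd22081790ac8771105a36814083c65b18da81856b4c1341e
noncomputable def t325 : ℕ := 0xd289707a24014f18051760d4758c68404d9a20553419315e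
noncomputable def t326 : ℕ := 0xc186201830c4830820106104818c181031836188300c3106
noncomputable def t327 : ℕ := 0xc49076d8e231db1386c76db01b1c71c09d892413b1388db6
noncomputable def t328 : ℕ := 0xd50858582821a322c316e0f46f0c90c24b828c1a351a3156
noncomputable def t329 : ℕ := 0xd1b00079c0009340008de000000cdc0009a40008f30006e6
noncomputable def t330 : ℕ := 0xc850deb90d1817578441660b064d428c85a89060b221ca2e
noncomputable def t331 : ℕ := 0xc82784ba860b0b5121a162e0906d4521c59019b17273042e
noncomputable def t332 : ℕ := 0xd8374239841413616580eb10942cc64139b015d073ad0226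
noncomputable def t333 : ℕ := 0xc44685da0a2c0f10a2636528885d01a2b78809a1b44e8c1e
noncomputable def t334 : ℕ := 0xc190d518c8129b0558cc64830edc0c8151a6b60cf0544646
noncomputable def t335 : ℕ := 0xcd403298d014bb0960686b8401ad110117a5358af0ac3c86
noncomputable def t336 : ℕ := 0xcc001b98001c03470001e900023d0001b7809000338c0026
noncomputable def t337 : ℕ := 0xc258111ae1256b444045e94062bc320f2194ac0373c80ae6
noncomputable def t338 : ℕ := 0xd08093786ac5c3441d05e9500abc58b02d84a258318900f6
noncomputable def t339 : ℕ := 0xc401a4da4c000f18010f660805cc40200d9c6061316300f6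
noncomputable def t340 : ℕ := 0xd000237800240348c001e90001bcc00239806c00338c0026
noncomputable def t341 : ℕ := 0xc256111ae0e56b344046694082bc32132194ac0374c80ade
noncomputable def t342 : ℕ := 0xc54160d854c3a34c1d69e050148d13506785625a311108b6
noncomputable def t343 : ℕ := 0xc036041a01200f00e0806603804c040e01980d8130604606
noncomputable def t344 : ℕ := 0xc82063ba89300b58c6a16c1b0d9d45ce059064417280c42e
noncomputable def t345 : ℕ := 0xcc08c098090003401b01e0236c0d008c0780023033024026
noncomputable def t346 : ℕ := 0xc208201841046308180c6103618c200c31846206300c40c6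
noncomputable def t347 : ℕ := 0xd5e1025982e8935086216a1c182c9b728bb0084872a0b82e
noncomputable def t348 : ℕ := 0xc031201986031308038060e0118c046041a06030f0120606
noncomputable def t349 : ℕ := 0xd98093384ac583641d0ce9500abcc8b02986a25c33890066
noncomputable def t350 : ℕ := 0xcc090098070003402301e024700d006c078001b033023026
noncomputable def t351 : ℕ := 0xc260ea1b382d670a98306b430d2c3382a1994a0330a84986
noncomputable def t352 : ℕ := 0xd008c078090003302402601c6c0cc08c098001c03401b01e
noncomputable def t353 : ℕ := 0xc031181a06030f06048060d8120c04604198804130118606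
noncomputable def t354 : ℕ := 0xc33108181626233cc09a6040108c0c626186cc0c3404065e
noncomputable def t355 : ℕ := 0xc048031a01180f0120606804603c030d8198118130803806
noncomputable def t356 : ℕ := 0xd9c04038021c83610660e130180d9bc1b3801018360c880e
noncomputable def t357 : ℕ := 0xda2083390ad8773185a26c14081ce5b089a81056b681340e
noncomputable def t358 : ℕ := 0xc1a82e19111a974b80b9e680614c0d0cd1ab500cb3340526
noncomputable def t359 : ℕ := 0xc90063b828c6a35c1b1569300cbd50d03582621a3286016e
noncomputable def t360 : ℕ := 0xd940a0385b03a33c226a6068088cd3ac698561aa3612888e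
noncomputable def t361 : ℕ := 0xc1910118860c9b3040c26300106c196331881809b4cc0c1e
noncomputable def t362 : ℕ := 0xc208181830c36306181060c4620c20104183820630103106
noncomputable def t363 : ℕ := 0xc8505cb9090817570641621b0e6d42cd85a89840b260ca2e
noncomputable def t364 : ℕ := 0xdb11b1389c093b6241d8e388076d8923138e386db6db0c4e
noncomputable def t365 : ℕ := 0xc1911518c6129b0560cc648412dc0c6151a6b58cf0543646
noncomputable def t366 : ℕ := 0xdab098382b044332229661a80b0cecac198281a4360e874e
noncomputable def t367 : ℕ := 0xd421215a82e00b2843a2e83419bc85730b906c1175c23416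
noncomputable def t368 : ℕ := 0xd436425b38280750a3916a308c2c86c28b9b099132a2032e
noncomputable def t369 : ℕ := 0xc186181841038306200c60c3820c180c41848188301040c6
noncomputable def t370 : ℕ := 0xd8409a3a0b100f674260ea2b0a2cc1ad09889421b3a2cc26
noncomputable def t371 : ℕ := 0xc186201840c38308200c60c4818c181041846188301030c6
noncomputable def t372 : ℕ := 0xd468c559bc10135159316420645c83810bb316307243092e
noncomputable def t373 : ℕ := 0xc45683daca180b41a54dec10881d02a0879411d171810af6
noncomputable def t374 : ℕ := 0xce86b09a2a014f680214e0eb898da8a0439a2025331ac166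
noncomputable def t375 : ℕ := 0xc90908b8221ba3570615605c7a0d5061e582d04a3210b16e
noncomputable def t376 : ℕ := 0xd418c25a4c280f5099cd6a20642c84828b8c0a31b2a306ee
noncomputable def t377 : ℕ := 0xda095038341d63650210e16c768cf041a981b022330ab1a6
noncomputable def t378 : ℕ := 0xd0001c78001b03470001e6c0024cc001c980900033700026
noncomputable def t379 : ℕ := 0xc9b045bb08d087214382e4340c5d5ed10598141935423216
noncomputable def t380 : ℕ := 0xd591055a03108f5146c1641b185c9c6d0b881449b240c62e
noncomputable def t381 : ℕ := 0xd641825887287b5084616a0b102ca12e8ba00866f2a1cc2e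
noncomputable def t382 : ℕ := 0xd0a013793035d704e0b06d44029cdd0229a9a588b0883586
noncomputable def t383 : ℕ := 0xcc090098070003401c01e01b700d006c078002403301c026
noncomputable def t384 : ℕ := 0xc60043da02046f1006036930183c60c03d980017318c8036
noncomputable def t385 : ℕ := 0xc181031836208300c3106820103c186201830c3830820106
noncomputable def t386 : ℕ := 0xcca013993035d704d8b06d43029d1d0227a9a608b0884586
noncomputable def t387 : ℕ := 0xc0b82a19e12dd30a84846b58612c1e0ea1b4484870a982c6
noncomputable def t388 : ℕ := 0xcda1419904c8976102a0e82c143d9d5183a81828b3c2b426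
noncomputable def t389 : ℕ := 0xd1c0007a40008f40006de000000cdb00099c0009330008e6
noncomputable def t390 : ℕ := 0xc987a8ba16058f2a011ae163910d4820259b403d350b4116
noncomputable def t391 : ℕ := 0xc038041981201300e0806604604c040e01a00d80f0603606
noncomputable def t392 : ℕ := 0xcd3170985501a3682588e0d0158d944c438521da331906a6
noncomputable def t393 : ℕ := 0xcc1682988a131b3162c26ae8882d84a143a015a0f6b2860e
noncomputable def t394 : ℕ := 0xd0001c7800240336c0026700024cc00239808c00346c001e
noncomputable def t395 : ℕ := 0xd930a0385ac3a33c1a8a6068088cd4b06985622a3612868e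
noncomputable def t396 : ℕ := 0xc03604198118130120806603804c040d81a01180f0604606
noncomputable def t397 : ℕ := 0xc046041a00e00f00d8606603804c031201980e0130604806
noncomputable def t398 : ℕ := 0xca0790b9e60273240106e0a3928d702055a4a032f51740d6
noncomputable def t399 : ℕ := 0xc1962a18c0ed9b0a83cc6b60812c0c12a1a6483cf0aa0646
noncomputable def t400 : ℕ := 0xc43882d98a1413115a836b28682d06a137b0162074ae821e
noncomputable def t401 : ℕ := 0xca80cbb85d03435621096860063d688c6585c1b4329300ae
noncomputable def t402 : ℕ := 0xc181041846208300c40c6618104c186201840c48306180c6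
noncomputable def t403 : ℕ := 0xc81902ba32280f209ed2ea18782d4462858b0a41b5a08716
noncomputable def t404 : ℕ := 0xc208181841036306180c60c3620c200c41848206301040c6
noncomputable def t405 : ℕ := 0xc03803198118130120806804603c040d81a01180f0803606
noncomputable def t406 : ℕ := 0xc1661d19d0e9b332802a64c0835c1312c1b5880a7458089e
noncomputable def t407 : ℕ := 0xd68660585826432cc30ae1338c8ca8c23b856c1435064096
noncomputable def t408 : ℕ := 0xd486e859bc05d35a0411614b850c98802ba14068f209c1ae
noncomputable def t409 : ℕ := 0xd4219b5a87300b26c1a2ec23121c852e0b90843175834416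
noncomputable def t410 : ℕ := 0xc030d81a08030f06038060e00e0c04804198803130120606
noncomputable def t411 : ℕ := 0xd488e85a3c05cf5a0411614c650c98802b9940693209b1ae
noncomputable def t412 : ℕ := 0xc84785b8b6101b216472e408905d412105a315e0f5418d16
noncomputable def t413 : ℕ := 0xc3381219912a330483986aa062ac260ed1b3a83670b60306
noncomputable def t414 : ℕ := 0xc268151b311267054430649862dc330d5199b44330558986
noncomputable def t415 : ℕ := 0xd029467934301710dab36628744c45420dab0620b422851e
noncomputable def t416 : ℕ := 0xc188201830c38308181060c4618c18104183620830103106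
noncomputable def t417 : ℕ := 0xcc80339a6001cf0204046998033d30001799204330998186
noncomputable def t418 : ℕ := 0xd631855b06d067514481640c105ca6310b9814673241b22e
noncomputable def t419 : ℕ := 0xd3000b7a10062f0c0318686000bcc800699ec03d30860046
noncomputable def t420 : ℕ := 0xc030d81988041306048061180e0c048031a08040f00d8606
noncomputable def t421 : ℕ := 0xd426445a880c0b2126a2e3188c6c85c1bb9019c1756c8416
noncomputable def t422 : ℕ := 0xd8918938ec0edb6c41c4e24804edb1236389d863b6c70d8e
noncomputable def t423 : ℕ := 0xd8907138e209db6246c4e3b01b6db1c313893813b6d88d8e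
noncomputable def t424 : ℕ := 0xc1580b19211eb70783546d20621c120cb1aad03ab0860b46
noncomputable def t425 : ℕ := 0xcd90069880339b0184c06cd8001d1900c7880449b0318c06
noncomputable def t426 : ℕ := 0xc4918ed8ec36db1d81c76c48049c7120ed89c463b1270db6
noncomputable def t427 : ℕ := 0xc8c0d0b83cc2c3241c72e088068d5b905581a26835158996
noncomputable def t428 : ℕ := 0xd017427884141b4165c1eb10942c44413da015d0f1ad0636
noncomputable def t429 : ℕ := 0xc1982a18c12d9b0a84cc6b58612c0c0ea1a6484cf0a98646
noncomputable def t430 : ℕ := 0xd2b088782b064316229761280a0c6cac3d82c1a43406875e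
noncomputable def t431 : ℕ := 0xc4019bd9bc00131601136808063c40200da38060f1830136
noncomputable def t432 : ℕ := 0xc63180d80c236310c18360c8040c64224d800c6631130636
noncomputable def t433 : ℕ := 0xd907583a5404af32050a6193970cd040199d805b360d408e
noncomputable def t434 : ℕ := 0xd1602279d016b30d58286b0300acd30139b5760a70a44886
noncomputable def t435 : ℕ := 0xc18820183104830818106103618c180c31836208300c4106
noncomputable def t436 : ℕ := 0xc186201831038308201060c3818c180c4183618830104106
noncomputable def t437 : ℕ := 0xd2c00a78a0135b0760746a44022ce90169a2d584f0b03d46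
noncomputable def t438 : ℕ := 0xd5b1905816c28354199960a0128c8c305b83a23c3217072e
noncomputable def t439 : ℕ := 0xd080337a6001cf02030469a0033cf00019992033309a0186
noncomputable def t440 : ℕ := 0xcf016b9814c2233a1a1a68a8153da050538342263696810e
noncomputable def t441 : ℕ := 0xc2a6341ad0e14b0844a862d881ec2d1341952c4570798486
noncomputable def t442 : ℕ := 0xceb1489824c643661d94e110160dac503382c25433050766
noncomputable def t443 : ℕ := 0xc036031981201300e0806803803c040e01a00d80f0804606
noncomputable def t444 : ℕ := 0xc2612a1b362d670aa0306b44112c3362a199498330a83986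
noncomputable def t445 : ℕ := 0xcc68859b0a2b07309a2264e8685d83a2c3980a213652880e
noncomputable def t446 : ℕ := 0xc346151a10d22f05437864a082dc2111518bb437b0560d06
noncomputable def t447 : ℕ := 0xd9d0843a8ae08b3045426214086cdab309900c5976613a0e
noncomputable def t448 : ℕ := 0xd501345822c4a3281e16e79819cc90701b82224a356c8156
noncomputable def t449 : ℕ := 0xcee01a99a011530358346ac3032d2b0147b2960470b84946
noncomputable def t450 : ℕ := 0xc18618183104830620106103820c180c31838188300c4106
noncomputable def t451 : ℕ := 0xc5b180d80c248310c1836108040c5c223d800c68310f0636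
noncomputable def t452 : ℕ := 0xd5b1855b071087514481640b105c9e2d0b9814693241c22e
noncomputable def t453 : ℕ := 0xc208181840c46306180c6104620c201031848206300c30c6
noncomputable def t454 : ℕ := 0xcc115d9885281b3685c26413165d844e83a08850f641460e
noncomputable def t455 : ℕ := 0xce2029996022770a60a46884013d350357ac4d82b0d434c6
noncomputable def t456 : ℕ := 0xc4e189db6c0ec71c4127624804ec76236db1d86271c703b6
noncomputable def t457 : ℕ := 0xc210c118880b7b4040c1e2c00c6c218341881807b3d00c26
noncomputable def t458 : ℕ := 0xcc07009806c003401b01e023900d00700780023033024026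
noncomputable def t459 : ℕ := 0xd0803479e001d302030467a0034cf00019a12032f07a0186
noncomputable def t460 : ℕ := 0xc2a1191ad60c4b0320a86984133c2d619195998570cc3486
noncomputable def t461 : ℕ := 0xcc06c09808c003402301e0248c0d0090078001b033023026
noncomputable def t462 : ℕ := 0xc1161a1a50d1af4340c9eac0832c1411418d940bb3b806a6
noncomputable def t463 : ℕ := 0xcc8153986505c3342206696816bd984c2384a1a8368a80ce
noncomputable def t464 : ℕ := 0xc040e01a08030f08046060d80d8c03804198604130118806
noncomputable def t465 : ℕ := 0xc3412a1a162d2f0aa0786b44112c2162a18b4987b0a83d06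
noncomputable def t466 : ℕ := 0xd006c07808c003301c02601b8c0cc090098002403401c01e
noncomputable def t467 : ℕ := 0xd9876838441a836b020ce0ab950cc841d986502c3316c066
noncomputable def t468 : ℕ := 0xd8e0493b620ec76c4624e27018edb6c363b1d81276c4838e
noncomputable def t469 : ℕ := 0xc1181a1a5111af3340ca6ac0632c140d418d940bb4b8069e
noncomputable def t470 : ℕ := 0xd58668599805935a0619615b8d0c88c02ba3404cf208c12e
noncomputable def t471 : ℕ := 0xc45883daba180b419d51ec10681d02a08793125171810b36
noncomputable def t472 : ℕ := 0xce901d9a20294f02a0d464c4035d2c02c78a8985b0583746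
noncomputable def t473 : ℕ := 0xcdc00099b00093400071e000000d1b0007a30008f3000926
noncomputable def t474 : ℕ := 0xd98184398c0393600100e6c8044d982043a00068f673000e
noncomputable def t475 : ℕ := 0xd0090078070003401b01e023700cc06c0980023033024026
noncomputable def t476 : ℕ := 0xca805cb858c143521b0966f00f4d68d045858214327a00ae
noncomputable def t477 : ℕ := 0xc2d82119510b570d0448685860bc2a0de1ad7844b0d18a86
noncomputable def t478 : ℕ := 0xd2502e7ae01a6b0ba0446684014cf200d994518370343ac6
noncomputable def t479 : ℕ := 0xc061211b46080748402de20011ec066301b4780073c002e6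
noncomputable def t480 : ℕ := 0xc206181840c36306200c60c4820c201041848186301030c6
noncomputable def t481 : ℕ := 0xca805bb859014352230968f00f3d68cc45858194329a00ae
noncomputable def t482 : ℕ := 0xd456c1590c2317206442e8c8843c82834ba80de0b5d18a16
noncomputable def t483 : ℕ := 0xd508c8582c23a326c116e064660c90826b82cc3a35133156
noncomputable def t484 : ℕ := 0xc44060d832200318c6736030198c43c20d836c1031008936
noncomputable def t485 : ℕ := 0xd2901d7a20294f0298d464c3035cec02c98a8a05b0584746
noncomputable def t486 : ℕ := 0xc2b6321b20d4473940966b8081ac2e11119a340534ac035e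
noncomputable def t487 : ℕ := 0xc2112d18b6157b0b58d06543115c346121a15602f0484786
noncomputable def t488 : ℕ := 0xc44162da05100f1945636a1315ad014d07887451b4a14c1e
noncomputable def t489 : ℕ := 0xd006c07808c003401b01e0238c0cc0900980023033024026
noncomputable def t490 : ℕ := 0xc1e62d1b40d5870b442c6558815c0b11219e544d30498846
noncomputable def t491 : ℕ := 0xc201031846206300c30c6820103c206201840c36308200c6
noncomputable def t492 : ℕ := 0xda50843a8b206b3045426213086ce2af09900c5776614a0e
noncomputable def t493 : ℕ := 0xc2281619611d773580a6674062cc350ca1acb002b42804de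
noncomputable def t494 : ℕ := 0xc188181841048306180c6103620c180c31848208300c40c6
noncomputable def t495 : ℕ := 0xc2a6261ad0f34b0cc4a8665880cc2d126195644570318486
noncomputable def t496 : ℕ := 0xd4511e5902d817278342e6341a4c82708ba89010b5223a16
noncomputable def t497 : ℕ := 0xc62143d90518774182a1ec2b141d254c87a81026b182c436
noncomputable def t498 : ℕ := 0xc43682d98a13131162836ae8882d06a147b015a074b2821e
noncomputable def t499 : ℕ := 0xd426c65a8c1c0b21a4a2e708844c8580bb9011e1752d8416
noncomputable def t500 : ℕ := 0xc90798b82621a352c41560cb930d502245828c6a3219c16e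
noncomputable def t501 : ℕ := 0xc0a82c19310ad74b00b1e280616c1d0dd1a95808b37405a6
noncomputable def t502 : ℕ := 0xc04804198118130120606604604c030d81a01180f0603806
noncomputable def t503 : ℕ := 0xc43060d83218031906936030198c44c18d83701031008736
noncomputable def t504 : ℕ := 0xcd30359b502ca7089888658301dd1602979d2a0b304c4286
noncomputable def t505 : ℕ := 0xc121211aa60bab0d18b4684310bc1561e1927a0b70d04546
noncomputable def t506 : ℕ := 0xcc11659884e81b3885c2641415dd845283a06850f641360e
noncomputable def t507 : ℕ := 0xcdc0009a40008f30006e6000000d1b00079c0009340008de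
noncomputable def t508 : ℕ := 0xc58154d844c583141a0f676816cd08502786a22c346a805e
noncomputable def t509 : ℕ := 0xd1e0017b000b8700432062e0006cde0349b0183870d20206
noncomputable def t510 : ℕ := 0xcd08889a5a06af660208e12c6a0d90a0339dc02b3306b0a6
noncomputable def t511 : ℕ := 0xca60c2b98ce873208122ea24042d639285b0083675a33816
noncomputable def t512 : ℕ := 0xc206201840c46308200c6104818c201031846186300c30c6
noncomputable def t513 : ℕ := 0xc2110118860b7b3040c262c0106c216341881807b4d00c1e
noncomputable def t514 : ℕ := 0xda01833a0c046f600100e908043da02033980067368f000e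
noncomputable def t515 : ℕ := 0xc81702ba42280f20a6ceea18982d4462858c09c1b5a086d6
noncomputable def t516 : ℕ := 0xd027467944301710e2af6628944c45420dac05a0b42284de
noncomputable def t517 : ℕ := 0xd059417ac4080b111a4f6828743c42418d941a2174c28ade
noncomputable def t518 : ℕ := 0xcda011991025970458b8694302bd0d0327abae0cb0c84506
noncomputable def t519 : ℕ := 0xc5d144da85208b404241e22b146d1a4f07900c297162ca36
noncomputable def t520 : ℕ := 0xc048031980d8130118606804603c031181a01200f0803806
noncomputable def t521 : ℕ := 0xd8e1b13b6c09c7624124e388076db62313b1386276db038e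
noncomputable def t522 : ℕ := 0xd6810c5853034326260ae6581a4ca86c6b85c1c435708096
noncomputable def t523 : ℕ := 0xc038041a01180f0120806604604c040d8198118130603606
noncomputable def t524 : ℕ := 0xd08968786422c34ac205e0ac750c58425d844c283116b0f6
noncomputable def t525 : ℕ := 0xc6b158d824c443421d95e190170d2c5017828254310d0776
noncomputable def t526 : ℕ := 0xc4e04edb6236c71d86276c70189c76c0edb1c412712483b6
noncomputable def t527 : ℕ := 0xc3281419410d373500ae634062ec250da1aeb806b468045e
noncomputable def t528 : ℕ := 0xca8930b852244358c609619c798d686215852c44320cb0ae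
noncomputable def t529 : ℕ := 0xc0111e18b6301b4780d1ec00121c0160818b8401b3200d26
noncomputable def t530 : ℕ := 0xc0a62c1930cad73b00b26280816c1d11d1a95808b474059e
noncomputable def t531 : ℕ := 0xc3312d199615330b58986543115c266121b3560670484306
noncomputable def t532 : ℕ := 0xc120e11aa80bab0d20b468440cbc1581e192798b70d03546
noncomputable def t533 : ℕ := 0xd466c559cc101351612d6420845c83810bb415b0724308ee
noncomputable def t534 : ℕ := 0xc86905b9c21013215e2ee418785d436105b41640754088d6
noncomputable def t535 : ℕ := 0xce88b099aa0153680214e0ec698da8a043a22024f31ab166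
noncomputable def t536 : ℕ := 0xc85064b908c817590641621c0ded42d185a87840b260ba2e
noncomputable def t537 : ℕ := 0xc9c050b818c283241e7ae0980e8d4bd05583a24c35148916
noncomputable def t538 : ℕ := 0xc041201a06030f08036060e0118c03604198603130120806
noncomputable def t539 : ℕ := 0xc1e1061b0634873180226d00101c1e60b1b00408742c021e
noncomputable def t540 : ℕ := 0xc036031980d8130118806803803c041181a01200f0804606
noncomputable def t541 : ℕ := 0xd4519c5906c817270142e224126c82318ba89830b5633a16
noncomputable def t542 : ℕ := 0xce502e9ae01a6b0b98446683014d3200d794520370344ac6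
noncomputable def t543 : ℕ := 0xc04120198604130804606118118c036031a06040f00d8806
noncomputable def t544 : ℕ := 0xc340c818181e234d0079e0400c8c0b81e186d00c33040866
noncomputable def t545 : ℕ := 0xc82706ba821b0b51a3a166f0984d4560c59011917232042e
noncomputable def t546 : ℕ := 0xcd10259a502eaf0c98c8650300dd1402b78d6a0bb0444686
noncomputable def t547 : ℕ := 0xc1261e1aa0f4ab02c3b467a0834c15121192843b702e0546
noncomputable def t548 : ℕ := 0xc5c180d80c1c831101636108040c5b21bd801068310f0836
noncomputable def t549 : ℕ := 0xd4512659031817298342e63319cc826c8ba87010b5224a16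
noncomputable def t550 : ℕ := 0xd6819b5856c143221c0ae8c8133ca8304b85826435998096
noncomputable def t551 : ℕ := 0xc76076db12312713863b6db01b1c4ec09db6241c71388276
noncomputable def t552 : ℕ := 0xd708d059cc023354040d608c668ca0805ba6a066f215b06e
noncomputable def t553 : ℕ := 0xc356131ac0f52b34c04e6d40829c22122196a40774880a5e
noncomputable def t554 : ℕ := 0xc1581919210cb703035469a0633c120d91aa983ab0ce0b46
noncomputable def t555 : ℕ := 0xc42684d93a20174065b1e210886d05a307ab0dd0b1610536
noncomputable def t556 : ℕ := 0xc186201841048308200c6103818c180c31846188300c40c6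
noncomputable def t557 : ℕ := 0xc200c41838206300c31066200c4c208201830c3630620106
noncomputable def t558 : ℕ := 0xc181031846188301040c6818103c186181841048308180c6
noncomputable def t559 : ℕ := 0xd007007806c003301b026023900cc070098002303402401e
noncomputable def t560 : ℕ := 0xd140b0785b01a318226b60e8098c53ac4d8521aa341a889e
noncomputable def t561 : ℕ := 0xc8205bba88f00b56c6a16c1c0e1d45d2059084417280b42e
noncomputable def t562 : ℕ := 0xc491b1d8ec09db1241c76388076c71231d893863b1db0db6
noncomputable def t563 : ℕ := 0xd6886058581e432d030ae1346c8ca8c1bb85701435063096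
noncomputable def t564 : ℕ := 0xd08094786b05c3442505e7500acc58ac2d84a1d8316900f6
noncomputable def t565 : ℕ := 0xca4068b86905632a2666e1580d0d73cc258441c2350888d6
noncomputable def t566 : ℕ := 0xd501a45826c6a32c1c16e70810cc90303b82626a35658156
noncomputable def t567 : ℕ := 0xd458435908341720de42ed186c1c82c23ba80640b58c8a16
noncomputable def t568 : ℕ := 0xcd068899da06b3660208e12b8a0d90a033a5c02af306c0a6
noncomputable def t569 : ℕ := 0xd2b00d7b202b470698946443025cee02e99aca0530504346
noncomputable def t570 : ℕ := 0xcc06c09808c003401c01e01b8c0d0090078002403301c026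
noncomputable def t571 : ℕ := 0xdb104938920e3b6c46d8e27018ed89c3638ed81db6c48c4e
noncomputable def t572 : ℕ := 0xd859433ac4180b319a4e6c28741cc2408994122176828ace
noncomputable def t573 : ℕ := 0xd50658582819a3230316e0f38f0c90c1cb82901a351a4156
noncomputable def t574 : ℕ := 0xcf016c981502233a221a66a8154da04c538341a63676810e
noncomputable def t575 : ℕ := 0xc88928b9b205d32a0312e174790d586025a14018f50a3196
noncomputable def t576 : ℕ := 0xc2d0de1958345702e04867840f4c2a8211ad8584b02c3a86
noncomputable def t577 : ℕ := 0xd741285842c5235a1b6d6170190ca3702b864216320a086e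
noncomputable def t578 : ℕ := 0xc58153d845058314220f696816bd084c2786a1ac348a805e
noncomputable def t579 : ℕ := 0xce300099b000733000926000000d240007a30006f400071e
noncomputable def t580 : ℕ := 0xd830a5398b2813688280e42b09dcc6ae89b068207342c226
noncomputable def t581 : ℕ := 0xc040e01988041308036061200d8c038031a06030f00e0806
noncomputable def t582 : ℕ := 0xc7104ed892363b1d86db6c70189c49c0ed8ec41db1248c76
noncomputable def t583 : ℕ := 0xcdd0169a901d8b05a058674402cd0a00a793b18d70283b06
noncomputable def t584 : ℕ := 0xceb00d9b202b4706a0946444025d2e02e79ac98530503346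
noncomputable def t585 : ℕ := 0xc900f4b82d04a358211567a005cd508c158221ba326f016e
noncomputable def t586 : ℕ := 0xcc07009806c0033023026024900d0070078001b03402301e
noncomputable def t587 : ℕ := 0xc4019cda3c000f1601136608064c40200d9b806131630136
noncomputable def t588 : ℕ := 0xd0090078070003402401e01c700cc06c098001c03301b026
noncomputable def t589 : ℕ := 0xcd602299d016b30d60286b0400ad130137b5758a70a43886
noncomputable def t590 : ℕ := 0xc336121990ea330484986a9882ac2612d1b3a84670b58306
noncomputable def t591 : ℕ := 0xcf000c999006330c0418665800cd080067a6c04cf0658046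
noncomputable def t592 : ℕ := 0xd1a011791025970460b8694402bccd0329abad8cb0c83506
noncomputable def t593 : ℕ := 0xd1403278d014bb0958686b8301acd10119a5360af0ac4c86
noncomputable def t594 : ℕ := 0xc188181840c38306180c60c4620c181041848208301030c6
noncomputable def t595 : ℕ := 0xc2a8341ad1214b0843a862e061ec2d0f41952c35707a0486
noncomputable def t596 : ℕ := 0xc2e62519a0ee534c8035e50080dc2b12b1b2680473440966
noncomputable def t597 : ℕ := 0xd067457b042b0740a521e4d0945c4342cd9809d131510836
noncomputable def t598 : ℕ := 0xd8e18e3b6c36c76d8124ec48049db620e3b1c4627627038e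
noncomputable def t599 : ℕ := 0xd008c078090003402301e0246c0cc08c098001b033023026
noncomputable def t600 : ℕ := 0xca3068b868c5632a1e86e1580d0d74d025844242350886d6
noncomputable def t601 : ℕ := 0xc041181a06040f0603606120120c036031988031300e0806
noncomputable def t602 : ℕ := 0xcb0710b9c2023324030ee0b39a8d606055a6a016f5164056
noncomputable def t603 : ℕ := 0xc2d6331950d9570983486ce0819c2a10c1ad3034b09a0a86
noncomputable def t604 : ℕ := 0xc048031981201300e0606804603c030e01a00d80f0803806
noncomputable def t605 : ℕ := 0xc0c0d21a682acf04a0646a840eac1982d18ca989b0b43cc6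
noncomputable def t606 : ℕ := 0xd0d0147ab00dcb051850634302ecda01a991ba0970684b86
noncomputable def t607 : ℕ := 0xcc61629b0510073945226a1315ad834d0398745136a1480e
noncomputable def t608 : ℕ := 0xce40009a30006f3000726000000d2300079b00073400091e
noncomputable def t609 : ℕ := 0xc0b0f0186821c342c085e1800f0c348211812c02331807a6
noncomputable def t610 : ℕ := 0xc43165d984e813188583641415dd065287b068507441321e
noncomputable def t611 : ℕ := 0xd847453a042b0f60a560e4d0945cc142c98809d1b3510c26
noncomputable def t612 : ℕ := 0xc1260c1aa0e6ab0643b46320826c15133192cc3b70660546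
noncomputable def t613 : ℕ := 0xc260c61b083367418021ecc00c1c2680c1b0040673300226
noncomputable def t614 : ℕ := 0xd240007a30006f400071e000000ce300099b000733000926
noncomputable def t615 : ℕ := 0xc046031a01200f00e0606803803c030e01980d8130804806
noncomputable def t616 : ℕ := 0xd8005c3a32000f660610e6301a4d80c0039b80113660810e
noncomputable def t617 : ℕ := 0xc0c1121a662acf0498646a8312ac1962d18caa09b0b44cc6
noncomputable def t618 : ℕ := 0xcc002498001c03390002670001cd0001b7807000346c001e
noncomputable def t619 : ℕ := 0xcc001c98001b0337000266c0024d0001c78090003470001e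
noncomputable def t620 : ℕ := 0xc820d9ba8ce00b5644a1680c063d459305908c6172c1b42e
noncomputable def t621 : ℕ := 0xc50898da5a04af420209e1ac6b0d10a0179d802b310eb0b6
noncomputable def t622 : ℕ := 0xc0b62a19e0edd30a83846b60812c1e12a1b4483870aa02c6
noncomputable def t623 : ℕ := 0xc2d833195119570984486cd8619c2a0cc1ad3044b0998a86
noncomputable def t624 : ℕ := 0xd4c110583302c354237160b01a8c9b6c5b81a198321609ae
noncomputable def t625 : ℕ := 0xc1380a1b5113a737408a6a40622c160d619dd40b34b0029e
noncomputable def t626 : ℕ := 0xdb61b63b1c3127638138ed88071d8e2093b6246c763b024e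
noncomputable def t627 : ℕ := 0xc1280c1aa126ab0644b46318626c150f3192cc4b70658546
noncomputable def t628 : ℕ := 0xccd0149ab00dcb052050634402ed1a01a791b98970683b86
noncomputable def t629 : ℕ := 0xda00ab383b02636a2510e890093cf0ac598141d2339501a6
noncomputable def t630 : ℕ := 0xcb30e8b84cc5232a1c8ee148050d64902586426635098656
noncomputable def t631 : ℕ := 0xd000247800230338c00266c001ccc00249806c003470001e
noncomputable def t632 : ℕ := 0xd841a0383c200368c170e008058d832203836c603603090e
noncomputable def t633 : ℕ := 0xd0101978c0081b0644cc6218026cc103098c9841b0c18cc6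
noncomputable def t634 : ℕ := 0xd0002378001b0339000268c001bcc001c98070003490001e
noncomputable def t635 : ℕ := 0xc18104183618830103106620104c18618183103830620106
noncomputable def t636 : ℕ := 0xd4484558b8101b515b7164306c5c81c10ba31610f2420d2e
noncomputable def t637 : ℕ := 0xc65144da84e06b404241e22c146d225307900c277162ba36
noncomputable def t638 : ℕ := 0xc206181831036306201060c3820c200c4183818630104106
noncomputable def t639 : ℕ := 0xd250867a8b306b10c5436613084c62ae0d90045774214a1e
noncomputable def t640 : ℕ := 0xd98094384b058364250ce7500accc8ac2986a1dc33690066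
noncomputable def t641 : ℕ := 0xc046041980d8130118606603804c031181a01200f0604806
noncomputable def t642 : ℕ := 0xce51469a84f06b60c240e62c144da252039004277322ba26
noncomputable def t643 : ℕ := 0xc401a3d9cc001318010f680805bc40200da46060f18300f6
noncomputable def t644 : ℕ := 0xcc88a8986a1ac33b05066094690d98a1d3845058361530ce
noncomputable def t645 : ℕ := 0xcc06c09808c003301b0260238c0d0090078002303402401e
noncomputable def t646 : ℕ := 0xc0810c1a6606cf4c0005e64010cc30606199c003336401a6
noncomputable def t647 : ℕ := 0xd5c1825886e89b5084616a0c102c99328ba00868f2a1bc2e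
noncomputable def t648 : ℕ := 0xc030e01a08040f08038061200d8c048031986031300e0606
noncomputable def t649 : ℕ := 0xd3502c7ac00a2b0b204c6284016ce201d996598770743a46
noncomputable def t650 : ℕ := 0xc150f4192821b708585462c30dec128341aa2e0ab0784b46
noncomputable def t651 : ℕ := 0xcdb0009a30008f400091e000000d1c00079b000933000726
noncomputable def t652 : ℕ := 0xd2300079b00073400091e000000ce40009a30006f3000726
noncomputable def t653 : ℕ := 0xc200c31838186301031068200c3c20818183103630820106
noncomputable def t654 : ℕ := 0xc2a8261ad1334b0cc3a8666060cc2d0e6195643570320486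
noncomputable def t655 : ℕ := 0xc9b050b819028324269ae0980e8d4ccc5583a1cc35148716
noncomputable def t656 : ℕ := 0xc301341a16012f420019e780134c0860119e200d33780066
noncomputable def t657 : ℕ := 0xc20818183104630618106103620c200c31838206300c4106
noncomputable def t658 : ℕ := 0xc20103183618630104106818103c20618183104630818106
noncomputable def t659 : ℕ := 0xcf000b9a10062f0c0418685800bd0800679ec04d30858046
noncomputable def t660 : ℕ := 0xc5a143d904d8974182a1ec2c141d1d5087a81028b182b436
noncomputable def t661 : ℕ := 0xd688f0585c1c4329010ae1a4658ca8819b853034350f3096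
noncomputable def t662 : ℕ := 0xc82984ba860c0b5119a16320706d4521b5901a31726f042e
noncomputable def t663 : ℕ := 0xc3013319960133420019e980133c086011a6200cf3980066
noncomputable def t664 : ℕ := 0xd631a8586705635a21856160110cb42c2b8441b2320b06ee
noncomputable def t665 : ℕ := 0xc200c41848186301040c66180c4c208181841046306180c6
noncomputable def t666 : ℕ := 0xc04603198118130120606803803c030d81a01180f0804806
noncomputable def t667 : ℕ := 0xd007007806c003302402601c900cc070098001c03401b01e
noncomputable def t668 : ℕ := 0xca8730b8521c43590609619b998d686195853044320cc0ae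
noncomputable def t669 : ℕ := 0xce400099c0007340006de000000d230007a40006f30008e6
noncomputable def t670 : ℕ := 0xd9b0403802248360c680e130180d9cc233800c18360c860e
noncomputable def t671 : ℕ := 0xd1a081790b08971105a36813083c5dad8da81858b4c1441e
noncomputable def TT : Tr := (.node (.node (.node (.node (.node (.node (.node (.node (.node (.node (.leaf t0) (.leaf t512)) (.leaf t256)) (.node (.node (.leaf t128) (.leaf t640)) (.leaf t384))) (.node (.node (.node (.leaf t64) (.leaf t576)) (.leaf t320)) (.node (.leaf t192) (.leaf t448)))) (.node (.node (.node (.node (.leaf t32) (.leaf t544)) (.leaf t288)) (.node (.leaf t160) (.leaf t416))) (.node (.node (.node (.leaf t96) (.leaf t608)) (.leaf t352)) (.node (.leaf t224) (.leaf t480))))) (.node (.node (.node (.node (.node (.leaf t16) (.leaf t528)) (.leaf t272)) (.node (.node (.leaf t144) (.leaf t656)) (.leaf t400))) (.node (.node (.node (.leaf t80) (.leaf t592)) (.leaf t336)) (.node (.leaf t208) (.leaf t464)))) (.node (.node (.node (.node (.leaf t48) (.leaf t560)) (.leaf t304)) (.node (.leaf t176) (.leaf t432))) (.node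 (.node (.node (.leaf t112) (.leaf t624)) (.leaf t368)) (.node (.leaf t240) (.leaf t496)))))) (.node (.node (.node (.node (.node (.node (.leaf t8) (.leaf t520)) (.leaf t264)) (.node (.node (.leaf t136) (.leaf t648)) (.leaf t392))) (.node (.node (.node (.leaf t72) (.leaf t584)) (.leaf t328)) (.node (.leaf t200) (.leaf t456)))) (.node (.node (.node (.node (.leaf t40) (.leaf t552)) (.leaf t296)) (.node (.leaf t168) (.leaf t424))) (.node (.node (.node (.leaf t104) (.leaf t616)) (.leaf t360)) (.node (.leaf t232) (.leaf t488))))) (.node (.node (.node (.node (.node (.leaf t24) (.leaf t536)) (.leaf t280)) (.node (.node (.leaf t152) (.leaf t664)) (.leaf t408))) (.node (.node (.node (.leaf t88) (.leaf t600)) (.leaf t344)) (.node (.leaf t216) (.leaf t472)))) (.node (.node (.node (.node (.leaf t56) (.leaf t568)) (.leaf t312)) (.node (.leaf t184) (.leaf t440))) (.node (.node (.node (.leaf t120) (.leaf t632)) (.leaf t376)) (.node (.leaf t248) (.leaf t504))))))) (.node (.node (.node (.node (.node (.node (.node (.leaf t4) (.leaf t516)) (.leaf t260)) (.node (.node (.leaf t132)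 (.leaf t644)) (.leaf t388))) (.node (.node (.node (.leaf t68) (.leaf t580)) (.leaf t324)) (.node (.leaf t196) (.leaf t452)))) (.node (.node (.node (.node (.leaf t36) (.leaf t548)) (.leaf t292)) (.node (.leaf t164) (.leaf t420))) (.node (.node (.node (.leaf t100) (.leaf t612)) (.leaf t356)) (.node (.leaf t228) (.leaf t484))))) (.node (.node (.node (.node (.node (.leaf t20) (.leaf t532)) (.leaf t276)) (.node (.node (.leaf t148) (.leaf t660)) (.leaf t404))) (.node (.node (.node (.leaf t84) (.leaf t596)) (.leaf t340)) (.node (.leaf t212) (.leaf t468)))) (.node (.node (.node (.node (.leaf t52) (.leaf t564)) (.leaf t308)) (.node (.leaf t180) (.leaf t436))) (.node (.node (.node (.leaf t116) (.leaf t628)) (.leaf t372)) (.node (.leaf t244) (.leaf t500)))))) (.node (.node (.node (.node (.node (.node (.leaf t12) (.leaf t524)) (.leaf t268)) (.node (.node (.leaf t140) (.leaf t652)) (.leaf t396))) (.node (.node (.node (.leaf t76) (.leaf t588)) (.leaf t332)) (.node (.leaf t204) (.leaf t460)))) (.node (.node (.node (.node (.leaf t44) (.leaf t556)) (.leaf t300)) (.node (.leaf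 t172) (.leaf t428))) (.node (.node (.node (.leaf t108) (.leaf t620)) (.leaf t364)) (.node (.leaf t236) (.leaf t492))))) (.node (.node (.node (.node (.node (.leaf t28) (.leaf t540)) (.leaf t284)) (.node (.node (.leaf t156) (.leaf t668)) (.leaf t412))) (.node (.node (.node (.leaf t92) (.leaf t604)) (.leaf t348)) (.node (.leaf t220) (.leaf t476)))) (.node (.node (.node (.node (.leaf t60) (.leaf t572)) (.leaf t316)) (.node (.leaf t188) (.leaf t444))) (.node (.node (.node (.leaf t124) (.leaf t636)) (.leaf t380)) (.node (.leaf t252) (.leaf t508)))))))) (.node (.node (.node (.node (.node (.node (.node (.node (.leaf t2) (.leaf t514)) (.leaf t258)) (.node (.node (.leaf t130) (.leaf t642)) (.leaf t386))) (.node (.node (.node (.leaf t66) (.leaf t578)) (.leaf t322)) (.node (.leaf t194) (.leaf t450)))) (.node (.node (.node (.node (.leaf t34) (.leaf t546)) (.leaf t290)) (.node (.leaf t162) (.leaf t418))) (.node (.node (.node (.leaf t98) (.leaf t610)) (.leaf t354)) (.node (.leaf t226) (.leaf t482))))) (.node (.node (.node (.node (.node (.leaf t18) (.leaf t530)) (.leaf t274))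 (.node (.node (.leaf t146) (.leaf t658)) (.leaf t402))) (.node (.node (.node (.leaf t82) (.leaf t594)) (.leaf t338)) (.node (.leaf t210) (.leaf t466)))) (.node (.node (.node (.node (.leaf t50) (.leaf t562)) (.leaf t306)) (.node (.leaf t178) (.leaf t434))) (.node (.node (.node (.leaf t114) (.leaf t626)) (.leaf t370)) (.node (.leaf t242) (.leaf t498)))))) (.node (.node (.node (.node (.node (.node (.leaf t10) (.leaf t522)) (.leaf t266)) (.node (.node (.leaf t138) (.leaf t650)) (.leaf t394))) (.node (.node (.node (.leaf t74) (.leaf t586)) (.leaf t330)) (.node (.leaf t202) (.leaf t458)))) (.node (.node (.node (.node (.leaf t42) (.leaf t554)) (.leaf t298)) (.node (.leaf t170) (.leaf t426))) (.node (.node (.node (.leaf t106) (.leaf t618)) (.leaf t362)) (.node (.leaf t234) (.leaf t490))))) (.node (.node (.node (.node (.node (.leaf t26) (.leaf t538)) (.leaf t282)) (.node (.node (.leaf t154) (.leaf t666)) (.leaf t410))) (.node (.node (.node (.leaf t90) (.leaf t602)) (.leaf t346)) (.node (.leaf t218) (.leaf t474)))) (.node (.node (.node (.node (.leaf t58) (.leaf t570))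 (.leaf t314)) (.node (.leaf t186) (.leaf t442))) (.node (.node (.node (.leaf t122) (.leaf t634)) (.leaf t378)) (.node (.leaf t250) (.leaf t506))))))) (.node (.node (.node (.node (.node (.node (.node (.leaf t6) (.leaf t518)) (.leaf t262)) (.node (.node (.leaf t134) (.leaf t646)) (.leaf t390))) (.node (.node (.node (.leaf t70) (.leaf t582)) (.leaf t326)) (.node (.leaf t198) (.leaf t454)))) (.node (.node (.node (.node (.leaf t38) (.leaf t550)) (.leaf t294)) (.node (.leaf t166) (.leaf t422))) (.node (.node (.node (.leaf t102) (.leaf t614)) (.leaf t358)) (.node (.leaf t230) (.leaf t486))))) (.node (.node (.node (.node (.node (.leaf t22) (.leaf t534)) (.leaf t278)) (.node (.node (.leaf t150) (.leaf t662)) (.leaf t406))) (.node (.node (.node (.leaf t86) (.leaf t598)) (.leaf t342)) (.node (.leaf t214) (.leaf t470)))) (.node (.node (.node (.node (.leaf t54) (.leaf t566)) (.leaf t310)) (.node (.leaf t182) (.leaf t438))) (.node (.node (.node (.leaf t118) (.leaf t630)) (.leaf t374)) (.node (.leaf t246) (.leaf t502)))))) (.node (.node (.node (.node (.node (.node (.leaf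 t14) (.leaf t526)) (.leaf t270)) (.node (.node (.leaf t142) (.leaf t654)) (.leaf t398))) (.node (.node (.node (.leaf t78) (.leaf t590)) (.leaf t334)) (.node (.leaf t206) (.leaf t462)))) (.node (.node (.node (.node (.leaf t46) (.leaf t558)) (.leaf t302)) (.node (.leaf t174) (.leaf t430))) (.node (.node (.node (.leaf t110) (.leaf t622)) (.leaf t366)) (.node (.leaf t238) (.leaf t494))))) (.node (.node (.node (.node (.node (.leaf t30) (.leaf t542)) (.leaf t286)) (.node (.node (.leaf t158) (.leaf t670)) (.leaf t414))) (.node (.node (.node (.leaf t94) (.leaf t606)) (.leaf t350)) (.node (.leaf t222) (.leaf t478)))) (.node (.node (.node (.node (.leaf t62) (.leaf t574)) (.leaf t318)) (.node (.leaf t190) (.leaf t446))) (.node (.node (.node (.leaf t126) (.leaf t638)) (.leaf t382)) (.node (.leaf t254) (.leaf t510))))))))) (.node (.node (.node (.node (.node (.node (.node (.node (.node (.leaf t1) (.leaf t513)) (.leaf t257)) (.node (.node (.leaf t129) (.leaf t641)) (.leaf t385))) (.node (.node (.node (.leaf t65) (.leaf t577)) (.leaf t321)) (.node (.leaf t193) (.leaf t449))))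 (.node (.node (.node (.node (.leaf t33) (.leaf t545)) (.leaf t289)) (.node (.leaf t161) (.leaf t417))) (.node (.node (.node (.leaf t97) (.leaf t609)) (.leaf t353)) (.node (.leaf t225) (.leaf t481))))) (.node (.node (.node (.node (.node (.leaf t17) (.leaf t529)) (.leaf t273)) (.node (.node (.leaf t145) (.leaf t657)) (.leaf t401))) (.node (.node (.node (.leaf t81) (.leaf t593)) (.leaf t337)) (.node (.leaf t209) (.leaf t465)))) (.node (.node (.node (.node (.leaf t49) (.leaf t561)) (.leaf t305)) (.node (.leaf t177) (.leaf t433))) (.node (.node (.node (.leaf t113) (.leaf t625)) (.leaf t369)) (.node (.leaf t241) (.leaf t497)))))) (.node (.node (.node (.node (.node (.node (.leaf t9) (.leaf t521)) (.leaf t265)) (.node (.node (.leaf t137) (.leaf t649)) (.leaf t393))) (.node (.node (.node (.leaf t73) (.leaf t585)) (.leaf t329)) (.node (.leaf t201) (.leaf t457)))) (.node (.node (.node (.node (.leaf t41) (.leaf t553)) (.leaf t297)) (.node (.leaf t169) (.leaf t425))) (.node (.node (.node (.leaf t105) (.leaf t617)) (.leaf t361)) (.node (.leaf t233) (.leaf t489))))) (.node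 (.node (.node (.node (.node (.leaf t25) (.leaf t537)) (.leaf t281)) (.node (.node (.leaf t153) (.leaf t665)) (.leaf t409))) (.node (.node (.node (.leaf t89) (.leaf t601)) (.leaf t345)) (.node (.leaf t217) (.leaf t473)))) (.node (.node (.node (.node (.leaf t57) (.leaf t569)) (.leaf t313)) (.node (.leaf t185) (.leaf t441))) (.node (.node (.node (.leaf t121) (.leaf t633)) (.leaf t377)) (.node (.leaf t249) (.leaf t505))))))) (.node (.node (.node (.node (.node (.node (.node (.leaf t5) (.leaf t517)) (.leaf t261)) (.node (.node (.leaf t133) (.leaf t645)) (.leaf t389))) (.node (.node (.node (.leaf t69) (.leaf t581)) (.leaf t325)) (.node (.leaf t197) (.leaf t453)))) (.node (.node (.node (.node (.leaf t37) (.leaf t549)) (.leaf t293)) (.node (.leaf t165) (.leaf t421))) (.node (.node (.node (.leaf t101) (.leaf t613)) (.leaf t357)) (.node (.leaf t229) (.leaf t485))))) (.node (.node (.node (.node (.node (.leaf t21) (.leaf t533)) (.leaf t277)) (.node (.node (.leaf t149) (.leaf t661)) (.leaf t405))) (.node (.node (.node (.leaf t85) (.leaf t597)) (.leaf t341)) (.node (.leaf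 t213) (.leaf t469)))) (.node (.node (.node (.node (.leaf t53) (.leaf t565)) (.leaf t309)) (.node (.leaf t181) (.leaf t437))) (.node (.node (.node (.leaf t117) (.leaf t629)) (.leaf t373)) (.node (.leaf t245) (.leaf t501)))))) (.node (.node (.node (.node (.node (.node (.leaf t13) (.leaf t525)) (.leaf t269)) (.node (.node (.leaf t141) (.leaf t653)) (.leaf t397))) (.node (.node (.node (.leaf t77) (.leaf t589)) (.leaf t333)) (.node (.leaf t205) (.leaf t461)))) (.node (.node (.node (.node (.leaf t45) (.leaf t557)) (.leaf t301)) (.node (.leaf t173) (.leaf t429))) (.node (.node (.node (.leaf t109) (.leaf t621)) (.leaf t365)) (.node (.leaf t237) (.leaf t493))))) (.node (.node (.node (.node (.node (.leaf t29) (.leaf t541)) (.leaf t285)) (.node (.node (.leaf t157) (.leaf t669)) (.leaf t413))) (.node (.node (.node (.leaf t93) (.leaf t605)) (.leaf t349)) (.node (.leaf t221) (.leaf t477)))) (.node (.node (.node (.node (.leaf t61) (.leaf t573)) (.leaf t317)) (.node (.leaf t189) (.leaf t445))) (.node (.node (.node (.leaf t125) (.leaf t637)) (.leaf t381)) (.node (.leaf t253)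 (.leaf t509)))))))) (.node (.node (.node (.node (.node (.node (.node (.node (.leaf t3) (.leaf t515)) (.leaf t259)) (.node (.node (.leaf t131) (.leaf t643)) (.leaf t387))) (.node (.node (.node (.leaf t67) (.leaf t579)) (.leaf t323)) (.node (.leaf t195) (.leaf t451)))) (.node (.node (.node (.node (.leaf t35) (.leaf t547)) (.leaf t291)) (.node (.leaf t163) (.leaf t419))) (.node (.node (.node (.leaf t99) (.leaf t611)) (.leaf t355)) (.node (.leaf t227) (.leaf t483))))) (.node (.node (.node (.node (.node (.leaf t19) (.leaf t531)) (.leaf t275)) (.node (.node (.leaf t147) (.leaf t659)) (.leaf t403))) (.node (.node (.node (.leaf t83) (.leaf t595)) (.leaf t339)) (.node (.leaf t211) (.leaf t467)))) (.node (.node (.node (.node (.leaf t51) (.leaf t563)) (.leaf t307)) (.node (.leaf t179) (.leaf t435))) (.node (.node (.node (.leaf t115) (.leaf t627)) (.leaf t371)) (.node (.leaf t243) (.leaf t499)))))) (.node (.node (.node (.node (.node (.node (.leaf t11) (.leaf t523)) (.leaf t267)) (.node (.node (.leaf t139) (.leaf t651)) (.leaf t395))) (.node (.node (.node (.leaf t75) (.leaf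 t587)) (.leaf t331)) (.node (.leaf t203) (.leaf t459)))) (.node (.node (.node (.node (.leaf t43) (.leaf t555)) (.leaf t299)) (.node (.leaf t171) (.leaf t427))) (.node (.node (.node (.leaf t107) (.leaf t619)) (.leaf t363)) (.node (.leaf t235) (.leaf t491))))) (.node (.node (.node (.node (.node (.leaf t27) (.leaf t539)) (.leaf t283)) (.node (.node (.leaf t155) (.leaf t667)) (.leaf t411))) (.node (.node (.node (.leaf t91) (.leaf t603)) (.leaf t347)) (.node (.leaf t219) (.leaf t475)))) (.node (.node (.node (.node (.leaf t59) (.leaf t571)) (.leaf t315)) (.node (.leaf t187) (.leaf t443))) (.node (.node (.node (.leaf t123) (.leaf t635)) (.leaf t379)) (.node (.leaf t251) (.leaf t507))))))) (.node (.node (.node (.node (.node (.node (.node (.leaf t7) (.leaf t519)) (.leaf t263)) (.node (.node (.leaf t135) (.leaf t647)) (.leaf t391))) (.node (.node (.node (.leaf t71) (.leaf t583)) (.leaf t327)) (.node (.leaf t199) (.leaf t455)))) (.node (.node (.node (.node (.leaf t39) (.leaf t551)) (.leaf t295)) (.node (.leaf t167) (.leaf t423))) (.node (.node (.node (.leaf t103) (.leaf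 t615)) (.leaf t359)) (.node (.leaf t231) (.leaf t487))))) (.node (.node (.node (.node (.node (.leaf t23) (.leaf t535)) (.leaf t279)) (.node (.node (.leaf t151) (.leaf t663)) (.leaf t407))) (.node (.node (.node (.leaf t87) (.leaf t599)) (.leaf t343)) (.node (.leaf t215) (.leaf t471)))) (.node (.node (.node (.node (.leaf t55) (.leaf t567)) (.leaf t311)) (.node (.leaf t183) (.leaf t439))) (.node (.node (.node (.leaf t119) (.leaf t631)) (.leaf t375)) (.node (.leaf t247) (.leaf t503)))))) (.node (.node (.node (.node (.node (.node (.leaf t15) (.leaf t527)) (.leaf t271)) (.node (.node (.leaf t143) (.leaf t655)) (.leaf t399))) (.node (.node (.node (.leaf t79) (.leaf t591)) (.leaf t335)) (.node (.leaf t207) (.leaf t463)))) (.node (.node (.node (.node (.leaf t47) (.leaf t559)) (.leaf t303)) (.node (.leaf t175) (.leaf t431))) (.node (.node (.node (.leaf t111) (.leaf t623)) (.leaf t367)) (.node (.leaf t239) (.leaf t495))))) (.node (.node (.node (.node (.node (.leaf t31) (.leaf t543)) (.leaf t287)) (.node (.node (.leaf t159) (.leaf t671)) (.leaf t415))) (.node (.node (.node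 (.leaf t95) (.leaf t607)) (.leaf t351)) (.node (.leaf t223) (.leaf t479)))) (.node (.node (.node (.node (.leaf t63) (.leaf t575)) (.leaf t319)) (.node (.leaf t191) (.leaf t447))) (.node (.node (.node (.leaf t127) (.leaf t639)) (.leaf t383)) (.node (.leaf t255) (.leaf t511))))))))))
noncomputable def T (x : ℕ) : ℕ := sprd (TT.get x) sa
noncomputable def u0 : ℕ := 0x1b622c08f
noncomputable def u1 : ℕ := 0x833aec08a
noncomputable def u2 : ℕ := 0xd10220c81
noncomputable def u3 : ℕ := 0x1b61ed08e
noncomputable def u4 : ℕ := 0x70f5e7fbd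
noncomputable def u5 : ℕ := 0x750c7def8
noncomputable def u6 : ℕ := 0x39bb6a08a
noncomputable def u7 : ℕ := 0xb5016908c
noncomputable def u8 : ℕ := 0xfc36c445e
noncomputable def u9 : ℕ := 0x80b4c4649
noncomputable def u10 : ℕ := 0x11f1ef08e
noncomputable def u11 : ℕ := 0x1b63e5081
noncomputable def u12 : ℕ := 0x810c7dec9
noncomputable def u13 : ℕ := 0x99620471f
noncomputable def u14 : ℕ := 0x32fde8f6d
noncomputable def u15 : ℕ := 0x3502690ac
noncomputable def u16 : ℕ := 0x150b745c1
noncomputable def u17 : ℕ := 0xdc7c6aeef
noncomputable def u18 : ℕ := 0xf8e204699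
noncomputable def u19 : ℕ := 0xb5064478c
noncomputable def u20 : ℕ := 0x17fb610ae
noncomputable def u21 : ℕ := 0x1f70630af
noncomputable def u22 : ℕ := 0x5a6224d01
noncomputable def u23 : ℕ := 0x80b4446d8
noncomputable def u24 : ℕ := 0xd10f71581
noncomputable def u25 : ℕ := 0x7b3567f3f
noncomputable def u26 : ℕ := 0x11057d7dc
noncomputable def u27 : ℕ := 0xdc77c455e
noncomputable def u28 : ℕ := 0x110234581
noncomputable def u29 : ℕ := 0xbb222808f
noncomputable def u30 : ℕ := 0x76fd79ffc
noncomputable def u31 : ℕ := 0xbdf1c4089
noncomputable def u32 : ℕ := 0xb9edfbf4f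
noncomputable def u33 : ℕ := 0x1b2226081
noncomputable def u34 : ℕ := 0x710224fbd
noncomputable def u35 : ℕ := 0xb9e3c4088
noncomputable def u36 : ℕ := 0x3ba22e0ab
noncomputable def u37 : ℕ := 0x7ae224f3f
noncomputable def u38 : ℕ := 0xbe3ef8f8e
noncomputable def u39 : ℕ := 0xd86204481
noncomputable def u40 : ℕ := 0x8028efeea
noncomputable def u41 : ℕ := 0x52fdf0dbe
noncomputable def u42 : ℕ := 0xd6e8fa5ff
noncomputable def u43 : ℕ := 0x81b0c464a
noncomputable def u44 : ℕ := 0x5e7a65d41
noncomputable def u45 : ℕ := 0x7ef86df68
noncomputable def u46 : ℕ := 0x527ff0d81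
noncomputable def u47 : ℕ := 0x5e7fe4d41
noncomputable def u48 : ℕ := 0xbba2200ab
noncomputable def u49 : ℕ := 0xd86dfb53e
noncomputable def u50 : ℕ := 0xb10238f8d
noncomputable def u51 : ℕ := 0x810075cf9
noncomputable def u52 : ℕ := 0x823e75cc1
noncomputable def u53 : ℕ := 0x55ecffe4f
noncomputable def u54 : ℕ := 0x83b8ec0a9
noncomputable def u55 : ℕ := 0x550a65dc1
noncomputable def u56 : ℕ := 0xf8e9ebcdf
noncomputable def u57 : ℕ := 0x80b24465a
noncomputable def u58 : ℕ := 0xf8ebe3ef8
noncomputable def u59 : ℕ := 0x3102240ad
noncomputable def u60 : ℕ := 0xb102200a9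
noncomputable def u61 : ℕ := 0x30623e53b
noncomputable def u62 : ℕ := 0x8228f66ea
noncomputable def u63 : ℕ := 0xb9314408f
noncomputable def u64 : ℕ := 0xf102307a9
noncomputable def u65 : ℕ := 0xd10d795bc
noncomputable def u66 : ℕ := 0x82bcffe49
noncomputable def u67 : ℕ := 0xd0f5c459e
noncomputable def u68 : ℕ := 0x3be5f576f
noncomputable def u69 : ℕ := 0x910230d81
noncomputable def u70 : ℕ := 0x7764f965a
noncomputable def u71 : ℕ := 0x5a6232481
noncomputable def u72 : ℕ := 0x1500610ad
noncomputable def u73 : ℕ := 0x150b61ffc
noncomputable def u74 : ℕ := 0x55ff7ee0e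
noncomputable def u75 : ℕ := 0xb768e20aa
noncomputable def u76 : ℕ := 0x950a60081
noncomputable def u77 : ℕ := 0x1c2be3dc1
noncomputable def u78 : ℕ := 0x82b27fe7a
noncomputable def u79 : ℕ := 0xf3f9ebc5d
noncomputable def u80 : ℕ := 0x71022cfa9
noncomputable def u81 : ℕ := 0xb1014408d
noncomputable def u82 : ℕ := 0xf1054479d
noncomputable def u83 : ℕ := 0xd57744401
noncomputable def u84 : ℕ := 0x36e6e9f2c
noncomputable def u85 : ℕ := 0x577f71401
noncomputable def u86 : ℕ := 0x82386dc5b
noncomputable def u87 : ℕ := 0x510224d81
noncomputable def u88 : ℕ := 0x10f5ff75e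
noncomputable def u89 : ℕ := 0xf8b34465a
noncomputable def u90 : ℕ := 0x1b6fe2d41
noncomputable def u91 : ℕ := 0x1c36e3d81
noncomputable def u92 : ℕ := 0x83a8ee0ab
noncomputable def u93 : ℕ := 0x16fb61f7e
noncomputable def u94 : ℕ := 0x1f2be6081
noncomputable def u95 : ℕ := 0x8132f7c41
noncomputable def u96 : ℕ := 0xf50544699
noncomputable def u97 : ℕ := 0x810a7c6d8
noncomputable def u98 : ℕ := 0x3fb8ef0aa
noncomputable def u99 : ℕ := 0xd50e60cc1
noncomputable def u100 : ℕ := 0xfbbf7172a
noncomputable def u101 : ℕ := 0x7ae23a4bf
noncomputable def u102 : ℕ := 0x82a23e4bb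
noncomputable def u103 : ℕ := 0x79a23af0b
noncomputable def u104 : ℕ := 0xfcfe6acde
noncomputable def u105 : ℕ := 0xf103446d8
noncomputable def u106 : ℕ := 0xde27e1c01
noncomputable def u107 : ℕ := 0x810644688
noncomputable def u108 : ℕ := 0x81066dea8
noncomputable def u109 : ℕ := 0xb2e23af0d
noncomputable def u110 : ℕ := 0x147b76541
noncomputable def u111 : ℕ := 0x996be3081
noncomputable def u112 : ℕ := 0x3ff46bd18
noncomputable def u113 : ℕ := 0x150e75581
noncomputable def u114 : ℕ := 0x3ff86d0a8
noncomputable def u115 : ℕ := 0xd507445dc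
noncomputable def u116 : ℕ := 0xf7eeeac5c
noncomputable def u117 : ℕ := 0x7cadfb61b
noncomputable def u118 : ℕ := 0x833667c01
noncomputable def u119 : ℕ := 0xfebce0e7a
noncomputable def u120 : ℕ := 0x7ef27bf7e
noncomputable def u121 : ℕ := 0x833af4441
noncomputable def u122 : ℕ := 0x81223ee3b
noncomputable def u123 : ℕ := 0x110365081
noncomputable def u124 : ℕ := 0x7efe75cfe
noncomputable def u125 : ℕ := 0xb9e20470f
noncomputable def u126 : ℕ := 0x83386d08b
noncomputable def u127 : ℕ := 0x1f7be3d41
noncomputable def u128 : ℕ := 0x910d79ffc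
noncomputable def u129 : ℕ := 0xfcf5c449e
noncomputable def u130 : ℕ := 0xdc704455f
noncomputable def u131 : ℕ := 0x810a65ef8
noncomputable def u132 : ℕ := 0x950371dc1
noncomputable def u133 : ℕ := 0x747d6efeb
noncomputable def u134 : ℕ := 0x11016d08c
noncomputable def u135 : ℕ := 0x81b0e70a9
noncomputable def u136 : ℕ := 0x8104756e9
noncomputable def u137 : ℕ := 0x750279ffc
noncomputable def u138 : ℕ := 0x810a6c088
noncomputable def u139 : ℕ := 0x82a234cbb
noncomputable def u140 : ℕ := 0x832226e3b
noncomputable def u141 : ℕ := 0xb5714408b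
noncomputable def u142 : ℕ := 0xbcb4c459a
noncomputable def u143 : ℕ := 0x996204501
noncomputable def u144 : ℕ := 0x3509640ac
noncomputable def u145 : ℕ := 0x550f71dfc
noncomputable def u146 : ℕ := 0xb362220ab
noncomputable def u147 : ℕ := 0x3ff9ebf6e
noncomputable def u148 : ℕ := 0x510765d81
noncomputable def u149 : ℕ := 0x99622a0af
noncomputable def u150 : ℕ := 0xd9a20451d
noncomputable def u151 : ℕ := 0xdc76444c1
noncomputable def u152 : ℕ := 0x1b6224081
noncomputable def u153 : ℕ := 0x150a65081
noncomputable def u154 : ℕ := 0x8100444d9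
noncomputable def u155 : ℕ := 0x1107755c1
noncomputable def u156 : ℕ := 0x83a23462b
noncomputable def u157 : ℕ := 0x83a0e50ab
noncomputable def u158 : ℕ := 0x982204581
noncomputable def u159 : ℕ := 0x80a20449b
noncomputable def u160 : ℕ := 0x1173e7081
noncomputable def u161 : ℕ := 0xf10228c9d
noncomputable def u162 : ℕ := 0x8036444c1
noncomputable def u163 : ℕ := 0x9969eb0ae
noncomputable def u164 : ℕ := 0x910b61081
noncomputable def u165 : ℕ := 0x53e23062f
noncomputable def u166 : ℕ := 0xbdf24408e
noncomputable def u167 : ℕ := 0x8132c4441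
noncomputable def u168 : ℕ := 0xdfa7f957c
noncomputable def u169 : ℕ := 0x3be22c0a9
noncomputable def u170 : ℕ := 0xfcf5c4749
noncomputable def u171 : ℕ := 0x802ae7cc1
noncomputable def u172 : ℕ := 0x83a23c439
noncomputable def u173 : ℕ := 0x350669fac
noncomputable def u174 : ℕ := 0xf10220eb9
noncomputable def u175 : ℕ := 0x1b6de2f7e
noncomputable def u176 : ℕ := 0xd1e20460f
noncomputable def u177 : ℕ := 0xf675737eb
noncomputable def u178 : ℕ := 0x74eae7ffc
noncomputable def u179 : ℕ := 0x5aa23ee0d
noncomputable def u180 : ℕ := 0xd477445c1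
noncomputable def u181 : ℕ := 0x3c29ebfee
noncomputable def u182 : ℕ := 0x5ab17fe4c
noncomputable def u183 : ℕ := 0x710f78f88
noncomputable def u184 : ℕ := 0x150b610ac
noncomputable def u185 : ℕ := 0xfca5c461b
noncomputable def u186 : ℕ := 0xb0f5c474d
noncomputable def u187 : ℕ := 0x82bcece69
noncomputable def u188 : ℕ := 0x3102347ad
noncomputable def u189 : ℕ := 0x8036c445a
noncomputable def u190 : ℕ := 0xf8e20449f
noncomputable def u191 : ℕ := 0x156ae7081
noncomputable def u192 : ℕ := 0x80a22ec9b
noncomputable def u193 : ℕ := 0x81086dcd9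
noncomputable def u194 : ℕ := 0x93e22a0af
noncomputable def u195 : ℕ := 0xbd32c408e
noncomputable def u196 : ℕ := 0x7aeffaf08
noncomputable def u197 : ℕ := 0x9d7644501
noncomputable def u198 : ℕ := 0xdc77ebeae
noncomputable def u199 : ℕ := 0x31023c5b9
noncomputable def u200 : ℕ := 0x950e70d81
noncomputable def u201 : ℕ := 0x81026d0a8
noncomputable def u202 : ℕ := 0x81a20460b
noncomputable def u203 : ℕ := 0x53f9f066e
noncomputable def u204 : ℕ := 0x5a67e5d01
noncomputable def u205 : ℕ := 0xdd27c4541
noncomputable def u206 : ℕ := 0x81027def8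
noncomputable def u207 : ℕ := 0xd1f1c464e
noncomputable def u208 : ℕ := 0x9d704408f
noncomputable def u209 : ℕ := 0x7e2df6c3e
noncomputable def u210 : ℕ := 0x832ee6c41
noncomputable def u211 : ℕ := 0x54e8efddf
noncomputable def u212 : ℕ := 0xb9e22a08f
noncomputable def u213 : ℕ := 0x7c36fb47e
noncomputable def u214 : ℕ := 0x810e75cf8
noncomputable def u215 : ℕ := 0x75086dfe8
noncomputable def u216 : ℕ := 0x823ef4c81
noncomputable def u217 : ℕ := 0x7efdfceb9
noncomputable def u218 : ℕ := 0x94f34475e
noncomputable def u219 : ℕ := 0xba3d79fcf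
noncomputable def u220 : ℕ := 0x510234c81
noncomputable def u221 : ℕ := 0x7efde4f7e
noncomputable def u222 : ℕ := 0x8222366ab
noncomputable def u223 : ℕ := 0xdc7a72541
noncomputable def u224 : ℕ := 0x8036c4481
noncomputable def u225 : ℕ := 0x3cb4ebd9a
noncomputable def u226 : ℕ := 0x910f71dc1
noncomputable def u227 : ℕ := 0x823077c7b
noncomputable def u228 : ℕ := 0x5a65edd1e
noncomputable def u229 : ℕ := 0x106236501
noncomputable def u230 : ℕ := 0x810244088
noncomputable def u231 : ℕ := 0x567f71dc1
noncomputable def u232 : ℕ := 0x5e7ff3481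
noncomputable def u233 : ℕ := 0x150461fbd
noncomputable def u234 : ℕ := 0x80222eeab
noncomputable def u235 : ℕ := 0xfb3d7971f
noncomputable def u236 : ℕ := 0x3109680ad
noncomputable def u237 : ℕ := 0x7fadeef6b
noncomputable def u238 : ℕ := 0x157b66081
noncomputable def u239 : ℕ := 0x80220468b
noncomputable def u240 : ℕ := 0x813e76c01
noncomputable def u241 : ℕ := 0x750d79fc9
noncomputable def u242 : ℕ := 0x7db0fbf4a
noncomputable def u243 : ℕ := 0x996222081
noncomputable def u244 : ℕ := 0xb5e2c408c
noncomputable def u245 : ℕ := 0x80a226eb9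
noncomputable def u246 : ℕ := 0x71023ceb9
noncomputable def u247 : ℕ := 0xf8e23a71f
noncomputable def u248 : ℕ := 0x3ea9fe5fb
noncomputable def u249 : ℕ := 0x5d32f3d41
noncomputable def u250 : ℕ := 0x9bb9690ac
noncomputable def u251 : ℕ := 0x832226c01
noncomputable def u252 : ℕ := 0xd077c4581
noncomputable def u253 : ℕ := 0x83bc7d438
noncomputable def u254 : ℕ := 0xb105447cd
noncomputable def u255 : ℕ := 0x976ae2081
noncomputable def u256 : ℕ := 0x18a222fbd
noncomputable def u257 : ℕ := 0x5d2ff3d41
noncomputable def u258 : ℕ := 0x80b4c449a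
noncomputable def u259 : ℕ := 0xda3b61c41
noncomputable def u260 : ℕ := 0x77fd7943c
noncomputable def u261 : ℕ := 0xbf21e908e
noncomputable def u262 : ℕ := 0xb9eff3d78
noncomputable def u263 : ℕ := 0x5fb8efd5d
noncomputable def u264 : ℕ := 0x3ab77f5fa
noncomputable def u265 : ℕ := 0xb107445d8
noncomputable def u266 : ℕ := 0x81b24408a
noncomputable def u267 : ℕ := 0xbabf71dfa
noncomputable def u268 : ℕ := 0xf564c465a
noncomputable def u269 : ℕ := 0x34f97676c
noncomputable def u270 : ℕ := 0x146ef7501
noncomputable def u271 : ℕ := 0x832ce6e7a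
noncomputable def u272 : ℕ := 0xd92204501
noncomputable def u273 : ℕ := 0x9ea3f9ffc
noncomputable def u274 : ℕ := 0x8236774c1
noncomputable def u275 : ℕ := 0x72e238fbd
noncomputable def u276 : ℕ := 0x9109690ac
noncomputable def u277 : ℕ := 0x82bcff4ba
noncomputable def u278 : ℕ := 0x11022c08d
noncomputable def u279 : ℕ := 0xd507715c1
noncomputable def u280 : ℕ := 0x93f9eb0ae
noncomputable def u281 : ℕ := 0xf8e7c4708
noncomputable def u282 : ℕ := 0x80bc66ef8
noncomputable def u283 : ℕ := 0xb9e204519
noncomputable def u284 : ℕ := 0x9ba2280ad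
noncomputable def u285 : ℕ := 0x9837445c1
noncomputable def u286 : ℕ := 0x7efdfb4be
noncomputable def u287 : ℕ := 0xb8220478f
noncomputable def u288 : ℕ := 0x1eabfe7dc
noncomputable def u289 : ℕ := 0x750d64ffc
noncomputable def u290 : ℕ := 0xfcf4446d8
noncomputable def u291 : ℕ := 0x82bcf4cba
noncomputable def u292 : ℕ := 0x1f7be4081
noncomputable def u293 : ℕ := 0x810e6ccd8
noncomputable def u294 : ℕ := 0x550f716ac
noncomputable def u295 : ℕ := 0x810c6cee9
noncomputable def u296 : ℕ := 0x802204481
noncomputable def u297 : ℕ := 0xfcf5fb75e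
noncomputable def u298 : ℕ := 0x39396a0af
noncomputable def u299 : ℕ := 0x926232d01
noncomputable def u300 : ℕ := 0xd5074468c
noncomputable def u301 : ℕ := 0x81ba6e08a
noncomputable def u302 : ℕ := 0xbdf1f3d79
noncomputable def u303 : ℕ := 0x5504716ed
noncomputable def u304 : ℕ := 0x3d32eb0ae
noncomputable def u305 : ℕ := 0x7efdfbf49
noncomputable def u306 : ℕ := 0x8324fd65a
noncomputable def u307 : ℕ := 0xd462c45c1
noncomputable def u308 : ℕ := 0xd50a705c1
noncomputable def u309 : ℕ := 0xb50144089
noncomputable def u310 : ℕ := 0x592232d01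
noncomputable def u311 : ℕ := 0x9d73c4541
noncomputable def u312 : ℕ := 0x812cffe7a
noncomputable def u313 : ℕ := 0xd50761c81
noncomputable def u314 : ℕ := 0x79223af3f
noncomputable def u315 : ℕ := 0x810444699
noncomputable def u316 : ℕ := 0xb501445d9
noncomputable def u317 : ℕ := 0x16e4e1f3f
noncomputable def u318 : ℕ := 0x1bb16f08c
noncomputable def u319 : ℕ := 0xfa2228c1f
noncomputable def u320 : ℕ := 0xb66cf2d3a
noncomputable def u321 : ℕ := 0x83223c61b
noncomputable def u322 : ℕ := 0x80387e47b
noncomputable def u323 : ℕ := 0x52e230dbf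
noncomputable def u324 : ℕ := 0x537bf0441
noncomputable def u325 : ℕ := 0x9102280ad
noncomputable def u326 : ℕ := 0x822234c81
noncomputable def u327 : ℕ := 0x3be2240af
noncomputable def u328 : ℕ := 0x1f7c7d71f
noncomputable def u329 : ℕ := 0x81a2c4088
noncomputable def u330 : ℕ := 0xfd25c475e
noncomputable def u331 : ℕ := 0x116226081
noncomputable def u332 : ℕ := 0xd93744501
noncomputable def u333 : ℕ := 0xdd32c4541
noncomputable def u334 : ℕ := 0x95f34408e
noncomputable def u335 : ℕ := 0x1db0e30ad
noncomputable def u336 : ℕ := 0x823eecc5a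
noncomputable def u337 : ℕ := 0xbea1f1dfb
noncomputable def u338 : ℕ := 0xd500445dd
noncomputable def u339 : ℕ := 0x9967c4541
noncomputable def u340 : ℕ := 0x81a236c39
noncomputable def u341 : ℕ := 0x10e23e71f
noncomputable def u342 : ℕ := 0x3ff9eb089
noncomputable def u343 : ℕ := 0x8106444d8
noncomputable def u344 : ℕ := 0x3b22260af
noncomputable def u345 : ℕ := 0x80b4efc9a
noncomputable def u346 : ℕ := 0x822236481
noncomputable def u347 : ℕ := 0xda2220c01
noncomputable def u348 : ℕ := 0x82aefee08
noncomputable def u349 : ℕ := 0x550071dfd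
noncomputable def u350 : ℕ := 0x82a4e5e3b
noncomputable def u351 : ℕ := 0xd0e20459f
noncomputable def u352 : ℕ := 0x80acff61b
noncomputable def u353 : ℕ := 0x81b444418
noncomputable def u354 : ℕ := 0xf502447dc
noncomputable def u355 : ℕ := 0x81086c0a9
noncomputable def u356 : ℕ := 0x7506794fc
noncomputable def u357 : ℕ := 0xd173c4441
noncomputable def u358 : ℕ := 0xfaa220e3b
noncomputable def u359 : ℕ := 0x310f68dd8
noncomputable def u360 : ℕ := 0xd8623a53f
noncomputable def u361 : ℕ := 0x3509747ec
noncomputable def u362 : ℕ := 0x813644401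
noncomputable def u363 : ℕ := 0x7d2dfbf7e
noncomputable def u364 : ℕ := 0x950361081
noncomputable def u365 : ℕ := 0xf9a20470b
noncomputable def u366 : ℕ := 0x1f7be30ae
noncomputable def u367 : ℕ := 0xf4f5447dc
noncomputable def u368 : ℕ := 0x7a2236c3f
noncomputable def u369 : ℕ := 0x833e75401
noncomputable def u370 : ℕ := 0xf2fdfb79d
noncomputable def u371 : ℕ := 0x823ef7481
noncomputable def u372 : ℕ := 0x73e23843d
noncomputable def u373 : ℕ := 0x71f1f7c7d
noncomputable def u374 : ℕ := 0xf505447c9
noncomputable def u375 : ℕ := 0x9965c475e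
noncomputable def u376 : ℕ := 0xb6f17bf4c
noncomputable def u377 : ℕ := 0xfcf872768
noncomputable def u378 : ℕ := 0x81a204419
noncomputable def u379 : ℕ := 0x5e2ff6c01
noncomputable def u380 : ℕ := 0x536230401
noncomputable def u381 : ℕ := 0x967373d41
noncomputable def u382 : ℕ := 0x73623861b
noncomputable def u383 : ℕ := 0x83b8efe6a
noncomputable def u384 : ℕ := 0xbdfe7af0e
noncomputable def u385 : ℕ := 0x81220461b
noncomputable def u386 : ℕ := 0xdca7c460c
noncomputable def u387 : ℕ := 0x726238f8b
noncomputable def u388 : ℕ := 0x1077f7541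
noncomputable def u389 : ℕ := 0x8330670ab
noncomputable def u390 : ℕ := 0x9503447dc
noncomputable def u391 : ℕ := 0x810044089
noncomputable def u392 : ℕ := 0x5e7ff3d7e
noncomputable def u393 : ℕ := 0x9b3b61081
noncomputable def u394 : ℕ := 0x823ef7c7a
noncomputable def u395 : ℕ := 0xb9e2220a9
noncomputable def u396 : ℕ := 0x810e7ce88
noncomputable def u397 : ℕ := 0x81086d089
noncomputable def u398 : ℕ := 0xd10228ead
noncomputable def u399 : ℕ := 0x1dabe30ac
noncomputable def u400 : ℕ := 0x937be3081
noncomputable def u401 : ℕ := 0xd10969eec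
noncomputable def u402 : ℕ := 0x833ae70aa
noncomputable def u403 : ℕ := 0xf5f54441c
noncomputable def u404 : ℕ := 0x812236c01
noncomputable def u405 : ℕ := 0x810a650a8
noncomputable def u406 : ℕ := 0x7bb76ff2a
noncomputable def u407 : ℕ := 0x7ef47b6d8
noncomputable def u408 : ℕ := 0x11023c79d
noncomputable def u409 : ℕ := 0xf9220471f
noncomputable def u410 : ℕ := 0x8220fdeca
noncomputable def u411 : ℕ := 0xb10230db9
noncomputable def u412 : ℕ := 0xfe25e9c1e
noncomputable def u413 : ℕ := 0x31622e0ab
noncomputable def u414 : ℕ := 0x37796908b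
noncomputable def u415 : ℕ := 0x3e3ef77ae
noncomputable def u416 : ℕ := 0x812ef7c41
noncomputable def u417 : ℕ := 0xb9e1c408f
noncomputable def u418 : ℕ := 0x9c23c45c1
noncomputable def u419 : ℕ := 0x7aedfaf3f
noncomputable def u420 : ℕ := 0x80a6c4608
noncomputable def u421 : ℕ := 0x526230d81
noncomputable def u422 : ℕ := 0x110224081
noncomputable def u423 : ℕ := 0xf505797dc
noncomputable def u424 : ℕ := 0xdcb4c464d
noncomputable def u425 : ℕ := 0xbdf1c474e
noncomputable def u426 : ℕ := 0xdc77f3541
noncomputable def u427 : ℕ := 0x9d73fbf7e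
noncomputable def u428 : ℕ := 0x593f72d01
noncomputable def u429 : ℕ := 0xf0620478b
noncomputable def u430 : ℕ := 0x9d73c408e
noncomputable def u431 : ℕ := 0x5e76734c1
noncomputable def u432 : ℕ := 0x310d68fed
noncomputable def u433 : ℕ := 0x350969089
noncomputable def u434 : ℕ := 0x7660f9fca
noncomputable def u435 : ℕ := 0x832234401
noncomputable def u436 : ℕ := 0x803e66cc1
noncomputable def u437 : ℕ := 0xdfb8f857d
noncomputable def u438 : ℕ := 0x1b6222f3f
noncomputable def u439 : ℕ := 0xf8e5c471f
noncomputable def u440 : ℕ := 0x95004408d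
noncomputable def u441 : ℕ := 0xb077c455a
noncomputable def u442 : ℕ := 0xf8e232729
noncomputable def u443 : ℕ := 0x81087c4f9
noncomputable def u444 : ℕ := 0xbda1c408b
noncomputable def u445 : ℕ := 0x5662f1dc1
noncomputable def u446 : ℕ := 0x59a232d3d
noncomputable def u447 : ℕ := 0x966ef2d01
noncomputable def u448 : ℕ := 0x350c7d5b8
noncomputable def u449 : ℕ := 0x3568ef0aa
noncomputable def u450 : ℕ := 0x8126c4441
noncomputable def u451 : ℕ := 0xf101444dd
noncomputable def u452 : ℕ := 0xd16204401
noncomputable def u453 : ℕ := 0x8326f5441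
noncomputable def u454 : ℕ := 0xf6eafa7dc
noncomputable def u455 : ℕ := 0xb26232d3b
noncomputable def u456 : ℕ := 0x9d73e3081
noncomputable def u457 : ℕ := 0x750d74cbc
noncomputable def u458 : ℕ := 0x82ba65e7a
noncomputable def u459 : ℕ := 0x3ff26b0ae
noncomputable def u460 : ℕ := 0x94e4c471f
noncomputable def u461 : ℕ := 0x81b0ffe4a
noncomputable def u462 : ℕ := 0xfdb0c474a
noncomputable def u463 : ℕ := 0x35086d0a8
noncomputable def u464 : ℕ := 0x80aef7628
noncomputable def u465 : ℕ := 0x3da9eb08b
noncomputable def u466 : ℕ := 0x80ba7e65a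
noncomputable def u467 : ℕ := 0x5e7073d7f
noncomputable def u468 : ℕ := 0xd86232501
noncomputable def u469 : ℕ := 0x95e0c408f
noncomputable def u470 : ℕ := 0x910238fbd
noncomputable def u471 : ℕ := 0x3a35777ef
noncomputable def u472 : ℕ := 0x59bd72d3c
noncomputable def u473 : ℕ := 0x8124c465a
noncomputable def u474 : ℕ := 0x7ae1f5cff
noncomputable def u475 : ℕ := 0x83a22ee2b
noncomputable def u476 : ℕ := 0xf50c60ef8
noncomputable def u477 : ℕ := 0x9ebcf8fbd
noncomputable def u478 : ℕ := 0x367969d5b
noncomputable def u479 : ℕ := 0xdc77c4481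
noncomputable def u480 : ℕ := 0x802226c81
noncomputable def u481 : ℕ := 0x51017decc
noncomputable def u482 : ℕ := 0x977363081
noncomputable def u483 : ℕ := 0x9d7c7af3f
noncomputable def u484 : ℕ := 0xd10b61cc1
noncomputable def u485 : ℕ := 0xb173c408a
noncomputable def u486 : ℕ := 0xbfb8e00aa
noncomputable def u487 : ℕ := 0xd6f77b5fe
noncomputable def u488 : ℕ := 0xb1f1c408d
noncomputable def u489 : ℕ := 0x81a0c408b
noncomputable def u490 : ℕ := 0x1ba22e08d
noncomputable def u491 : ℕ := 0x82a23ceb9
noncomputable def u492 : ℕ := 0x5e3ef7c41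
noncomputable def u493 : ℕ := 0x38a22ad9b
noncomputable def u494 : ℕ := 0x8036e7c81
noncomputable def u495 : ℕ := 0x327fe8d5a
noncomputable def u496 : ℕ := 0x31e2260ad
noncomputable def u497 : ℕ := 0x5a3377c41
noncomputable def u498 : ℕ := 0x1b3367081
noncomputable def u499 : ℕ := 0xd06204581
noncomputable def u500 : ℕ := 0xbdf444518
noncomputable def u501 : ℕ := 0x7aa23ee3b
noncomputable def u502 : ℕ := 0x8102446d8
noncomputable def u503 : ℕ := 0x550e75cc1
noncomputable def u504 : ℕ := 0x7077effaa
noncomputable def u505 : ℕ := 0x7ebcffe7a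
noncomputable def u506 : ℕ := 0xff3af875e
noncomputable def u507 : ℕ := 0x83a2ed0a8
noncomputable def u508 : ℕ := 0x51056dd9c
noncomputable def u509 : ℕ := 0x3be22af2f
noncomputable def u510 : ℕ := 0xd102385bd
noncomputable def u511 : ℕ := 0x182222d81
noncomputable def u512 : ℕ := 0x812204401
noncomputable def u513 : ℕ := 0x710234cbd
noncomputable def u514 : ℕ := 0x3ffe7572e
noncomputable def u515 : ℕ := 0x38222afaf
noncomputable def u516 : ℕ := 0x75eef7c7c
noncomputable def u517 : ℕ := 0x78397a47f
noncomputable def u518 : ℕ := 0x5caff362c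
noncomputable def u519 : ℕ := 0x9c36c4581
noncomputable def u520 : ℕ := 0x8104446c9
noncomputable def u521 : ℕ := 0xbdf1eb08e
noncomputable def u522 : ℕ := 0xd504446cd
noncomputable def u523 : ℕ := 0x810465eb9
noncomputable def u524 : ℕ := 0x3bebea088
noncomputable def u525 : ℕ := 0x7ae22cf29
noncomputable def u526 : ℕ := 0x150b64081
noncomputable def u527 : ℕ := 0xb8a20459b
noncomputable def u528 : ℕ := 0x5e7c7decf
noncomputable def u529 : ℕ := 0x1b6222d01
noncomputable def u530 : ℕ := 0xd7f76be2e
noncomputable def u531 : ℕ := 0x54ff6edde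
noncomputable def u532 : ℕ := 0xd7eceae6f
noncomputable def u533 : ℕ := 0xbc21c47ce
noncomputable def u534 : ℕ := 0x30e23672d
noncomputable def u535 : ℕ := 0x95034408c
noncomputable def u536 : ℕ := 0xf0e20479d
noncomputable def u537 : ℕ := 0x1f7bfc75e
noncomputable def u538 : ℕ := 0x80304445b
noncomputable def u539 : ℕ := 0xb50179fcc
noncomputable def u540 : ℕ := 0x8100650a9
noncomputable def u541 : ℕ := 0xb3e22a08d
noncomputable def u542 : ℕ := 0x98a20479d
noncomputable def u543 : ℕ := 0x81bc76c38
noncomputable def u544 : ℕ := 0x710d78fbd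
noncomputable def u545 : ℕ := 0x936222081
noncomputable def u546 : ℕ := 0xf27ff37aa
noncomputable def u547 : ℕ := 0x7173ffe7a
noncomputable def u548 : ℕ := 0xf506444dc
noncomputable def u549 : ℕ := 0x3f29e60ae
noncomputable def u550 : ℕ := 0x710b786d8
noncomputable def u551 : ℕ := 0x910220081
noncomputable def u552 : ℕ := 0x750d79699
noncomputable def u553 : ℕ := 0x92e23af3f
noncomputable def u554 : ℕ := 0x5cb4f366d
noncomputable def u555 : ℕ := 0xb4e6c470c
noncomputable def u556 : ℕ := 0x8022c44c1
noncomputable def u557 : ℕ := 0x8132c408a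
noncomputable def u558 : ℕ := 0x81b0c4089
noncomputable def u559 : ℕ := 0x82acfee3b
noncomputable def u560 : ℕ := 0x5a622cd1f
noncomputable def u561 : ℕ := 0x35f9660ac
noncomputable def u562 : ℕ := 0xb1022808d
noncomputable def u563 : ℕ := 0xd861c46ce
noncomputable def u564 : ℕ := 0xb10344088
noncomputable def u565 : ℕ := 0x7ae23a699
noncomputable def u566 : ℕ := 0xb50c70db8
noncomputable def u567 : ℕ := 0x9b2220081
noncomputable def u568 : ℕ := 0x31022c0a9
noncomputable def u569 : ℕ := 0x337be808a
noncomputable def u570 : ℕ := 0x80a4c461b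
noncomputable def u571 : ℕ := 0xf1023879d
noncomputable def u572 : ℕ := 0xf8314445f
noncomputable def u573 : ℕ := 0x3be7fd578
noncomputable def u574 : ℕ := 0xf10744788
noncomputable def u575 : ℕ := 0x350969dd9
noncomputable def u576 : ℕ := 0x92fdfbf7e
noncomputable def u577 : ℕ := 0x5e7ffce8e
noncomputable def u578 : ℕ := 0xb508600a8
noncomputable def u579 : ℕ := 0x83aaee088
noncomputable def u580 : ℕ := 0x37e2e90ac
noncomputable def u581 : ℕ := 0x8020c46ca
noncomputable def u582 : ℕ := 0x3ff9e40ae
noncomputable def u583 : ℕ := 0x757d7ee3b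
noncomputable def u584 : ℕ := 0xd9b54451c
noncomputable def u585 : ℕ := 0x95044479d
noncomputable def u586 : ℕ := 0x81a23ee0b
noncomputable def u587 : ℕ := 0xd863c44c1
noncomputable def u588 : ℕ := 0x81a8ef08b
noncomputable def u589 : ℕ := 0x9db0c408d
noncomputable def u590 : ℕ := 0x5fafeed5c
noncomputable def u591 : ℕ := 0xfcf24475e
noncomputable def u592 : ℕ := 0xf1620461b
noncomputable def u593 : ℕ := 0xf460c47ca
noncomputable def u594 : ℕ := 0x8222f5cc1
noncomputable def u595 : ℕ := 0x18bd62ffc
noncomputable def u596 : ℕ := 0xb9b34408a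
noncomputable def u597 : ℕ := 0x9f3ae0081
noncomputable def u598 : ℕ := 0xd10230581
noncomputable def u599 : ℕ := 0x83b26f0aa
noncomputable def u600 : ℕ := 0xd8620468f
noncomputable def u601 : ℕ := 0x82a6ede28
noncomputable def u602 : ℕ := 0x51023ce8d
noncomputable def u603 : ℕ := 0x346cff53a
noncomputable def u604 : ℕ := 0x810c7d699
noncomputable def u605 : ℕ := 0xffa5f176b
noncomputable def u606 : ℕ := 0xdaa228e2d
noncomputable def u607 : ℕ := 0x33f9e80ad
noncomputable def u608 : ℕ := 0x81304408b
noncomputable def u609 : ℕ := 0xb5024408c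
noncomputable def u610 : ℕ := 0x7f3ae7f7e
noncomputable def u611 : ℕ := 0x1f3ae7081
noncomputable def u612 : ℕ := 0xf37be3e7a
noncomputable def u613 : ℕ := 0xf50569c9c
noncomputable def u614 : ℕ := 0x81aae70a8
noncomputable def u615 : ℕ := 0x810e756a8
noncomputable def u616 : ℕ := 0x5a6bf24c1
noncomputable def u617 : ℕ := 0x11e22e08f
noncomputable def u618 : ℕ := 0x83a22ec19
noncomputable def u619 : ℕ := 0x82223ce8b
noncomputable def u620 : ℕ := 0xb7f16b08c
noncomputable def u621 : ℕ := 0x51022cd9d
noncomputable def u622 : ℕ := 0x9da3c408c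
noncomputable def u623 : ℕ := 0x1ebcff79d
noncomputable def u624 : ℕ := 0x3be22ad19
noncomputable def u625 : ℕ := 0x17e0e10af
noncomputable def u626 : ℕ := 0x550f64dc1
noncomputable def u627 : ℕ := 0xdab969e6c
noncomputable def u628 : ℕ := 0xf77563e3b
noncomputable def u629 : ℕ := 0xf508707e8
noncomputable def u630 : ℕ := 0x5a62326af
noncomputable def u631 : ℕ := 0x80b4f7669
noncomputable def u632 : ℕ := 0x510375cc1
noncomputable def u633 : ℕ := 0x550f74c81
noncomputable def u634 : ℕ := 0x8036ff47a
noncomputable def u635 : ℕ := 0x82a23e699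
noncomputable def u636 : ℕ := 0xf1e20441d
noncomputable def u637 : ℕ := 0xd566c4441
noncomputable def u638 : ℕ := 0x822af64c1
noncomputable def u639 : ℕ := 0xde3ee0c41
noncomputable def u640 : ℕ := 0x310b68088
noncomputable def u641 : ℕ := 0x810c7ceb9
noncomputable def u642 : ℕ := 0x5766f1441
noncomputable def u643 : ℕ := 0x1f7663d01
noncomputable def u644 : ℕ := 0xbdf8620a8
noncomputable def u645 : ℕ := 0x83ba650aa
noncomputable def u646 : ℕ := 0x1f7a65081
noncomputable def u647 : ℕ := 0x5a2236c01
noncomputable def u648 : ℕ := 0x83b46fc18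
noncomputable def u649 : ℕ := 0xb4714455b
noncomputable def u650 : ℕ := 0x78bb7a65a
noncomputable def u651 : ℕ := 0x82b47f6d8
noncomputable def u652 : ℕ := 0x81386e0ab
noncomputable def u653 : ℕ := 0x83b8ef089
noncomputable def u654 : ℕ := 0x98b5447dc
noncomputable def u655 : ℕ := 0x3ff9fc579
noncomputable def u656 : ℕ := 0x9d7a62081
noncomputable def u657 : ℕ := 0x833ae7c41
noncomputable def u658 : ℕ := 0x8132ef0aa
noncomputable def u659 : ℕ := 0x3be9ea0af
noncomputable def u660 : ℕ := 0x927ff3d41
noncomputable def u661 : ℕ := 0x5a69f26ee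
noncomputable def u662 : ℕ := 0x9f23e1081
noncomputable def u663 : ℕ := 0xd86ff3501
noncomputable def u664 : ℕ := 0xfcf5e3eb9
noncomputable def u665 : ℕ := 0x80a204699
noncomputable def u666 : ℕ := 0x81067d4f8
noncomputable def u667 : ℕ := 0x83b8f466a
noncomputable def u668 : ℕ := 0x7ae3fdef8
noncomputable def u669 : ℕ := 0x82bc7def8
noncomputable def u670 : ℕ := 0x7109784fd
noncomputable def u671 : ℕ := 0x183f62dc1
noncomputable def UU : Tr := (.node (.node (.node (.node (.node (.node (.node (.node (.node (.node (.leaf u0) (.leaf u512)) (.leaf u256)) (.node (.node (.leaf u128) (.leaf u640)) (.leaf u384))) (.node (.node (.node (.leaf u64) (.leaf u576)) (.leaf u320)) (.node (.leaf u192) (.leaf u448)))) (.node (.node (.node (.node (.leaf u32) (.leaf u544)) (.leaf u288)) (.node (.leaf u160) (.leaf u416))) (.node (.node (.node (.leaf u96) (.leaf u608)) (.leaf u352)) (.node (.leaf u224) (.leaf u480))))) (.node (.node (.node (.node (.node (.leaf u16) (.leaf u528)) (.leaf u272)) (.node (.node (.leaf u144) (.leaf u656)) (.leaf u400))) (.node (.node (.node (.leaf u80)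 (.leaf u592)) (.leaf u336)) (.node (.leaf u208) (.leaf u464)))) (.node (.node (.node (.node (.leaf u48) (.leaf u560)) (.leaf u304)) (.node (.leaf u176) (.leaf u432))) (.node (.node (.node (.leaf u112) (.leaf u624)) (.leaf u368)) (.node (.leaf u240) (.leaf u496)))))) (.node (.node (.node (.node (.node (.node (.leaf u8) (.leaf u520)) (.leaf u264)) (.node (.node (.leaf u136) (.leaf u648)) (.leaf u392))) (.node (.node (.node (.leaf u72) (.leaf u584)) (.leaf u328)) (.node (.leaf u200) (.leaf u456)))) (.node (.node (.node (.node (.leaf u40) (.leaf u552)) (.leaf u296)) (.node (.leaf u168) (.leaf u424))) (.node (.node (.node (.leaf u104) (.leaf u616)) (.leaf u360)) (.node (.leaf u232) (.leaf u488))))) (.node (.node (.node (.node (.node (.leaf u24) (.leaf u536)) (.leaf u280)) (.node (.node (.leaf u152) (.leaf u664)) (.leaf u408))) (.node (.node (.node (.leaf u88) (.leaf u600)) (.leaf u344)) (.node (.leaf u216) (.leaf u472)))) (.node (.node (.node (.node (.leaf u56) (.leaf u568)) (.leaf u312)) (.node (.leaf u184) (.leaf u440))) (.node (.node (.node (.leaf u120) (.leaf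 u632)) (.leaf u376)) (.node (.leaf u248) (.leaf u504))))))) (.node (.node (.node (.node (.node (.node (.node (.leaf u4) (.leaf u516)) (.leaf u260)) (.node (.node (.leaf u132) (.leaf u644)) (.leaf u388))) (.node (.node (.node (.leaf u68) (.leaf u580)) (.leaf u324)) (.node (.leaf u196) (.leaf u452)))) (.node (.node (.node (.node (.leaf u36) (.leaf u548)) (.leaf u292)) (.node (.leaf u164) (.leaf u420))) (.node (.node (.node (.leaf u100) (.leaf u612)) (.leaf u356)) (.node (.leaf u228) (.leaf u484))))) (.node (.node (.node (.node (.node (.leaf u20) (.leaf u532)) (.leaf u276)) (.node (.node (.leaf u148) (.leaf u660)) (.leaf u404))) (.node (.node (.node (.leaf u84) (.leaf u596)) (.leaf u340)) (.node (.leaf u212) (.leaf u468)))) (.node (.node (.node (.node (.leaf u52) (.leaf u564)) (.leaf u308)) (.node (.leaf u180) (.leaf u436))) (.node (.node (.node (.leaf u116) (.leaf u628)) (.leaf u372)) (.node (.leaf u244) (.leaf u500)))))) (.node (.node (.node (.node (.node (.node (.leaf u12) (.leaf u524)) (.leaf u268)) (.node (.node (.leaf u140) (.leaf u652)) (.leaf u396)))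 (.node (.node (.node (.leaf u76) (.leaf u588)) (.leaf u332)) (.node (.leaf u204) (.leaf u460)))) (.node (.node (.node (.node (.leaf u44) (.leaf u556)) (.leaf u300)) (.node (.leaf u172) (.leaf u428))) (.node (.node (.node (.leaf u108) (.leaf u620)) (.leaf u364)) (.node (.leaf u236) (.leaf u492))))) (.node (.node (.node (.node (.node (.leaf u28) (.leaf u540)) (.leaf u284)) (.node (.node (.leaf u156) (.leaf u668)) (.leaf u412))) (.node (.node (.node (.leaf u92) (.leaf u604)) (.leaf u348)) (.node (.leaf u220) (.leaf u476)))) (.node (.node (.node (.node (.leaf u60) (.leaf u572)) (.leaf u316)) (.node (.leaf u188) (.leaf u444))) (.node (.node (.node (.leaf u124) (.leaf u636)) (.leaf u380)) (.node (.leaf u252) (.leaf u508)))))))) (.node (.node (.node (.node (.node (.node (.node (.node (.leaf u2) (.leaf u514)) (.leaf u258)) (.node (.node (.leaf u130) (.leaf u642)) (.leaf u386))) (.node (.node (.node (.leaf u66) (.leaf u578)) (.leaf u322)) (.node (.leaf u194) (.leaf u450)))) (.node (.node (.node (.node (.leaf u34) (.leaf u546)) (.leaf u290)) (.node (.leaf u162) (.leaf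 u418))) (.node (.node (.node (.leaf u98) (.leaf u610)) (.leaf u354)) (.node (.leaf u226) (.leaf u482))))) (.node (.node (.node (.node (.node (.leaf u18) (.leaf u530)) (.leaf u274)) (.node (.node (.leaf u146) (.leaf u658)) (.leaf u402))) (.node (.node (.node (.leaf u82) (.leaf u594)) (.leaf u338)) (.node (.leaf u210) (.leaf u466)))) (.node (.node (.node (.node (.leaf u50) (.leaf u562)) (.leaf u306)) (.node (.leaf u178) (.leaf u434))) (.node (.node (.node (.leaf u114) (.leaf u626)) (.leaf u370)) (.node (.leaf u242) (.leaf u498)))))) (.node (.node (.node (.node (.node (.node (.leaf u10) (.leaf u522)) (.leaf u266)) (.node (.node (.leaf u138) (.leaf u650)) (.leaf u394))) (.node (.node (.node (.leaf u74) (.leaf u586)) (.leaf u330)) (.node (.leaf u202) (.leaf u458)))) (.node (.node (.node (.node (.leaf u42) (.leaf u554)) (.leaf u298)) (.node (.leaf u170) (.leaf u426))) (.node (.node (.node (.leaf u106) (.leaf u618)) (.leaf u362)) (.node (.leaf u234) (.leaf u490))))) (.node (.node (.node (.node (.node (.leaf u26) (.leaf u538)) (.leaf u282)) (.node (.node (.leaf u154)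 (.leaf u666)) (.leaf u410))) (.node (.node (.node (.leaf u90) (.leaf u602)) (.leaf u346)) (.node (.leaf u218) (.leaf u474)))) (.node (.node (.node (.node (.leaf u58) (.leaf u570)) (.leaf u314)) (.node (.leaf u186) (.leaf u442))) (.node (.node (.node (.leaf u122) (.leaf u634)) (.leaf u378)) (.node (.leaf u250) (.leaf u506))))))) (.node (.node (.node (.node (.node (.node (.node (.leaf u6) (.leaf u518)) (.leaf u262)) (.node (.node (.leaf u134) (.leaf u646)) (.leaf u390))) (.node (.node (.node (.leaf u70) (.leaf u582)) (.leaf u326)) (.node (.leaf u198) (.leaf u454)))) (.node (.node (.node (.node (.leaf u38) (.leaf u550)) (.leaf u294)) (.node (.leaf u166) (.leaf u422))) (.node (.node (.node (.leaf u102) (.leaf u614)) (.leaf u358)) (.node (.leaf u230) (.leaf u486))))) (.node (.node (.node (.node (.node (.leaf u22) (.leaf u534)) (.leaf u278)) (.node (.node (.leaf u150) (.leaf u662)) (.leaf u406))) (.node (.node (.node (.leaf u86) (.leaf u598)) (.leaf u342)) (.node (.leaf u214) (.leaf u470)))) (.node (.node (.node (.node (.leaf u54) (.leaf u566)) (.leaf u310)) (.node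 (.leaf u182) (.leaf u438))) (.node (.node (.node (.leaf u118) (.leaf u630)) (.leaf u374)) (.node (.leaf u246) (.leaf u502)))))) (.node (.node (.node (.node (.node (.node (.leaf u14) (.leaf u526)) (.leaf u270)) (.node (.node (.leaf u142) (.leaf u654)) (.leaf u398))) (.node (.node (.node (.leaf u78) (.leaf u590)) (.leaf u334)) (.node (.leaf u206) (.leaf u462)))) (.node (.node (.node (.node (.leaf u46) (.leaf u558)) (.leaf u302)) (.node (.leaf u174) (.leaf u430))) (.node (.node (.node (.leaf u110) (.leaf u622)) (.leaf u366)) (.node (.leaf u238) (.leaf u494))))) (.node (.node (.node (.node (.node (.leaf u30) (.leaf u542)) (.leaf u286)) (.node (.node (.leaf u158) (.leaf u670)) (.leaf u414))) (.node (.node (.node (.leaf u94) (.leaf u606)) (.leaf u350)) (.node (.leaf u222) (.leaf u478)))) (.node (.node (.node (.node (.leaf u62) (.leaf u574)) (.leaf u318)) (.node (.leaf u190) (.leaf u446))) (.node (.node (.node (.leaf u126) (.leaf u638)) (.leaf u382)) (.node (.leaf u254) (.leaf u510))))))))) (.node (.node (.node (.node (.node (.node (.node (.node (.node (.leaf u1)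 (.leaf u513)) (.leaf u257)) (.node (.node (.leaf u129) (.leaf u641)) (.leaf u385))) (.node (.node (.node (.leaf u65) (.leaf u577)) (.leaf u321)) (.node (.leaf u193) (.leaf u449)))) (.node (.node (.node (.node (.leaf u33) (.leaf u545)) (.leaf u289)) (.node (.leaf u161) (.leaf u417))) (.node (.node (.node (.leaf u97) (.leaf u609)) (.leaf u353)) (.node (.leaf u225) (.leaf u481))))) (.node (.node (.node (.node (.node (.leaf u17) (.leaf u529)) (.leaf u273)) (.node (.node (.leaf u145) (.leaf u657)) (.leaf u401))) (.node (.node (.node (.leaf u81) (.leaf u593)) (.leaf u337)) (.node (.leaf u209) (.leaf u465)))) (.node (.node (.node (.node (.leaf u49) (.leaf u561)) (.leaf u305)) (.node (.leaf u177) (.leaf u433))) (.node (.node (.node (.leaf u113) (.leaf u625)) (.leaf u369)) (.node (.leaf u241) (.leaf u497)))))) (.node (.node (.node (.node (.node (.node (.leaf u9) (.leaf u521)) (.leaf u265)) (.node (.node (.leaf u137) (.leaf u649)) (.leaf u393))) (.node (.node (.node (.leaf u73) (.leaf u585)) (.leaf u329)) (.node (.leaf u201) (.leaf u457)))) (.node (.node (.node (.node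 (.leaf u41) (.leaf u553)) (.leaf u297)) (.node (.leaf u169) (.leaf u425))) (.node (.node (.node (.leaf u105) (.leaf u617)) (.leaf u361)) (.node (.leaf u233) (.leaf u489))))) (.node (.node (.node (.node (.node (.leaf u25) (.leaf u537)) (.leaf u281)) (.node (.node (.leaf u153) (.leaf u665)) (.leaf u409))) (.node (.node (.node (.leaf u89) (.leaf u601)) (.leaf u345)) (.node (.leaf u217) (.leaf u473)))) (.node (.node (.node (.node (.leaf u57) (.leaf u569)) (.leaf u313)) (.node (.leaf u185) (.leaf u441))) (.node (.node (.node (.leaf u121) (.leaf u633)) (.leaf u377)) (.node (.leaf u249) (.leaf u505))))))) (.node (.node (.node (.node (.node (.node (.node (.leaf u5) (.leaf u517)) (.leaf u261)) (.node (.node (.leaf u133) (.leaf u645)) (.leaf u389))) (.node (.node (.node (.leaf u69) (.leaf u581)) (.leaf u325)) (.node (.leaf u197) (.leaf u453)))) (.node (.node (.node (.node (.leaf u37) (.leaf u549)) (.leaf u293)) (.node (.leaf u165) (.leaf u421))) (.node (.node (.node (.leaf u101) (.leaf u613)) (.leaf u357)) (.node (.leaf u229) (.leaf u485))))) (.node (.node (.node (.node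 (.node (.leaf u21) (.leaf u533)) (.leaf u277)) (.node (.node (.leaf u149) (.leaf u661)) (.leaf u405))) (.node (.node (.node (.leaf u85) (.leaf u597)) (.leaf u341)) (.node (.leaf u213) (.leaf u469)))) (.node (.node (.node (.node (.leaf u53) (.leaf u565)) (.leaf u309)) (.node (.leaf u181) (.leaf u437))) (.node (.node (.node (.leaf u117) (.leaf u629)) (.leaf u373)) (.node (.leaf u245) (.leaf u501)))))) (.node (.node (.node (.node (.node (.node (.leaf u13) (.leaf u525)) (.leaf u269)) (.node (.node (.leaf u141) (.leaf u653)) (.leaf u397))) (.node (.node (.node (.leaf u77) (.leaf u589)) (.leaf u333)) (.node (.leaf u205) (.leaf u461)))) (.node (.node (.node (.node (.leaf u45) (.leaf u557)) (.leaf u301)) (.node (.leaf u173) (.leaf u429))) (.node (.node (.node (.leaf u109) (.leaf u621)) (.leaf u365)) (.node (.leaf u237) (.leaf u493))))) (.node (.node (.node (.node (.node (.leaf u29) (.leaf u541)) (.leaf u285)) (.node (.node (.leaf u157) (.leaf u669)) (.leaf u413))) (.node (.node (.node (.leaf u93) (.leaf u605)) (.leaf u349)) (.node (.leaf u221) (.leaf u477)))) (.node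 (.node (.node (.node (.leaf u61) (.leaf u573)) (.leaf u317)) (.node (.leaf u189) (.leaf u445))) (.node (.node (.node (.leaf u125) (.leaf u637)) (.leaf u381)) (.node (.leaf u253) (.leaf u509)))))))) (.node (.node (.node (.node (.node (.node (.node (.node (.leaf u3) (.leaf u515)) (.leaf u259)) (.node (.node (.leaf u131) (.leaf u643)) (.leaf u387))) (.node (.node (.node (.leaf u67) (.leaf u579)) (.leaf u323)) (.node (.leaf u195) (.leaf u451)))) (.node (.node (.node (.node (.leaf u35) (.leaf u547)) (.leaf u291)) (.node (.leaf u163) (.leaf u419))) (.node (.node (.node (.leaf u99) (.leaf u611)) (.leaf u355)) (.node (.leaf u227) (.leaf u483))))) (.node (.node (.node (.node (.node (.leaf u19) (.leaf u531)) (.leaf u275)) (.node (.node (.leaf u147) (.leaf u659)) (.leaf u403))) (.node (.node (.node (.leaf u83) (.leaf u595)) (.leaf u339)) (.node (.leaf u211) (.leaf u467)))) (.node (.node (.node (.node (.leaf u51) (.leaf u563)) (.leaf u307)) (.node (.leaf u179) (.leaf u435))) (.node (.node (.node (.leaf u115) (.leaf u627)) (.leaf u371)) (.node (.leaf u243) (.leaf u499))))))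 (.node (.node (.node (.node (.node (.node (.leaf u11) (.leaf u523)) (.leaf u267)) (.node (.node (.leaf u139) (.leaf u651)) (.leaf u395))) (.node (.node (.node (.leaf u75) (.leaf u587)) (.leaf u331)) (.node (.leaf u203) (.leaf u459)))) (.node (.node (.node (.node (.leaf u43) (.leaf u555)) (.leaf u299)) (.node (.leaf u171) (.leaf u427))) (.node (.node (.node (.leaf u107) (.leaf u619)) (.leaf u363)) (.node (.leaf u235) (.leaf u491))))) (.node (.node (.node (.node (.node (.leaf u27) (.leaf u539)) (.leaf u283)) (.node (.node (.leaf u155) (.leaf u667)) (.leaf u411))) (.node (.node (.node (.leaf u91) (.leaf u603)) (.leaf u347)) (.node (.leaf u219) (.leaf u475)))) (.node (.node (.node (.node (.leaf u59) (.leaf u571)) (.leaf u315)) (.node (.leaf u187) (.leaf u443))) (.node (.node (.node (.leaf u123) (.leaf u635)) (.leaf u379)) (.node (.leaf u251) (.leaf u507))))))) (.node (.node (.node (.node (.node (.node (.node (.leaf u7) (.leaf u519)) (.leaf u263)) (.node (.node (.leaf u135) (.leaf u647)) (.leaf u391))) (.node (.node (.node (.leaf u71) (.leaf u583)) (.leaf u327))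 (.node (.leaf u199) (.leaf u455)))) (.node (.node (.node (.node (.leaf u39) (.leaf u551)) (.leaf u295)) (.node (.leaf u167) (.leaf u423))) (.node (.node (.node (.leaf u103) (.leaf u615)) (.leaf u359)) (.node (.leaf u231) (.leaf u487))))) (.node (.node (.node (.node (.node (.leaf u23) (.leaf u535)) (.leaf u279)) (.node (.node (.leaf u151) (.leaf u663)) (.leaf u407))) (.node (.node (.node (.leaf u87) (.leaf u599)) (.leaf u343)) (.node (.leaf u215) (.leaf u471)))) (.node (.node (.node (.node (.leaf u55) (.leaf u567)) (.leaf u311)) (.node (.leaf u183) (.leaf u439))) (.node (.node (.node (.leaf u119) (.leaf u631)) (.leaf u375)) (.node (.leaf u247) (.leaf u503)))))) (.node (.node (.node (.node (.node (.node (.leaf u15) (.leaf u527)) (.leaf u271)) (.node (.node (.leaf u143) (.leaf u655)) (.leaf u399))) (.node (.node (.node (.leaf u79) (.leaf u591)) (.leaf u335)) (.node (.leaf u207) (.leaf u463)))) (.node (.node (.node (.node (.leaf u47) (.leaf u559)) (.leaf u303)) (.node (.leaf u175) (.leaf u431))) (.node (.node (.node (.leaf u111) (.leaf u623)) (.leaf u367)) (.node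 (.leaf u239) (.leaf u495))))) (.node (.node (.node (.node (.node (.leaf u31) (.leaf u543)) (.leaf u287)) (.node (.node (.leaf u159) (.leaf u671)) (.leaf u415))) (.node (.node (.node (.leaf u95) (.leaf u607)) (.leaf u351)) (.node (.leaf u223) (.leaf u479)))) (.node (.node (.node (.node (.leaf u63) (.leaf u575)) (.leaf u319)) (.node (.leaf u191) (.leaf u447))) (.node (.node (.node (.leaf u127) (.leaf u639)) (.leaf u383)) (.node (.leaf u255) (.leaf u511))))))))))
noncomputable def hs : Lv := ⟨0, [], [], 0x1000b0203004700b80044006a00b600020000002c003d01d901c10000000000fb00730001001600020010000501da0025008a000401530037002d0002001b00050088000c01e0000000030005000100080025003c0009004a003e000c000000010000004b014401d40054003500200003017000000168002d000c00000066000000000000001e00040002006d0039000a001a00190004008e010a000b002a002f0056000b0004000a009f000800210024000f00070109001100160016000c0072002100010017015100000000000a01590002000a0000000001db000100000040001d00e4002300000004000300aa000000000004000000c1010b001b00c10150001400520003007d000d00150005000100f6000000010007000700120029001500200044001c0026000000370003007e00020000001d0000002b001c00100000000800010000001d000100210015000a0019000c00070055000400000024000f003e0005004e000100030000002c0000001c000400680006000100520019001000010007000000070001002600010000005100010002002100000000000f000000080006000f00500018000200100000000500090008000200360053000200010005003d000000030009000e0005000200070017000100040005000200070001002b0001000a0001000600080011002a000300040002000200070004000b00000014000f0000000d00090008000a0029000000000000001200040000,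 872146958, 271, 672⟩
noncomputable def L0 : List ℕ := [ES62G.a1, ES62G.a1i, ES62G.a0, ES62G.a0i]
theorem g0 : famChk (S62M.C).mul (nthD L0 (S62M.C).one) UU.get π [0,2] 672 0 672 = true := by decide +kernel
theorem f0 : famChk C.mul (nthD tab C.one) T π [0,2] 672 0 672 = true := by decide +kernel
noncomputable def X : ℕ := 0x400050003000100010000000100000004000500040001000100010005000000040004000100050005000000060000000300030005000600020006000600000002000200000004000200040004000000000006000400020005000400040000000100040006000200040003000400000000000000000000000000000000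
noncomputable def Bi : ℕ := 0x3000400020005000200050000000300020004000000060005000500040006000000060004000600040006000600020000000300010006000600050002000500010004000200050005000200020000000500030000000100030001000400040006000600040006000000060005000100040004000600010005000400060006
theorem nor : norChk C.mul C.add C.one T 672 Z [(0, 282, 0), (0, 284, 0), (0, 296, 0), (0, 126, 0), (1, 1, 3), (2, 1, 3), (1, 0, 2), (2, 0, 6), (1, 1, 0), (2, 0, 7)] 0x30002000000000001000500060004 X
  [(0x500000000000000000000000000000000000000000000000000000000000000000000000000000000000000000000000000000000000000000000000000000000000000000000000000000000000000000000000000000000000000000000000000000000000000000000000000000000, 0)] (fun i => Nat.shiftLeft 1 (Nat.mul 128 i))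
  [(0, 9), (1, 7), (2, 6), (2, 8), (3, 7), (3, 8), (4, 6)] Bi = true := by decide +kernel
theorem act : ActOn (Matrix.symplecticGroup (Fin 3) (ZMod 2)) [0,2] π 672 :=
  actOn_of_conj (MonoidHom.id _) (S62M.can) (L := L0) (S := [0,2]) ES62G.good0 (MV.gen_id ES62L.gen) (MV.hk1 _) ((Cov.zero _).step g0) (h := hs.hsh) (by decide +kernel)
noncomputable def d1 : ℕ := 0x4000400050004000000020001000000030004000000020005000300000006000200000004000100030000000300020003000500060004000000040005000000000002000400000004000100050003000500040000000300060004000000020006000000040002000200000004000400000001000500000004000500030004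
noncomputable def d2 : ℕ := one
theorem base : baseChk C.mul C.one C.ent tab 4 4 2 1 [0,0,0,0] [0] = true := by decide +kernel
theorem main : HasU (Matrix.symplecticGroup (Fin 3) (ZMod 2)) (Multiplicative (ZMod 2 × ZMod 1)) :=
  haveI := S62M.simple
  haveI : Finite (Matrix.symplecticGroup (Fin 3) (ZMod 2)) := Nat.finite_of_card_ne_zero (by rw [S62M.card]; norm_num)
  hasU_of_fam C act base ((Cov.zero _).step f0) (by decide +kernel) nor
    (x := [2]) (y := [0]) (x' := []) (y' := []) (d := d1) (m := 3) (d' := d2) (m' := 0)
    (by decide) (by decide +kernel) (by decide +kernel)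
end H65.ES62C
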