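import Cfsg.Agent.H65.ES62G
set_option maxRecDepth 1000000
set_option Elab.async false
namespace H65.ES62P3
open H71 H81
noncomputable def g1 : ℕ := 0xe86238983
noncomputable def g1i : ℕ := 0x49e234925
noncomputable def L12 : List ℕ := g1 :: g1i :: [ES62G.c11, ES62G.c11i, ES62G.c10, ES62G.c10i, ES62G.c9, ES62G.c9i, ES62G.c8, ES62G.c8i, ES62G.c7, ES62G.c7i, ES62G.c6, ES62G.c6i, ES62G.c5, ES62G.c5i, ES62G.c4, ES62G.c4i, ES62G.c3, ES62G.c3i, ES62G.c2, ES62G.c2i, ES62G.a1, ES62G.a1i, ES62G.a0, ES62G.a0i]
theorem gd12 : GoodM (S62M.C) (MW.spM S62M.e) ⊤ L12 :=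
  GoodM.word ES62G.good [20,20,20,20,22,12,19,19,12,18,11,8,10,8,7,3,0] (by decide +kernel)
noncomputable def g2 : ℕ := 0xdaea8fe7
noncomputable def g2i : ℕ := 0x61f7394f3
noncomputable def L13 : List ℕ := g2 :: g2i :: L12
theorem gd13 : GoodM (S62M.C) (MW.spM S62M.e) ⊤ L13 :=
  GoodM.word gd12 [23,23,23,21,9,6,4,2] (by decide +kernel)
noncomputable def g3 : ℕ := 0x67e386103
noncomputable def g3i : ℕ := 0xceb302187
noncomputable def L14 : List ℕ := g3 :: g3i :: L13
theorem gd14 : GoodM (S62M.C) (MW.spM S62M.e) ⊤ L14 :=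
  GoodM.word gd13 [26,24,26,24,24,26,23,23,23,12,15] (by decide +kernel)
noncomputable def g4 : ℕ := 0x3719d7a1d
noncomputable def g4i : ℕ := 0xb61bd3a9c
noncomputable def L15 : List ℕ := g4 :: g4i :: L14
theorem gd15 : GoodM (S62M.C) (MW.spM S62M.e) ⊤ L15 :=
  GoodM.word gd14 [27,27,27,27,28,20,17,13] (by decide +kernel)
noncomputable def x0 : ℕ := 0xd79bdffb3
noncomputable def x0i : ℕ := x0
noncomputable def L16 : List ℕ := x0 :: x0i :: L15
theorem gd16 : GoodM (S62M.C) (MW.spM S62M.e) ⊤ L16 :=
  GoodM.word gd15 [29,29,29,22,27,14,12,15,10,8] (by decide +kernel)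
noncomputable def L : List ℕ := [x0, x0i, g4, g4i, g3, g3i, g2, g2i, g1, g1i, ES62G.c11, ES62G.c11i, ES62G.c10, ES62G.c10i, ES62G.c9, ES62G.c9i, ES62G.c8, ES62G.c8i, ES62G.c7, ES62G.c7i, ES62G.c6, ES62G.c6i, ES62G.c5, ES62G.c5i, ES62G.c4, ES62G.c4i, ES62G.c3, ES62G.c3i, ES62G.c2, ES62G.c2i, ES62G.a1, ES62G.a1i, ES62G.a0, ES62G.a0i]
theorem good : GoodM (S62M.C) (MW.spM S62M.e) ⊤ L := gd16
noncomputable def T : ℕ := 0x80a0010140020280040500000000000000000000000000000000000000000000000000000000000000000000000000000000000000000000000000000000000000000000000000000000000000000000000000000000000000000000000000c1484187800305000000000000000000000000000000000000000000000000000000000000000000000000000000000000000000000000000000000000000000000000000000000000000000000000000000000000000000000000000006310780020500000000000000000000000000000000000000000000000000000000000000000000000000000000000000000000000000000000000000000000000000000000000000000000000000000000000000000000000000000000000001050000000000000000000000000000000000000000000000000000000000000000000000000000000000000000000000000000000000000000000000000000000000000000000000000000000000000000000000000000000000000000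
noncomputable def QT : List ℕ := [0x600000800000800000]
noncomputable def UT : List ℕ := [0x10600010800010800000]
noncomputable def I : ℕ := 0xffffffffffffffffffffffffffffffffffffffffffffffffffffff02040608ff
noncomputable def E0 : List (ℕ × ℕ × ℕ × List ℕ) := [(0, 0x42, 65, [6338]),
  (0, 0x63, 97, [8450]),
  (0, 0x4, 65, [8386]),
  (0, 0x2, 33, [6337,8258,8385,8449]),
  (0, 0x3, 65, [8322,8385]),
  (1, 0x421, 0, [2114]),
  (1, 0x842, 0, [4226]),
  (1, 0x43, 0x62, [6274,8321])]
noncomputable def E : List (ℕ × ℕ × ℕ × List ℕ) := (E0 ++ [])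
noncomputable def Y : List (List ℕ) := [[],
  [],
  [4162],
  [6210]]
noncomputable def CL : List (List ℕ × ℕ × ℕ) := []
noncomputable def CF : List (List ℕ) := [[],
  [0x40000000],
  [0, 0x1000000000],
  [0, 0x40001001000, 0x1],
  [0x41041, 0x1001000, 0x1000, 0x40]]
noncomputable def Ls : List Lv := [⟨0xf, [0x1, 0x4], [0,0,1,0,0,1,0,0], 0x40000000800010000, 981928151, 5, 9⟩,
  ⟨0x11, [0x3], [0,0], 0x100000000000000000000000000000000000000000000000000000000000000000000000000000000000000000000000000000000000000000000000000000000000000000000000000000000000000000000000000000000, 396394502, 2943, 3⟩,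
  ⟨0x10, [0x82], [0,0], 0x100000000000000000000000000000000000000000000000000000000000000000000000000010000000000000000000000000000000000000000000000000000000000000000000000000000000000000000000000000000000000000000000000000000000000000000000000000000000000000000000000000000, 502163389, 2303, 3⟩]
theorem e0 : allM (chkEq (slot T 23 0x800000) 1024 33 3 1056 (hmask 1056) (fun f => slot (nthD QT 0 f) 23 0x800000) (fun f => slot (nthD UT 0 f) 23 0x800000)) E0 = true := by decide +kernel
theorem r0 : relChkM (S62M.C).mul (S62M.C).one (cod L (S62M.C).one I) (slot T 23 0x800000) 33 0 5 = true := by decide +kernel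
theorem f0 : fusChkM (S62M.C).mul (S62M.C).one (cod L (S62M.C).one I) (fun f => slot (nthD QT 0 f) 23 0x800000) (fun f => slot (nthD UT 0 f) 23 0x800000) 0 1 = true := by decide +kernel
theorem h0 : finChk (slot T 23 0x800000) 33 3 1056 (hmask 1056) 5 (E.map fun e => e.2.2.2) Y CL CF 0 5 = true := by decide +kernel
theorem c0 : lbM (S62M.C).mul (S62M.C).one (fun w => mulW (S62M.C).mul (cod L (S62M.C).one I) 65 w (S62M.C).one) Ls (fun _ => true) = true := by decide +kernel
theorem main : NoStem (Matrix.symplecticGroup (Fin 3) (ZMod 2)) (3 ^ 1) :=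
  noStem_of_codes (MonoidHom.id _) (MW.spM_inj S62M.e) (S62M.can) good (MV.hz1 _ _) (MV.hz01) (by norm_num) (S62M.card)
    (n := 4) (K := 1024) (REP := 33) (q := 3) (T := T) (W := 23) (PW := 0x800000) (QT := QT) (UT := UT) (I := I) (N := 1056) (S := 5) (Ls := Ls)
    (by decide +kernel) ((Cov.zero _).step r0)
    ((Cov.zero _).step f0) c0 (E := E) (allM_app e0 (fun _ h => absurd h List.not_mem_nil))
    (Y := Y) (CL := CL) (CF := CF) ((Cov.zero _).step h0)
end H65.ES62P3
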