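/- Tower KGV: gluing a factor congruent to one off a normal subgroup (job GL). -/
import Cfsg.Agent.H63.KgvSpec
import Cfsg.Agent.H28.GenChar

set_option autoImplicit false

namespace H65.KgvGL

open Finset Cfsg H28 H63.Kgv

universe u

theorem ind_mem {E : Type u} [Group E] [Fintype E] (H : Subgroup E) [hn : H.Normal] {y : E}
    (hy : y ∈ H) : indFun H (fun _ => ((1 : ℤ) : ℂ)) y = H.index := by
  have h1 : ∀ x : E, extendByZero H (fun _ => ((1 : ℤ) : ℂ)) (x⁻¹ * y * x) = 1 := fun x => by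
    have : x⁻¹ * y * x ∈ H := by simpa using hn.conj_mem y hy x⁻¹
    exact (Subtype.val_injective.extend_apply (fun _ : H => ((1 : ℤ) : ℂ)) 0 ⟨_, this⟩).trans
      Int.cast_one
  have h2 : (Nat.card H : ℂ) ≠ 0 := Nat.cast_ne_zero.2 Nat.card_pos.ne'
  unfold indFun
  simp only [h1, sum_const, card_univ, nsmul_eq_mul, mul_one]
  rw [← Nat.card_eq_fintype_card, ← H.card_mul_index, Nat.cast_mul, inv_mul_cancel_left₀ h2]

theorem ind_not {E : Type u} [Group E] [Fintype E] (H : Subgroup E) [hn : H.Normal] {y : E}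
    (hy : y ∉ H) : indFun H (fun _ => ((1 : ℤ) : ℂ)) y = 0 := by
  have h1 : ∀ x : E, extendByZero H (fun _ => ((1 : ℤ) : ℂ)) (x⁻¹ * y * x) = 0 := fun x => by
    have : x⁻¹ * y * x ∉ H := fun h => hy (by simpa [mul_assoc] using hn.conj_mem _ h x)
    simp [extendByZero, this]
  unfold indFun
  simp only [h1, sum_const_zero, mul_zero]

theorem job : H63.Kgv.JGL.{u} := by
  intro gc p _ E _ _ H _ r n m Γ f hr hΓ hf
  have := Fintype.ofFinite H
  obtain ⟨g1, g2, g3, g4, -, g6, g7, g8⟩ := gc p E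
  have hS := (g8 (ZMod p) univ (fun c t _ => ((m c : ℤ) : ℂ) * (ee p (t * c) * 1))
    fun c _ => g3 _ _ (g6 (m c)) (g4 (fun _ => 1) c isGeneralizedCharacter_one)).1
  have hI := g7 H (fun _ _ => ((1 : ℤ) : ℂ)) ((gc p H).2.2.2.2.2.1 1)
  have hu := g2 _ _ (g6 1) (g3 _ _ (g2 _ _ (g6 r) (g3 _ _ (g6 (-1)) hI)) hS)
  have hn := (g8 (Fin n) univ _ fun _ _ => hu).2
  refine g1 _ _ (g3 _ _ hn hΓ) fun t ht y => ?_
  by_cases hy : y ∈ H
  · rw [(hf t ht).1 y hy, ind_mem H hy, hr]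
    simp
  · rw [(hf t ht).2 y hy, ind_not H hy]
    simp

end H65.KgvGL
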