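/- Tower KGV: the values of `gam` for an induced character (job VL). -/
import Cfsg.Agent.H63.KgvSpec
import Cfsg.Agent.H28.GenChar

set_option autoImplicit false

namespace H65.KgvVL

open Finset Cfsg H28 H63.Kgv

universe u

theorem prod_orbit {α : Type} [Fintype α] (σ : Equiv.Perm α) (F G : α → ℂ)
    (hF : ∀ a, F (σ a) = F a) (hG : ∀ a, G (σ a) = G a)
    (h : ∀ a, F a ^ Function.minimalPeriod σ a = G a ^ Function.minimalPeriod σ a) :
    ∏ a, F a = ∏ a, G a := by
  classical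
  have key : ∀ (F : α → ℂ), (∀ a, F (σ a) = F a) → ∀ a : α,
      ∏ b ∈ univ.filter (fun b => (Quotient.mk (MulAction.orbitRel (Subgroup.zpowers σ) α) b) =
        Quotient.mk _ a), F b = F a ^ Function.minimalPeriod σ a := by
    intro F hF a
    have h1 : ∀ (k : ℕ) b, F ((σ ^ k) b) = F b := fun k => by
      induction k with
      | zero => intro b; rfl
      | succ k ih => intro b; rw [pow_succ', Equiv.Perm.mul_apply, hF, ih]
    have h2 : univ.filter (fun b => (Quotient.mk (MulAction.orbitRel (Subgroup.zpowers σ) α) b) =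
        Quotient.mk _ a) = (MulAction.orbit (Subgroup.zpowers σ) a).toFinset := by
      ext b
      rw [mem_filter, Set.mem_toFinset, Quotient.eq, MulAction.orbitRel_apply]
      simp
    have h3 : Function.minimalPeriod σ a = (MulAction.orbit (Subgroup.zpowers σ) a).toFinset.card := by
      rw [Set.toFinset_card, ← MulAction.minimalPeriod_eq_card]
      rfl
    rw [h2, h3, ← prod_const]
    refine prod_congr rfl fun b hb => ?_
    obtain ⟨⟨τ, hτ⟩, rfl⟩ := Set.mem_toFinset.1 hb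
    obtain ⟨k, rfl⟩ := mem_powers_iff_mem_zpowers.2 hτ
    exact h1 k a
  rw [← prod_fiberwise univ (fun b => Quotient.mk (MulAction.orbitRel (Subgroup.zpowers σ) α) b) F,
    ← prod_fiberwise univ (fun b => Quotient.mk (MulAction.orbitRel (Subgroup.zpowers σ) α) b) G]
  refine prod_congr rfl fun q _ => ?_
  obtain ⟨a, rfl⟩ := Quotient.exists_rep q
  rw [key F hF, key G hG, h]

section field

variable {K : Type} [Field K] [Fintype K] [DecidableEq K]

theorem fibre {r : ℕ} (hr : r.Prime) {ω : Kˣ} (hω : orderOf ω = r) (w : Kˣ) :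
    univ.filter (fun v : Kˣ => v ^ r = w ^ r) = (range r).image fun i => w * ω ^ i := by
  have : NeZero r := ⟨hr.ne_zero⟩
  have h1 : IsPrimitiveRoot (ω : K) r := IsPrimitiveRoot.coe_units_iff.2 (hω ▸ IsPrimitiveRoot.orderOf ω)
  have h2 : ω ^ r = 1 := hω ▸ pow_orderOf_eq_one ω
  ext v
  simp only [mem_filter, mem_univ, true_and, mem_image, mem_range]
  constructor
  · intro h
    have h3 : ((w⁻¹ * v : Kˣ) : K) ^ r = 1 := by
      rw [← Units.val_pow_eq_pow_val, mul_pow, inv_pow, h, inv_mul_cancel, Units.val_one]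
    obtain ⟨i, hi, e⟩ := h1.eq_pow_of_pow_eq_one h3
    refine ⟨i, hi, ?_⟩
    have : ω ^ i = w⁻¹ * v := Units.ext (by rw [Units.val_pow_eq_pow_val, e])
    rw [this, mul_inv_cancel_left]
  · rintro ⟨i, -, rfl⟩
    rw [mul_pow, ← pow_mul, mul_comm i, pow_mul, h2, one_pow, mul_one]

omit [Fintype K] [DecidableEq K] in
theorem injOn {r : ℕ} {ω : Kˣ} (hω : orderOf ω = r) (w : Kˣ) :
    Set.InjOn (fun i => w * ω ^ i) (range r : Set ℕ) := fun i hi j hj e =>
  pow_injOn_Iio_orderOf (by simpa [hω] using hi) (by simpa [hω] using hj) (mul_left_cancel e)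

omit [DecidableEq K] in
theorem exists_root {r N : ℕ} (hN : Fintype.card K - 1 = r * N) {v : Kˣ} (hv : v ^ N = 1) :
    ∃ w : Kˣ, w ^ r = v := by
  classical
  obtain ⟨g, hg⟩ := IsCyclic.exists_generator (α := Kˣ)
  have h1 : orderOf g = r * N := by
    rw [orderOf_eq_card_of_forall_mem_zpowers hg, Nat.card_eq_fintype_card, Fintype.card_units, hN]
  obtain ⟨s, rfl⟩ := mem_powers_iff_mem_zpowers.2 (hg v)
  have h2 : 0 < N := by
    have := orderOf_pos g
    rw [h1] at this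
    exact Nat.pos_of_mul_pos_left this
  have h3 : r * N ∣ s * N := by
    rw [← h1, orderOf_dvd_iff_pow_eq_one, pow_mul]
    exact hv
  obtain ⟨c, rfl⟩ := Nat.dvd_of_mul_dvd_mul_right h2 h3
  exact ⟨g ^ c, by rw [← pow_mul, mul_comm]⟩

omit [DecidableEq K] in
theorem pow_eq_one_of_sum [Fintype Kˣ] {θ : Kˣ →* ℂˣ} (hθ : Function.Injective θ) {m : Kˣ → ℕ} {N : ℕ}
    (h : ∑ v, (m v : ℂ) * (θ v : ℂ) ^ N = ∑ v, (m v : ℂ) * (θ v : ℂ) ^ 0) {v : Kˣ} (hv : m v ≠ 0) :
    v ^ N = 1 := by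
  have h1 : ∀ w : Kˣ, ‖(θ w : ℂ) ^ N‖ = 1 := fun w => by
    have : (θ w : ℂ) ^ orderOf w = 1 := by
      rw [← Units.val_pow_eq_pow_val, ← map_pow, pow_orderOf_eq_one, map_one, Units.val_one]
    rw [norm_pow, Complex.norm_eq_one_of_pow_eq_one this (orderOf_pos w).ne', one_pow]
  have h2 : ∑ w, (m w : ℝ) * (1 - ((θ w : ℂ) ^ N).re) = 0 := by
    have := congrArg Complex.re h
    simp only [Complex.re_sum, pow_zero, mul_one, Complex.natCast_re, Complex.mul_re,
      Complex.natCast_im, zero_mul, sub_zero] at this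
    simp only [mul_sub, mul_one, sum_sub_distrib, this, sub_self]
  have h3 := (sum_eq_zero_iff_of_nonneg fun w _ => mul_nonneg (Nat.cast_nonneg (m w))
    (sub_nonneg.2 ((Complex.re_le_norm _).trans (h1 w).le))).1 h2 v (mem_univ v)
  have h4 : ((θ v : ℂ) ^ N).re = 1 := by
    rcases mul_eq_zero.1 h3 with e | e
    · exact absurd (by exact_mod_cast e) hv
    · linarith
  have h5 : ((θ v : ℂ) ^ N).im = 0 := by
    have h6 := Complex.sq_norm_sub_sq_re ((θ v : ℂ) ^ N)
    rw [h1, h4] at h6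
    exact pow_eq_zero_iff two_ne_zero |>.1 (by linarith)
  apply hθ
  rw [map_pow, map_one]
  apply Units.ext
  rw [Units.val_pow_eq_pow_val]
  exact Complex.ext h4 h5

end field

theorem conj_eq {E : Type u} [Group E] [Finite E] {H : Subgroup E} [H.Normal] {r : ℕ} (hr : r.Prime)
    (hi : H.index = r) {φ : H → ℂ} (hφ : IsClassFunction H φ) {y : E} (hy : y ∉ H) {h : H}
    (hc : Commute y h) (g : E) : φ (MulAut.conjNormal g h) = φ h := by
  have : Fact r.Prime := ⟨hr⟩
  have h1 : (y : E ⧸ H) ≠ 1 := fun e => hy ((QuotientGroup.eq_one_iff y).1 e)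
  obtain ⟨i, e⟩ := mem_zpowers_of_prime_card (G := E ⧸ H) (p := r) hi h1 (g' := (g : E ⧸ H))
  have h2 : g * (y ^ i)⁻¹ ∈ H := by
    rw [← QuotientGroup.eq_one_iff, QuotientGroup.mk_mul, QuotientGroup.mk_inv, QuotientGroup.mk_zpow]
    exact mul_inv_eq_one.2 e.symm
  rw [← hφ h ⟨_, h2⟩]
  congr 1
  apply Subtype.ext
  have h3 := (hc.zpow_left i).eq
  simp only [MulAut.conjNormal_apply, Subgroup.coe_mul, Subgroup.coe_inv]
  calc g * h * g⁻¹ = g * (y ^ i)⁻¹ * (y ^ i * h) * g⁻¹ := by group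
    _ = _ := by rw [h3]; group

theorem pow_mem_iff {E : Type u} [Group E] [Finite E] {H : Subgroup E} [H.Normal] {r : ℕ}
    (hr : r.Prime) (hi : H.index = r) {y : E} (hy : y ∉ H) {k : ℕ} (hk : y ^ k ∈ H) : r ∣ k := by
  have : Fact r.Prime := ⟨hr⟩
  have h1 : (y : E ⧸ H) ≠ 1 := fun e => hy ((QuotientGroup.eq_one_iff y).1 e)
  have h2 : orderOf (y : E ⧸ H) = r := orderOf_eq_prime (by
    rw [← hi]; exact pow_card_eq_one') h1
  rw [← h2, orderOf_dvd_iff_pow_eq_one, ← QuotientGroup.mk_pow, QuotientGroup.eq_one_iff]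
  exact hk

theorem job : H63.Kgv.JVL.{u} := by
  intro eg p hp M K _ _ θ a Hf hs E _ _ hE H _ r d x χ φ ω hI hd hrd hω hst
  classical
  have := Fintype.ofFinite H
  have hr := hI.pr
  have hy1 : ∀ y : E, y ^ (Fintype.card K - 1) = 1 := fun y => by
    rw [hs.card]
    exact orderOf_dvd_iff_pow_eq_one.1 ((orderOf_dvd_natCard y).trans hE)
  have egφ : ∀ h : H, Eg θ φ h (em θ φ h) := fun h =>
    (eg K θ H hs.inj).2 φ h hI.ch (Subtype.ext (hy1 h))
  obtain ⟨n, hn⟩ := hI.ch.exists_degree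
  refine ⟨n, hn, fun t ht => ⟨fun h => ?_, fun y h hy hh => ?_⟩⟩
  · have e : em θ χ (h : E) = fun v => ∑ j ∈ range r, em θ φ (MulAut.conjNormal (x ^ j) h) v := by
      refine (eg K θ E hs.inj).1 χ _ _ fun k => ?_
      rw [← Subgroup.coe_pow, hI.on]
      simp only [map_pow, Nat.cast_sum, sum_mul]
      rw [sum_comm]
      exact sum_congr rfl fun j _ => by simpa only [map_pow] using egφ _ k
    unfold gam
    rw [e, prod_comm]
    exact prod_congr rfl fun v _ => by rw [mul_sum, prod_pow_eq_pow_sum]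
  have hd0 : 0 < d := Nat.pos_of_dvd_of_pos hd hs.pos
  obtain ⟨N, hN⟩ : r ∣ Fintype.card K - 1 := by
    rw [hs.card]
    exact hrd.trans (Nat.pow_sub_one_dvd_pow_sub_one p hd)
  have hr0 : (r : ℂ) ≠ 0 := Nat.cast_ne_zero.2 hr.ne_zero
  have hrt : (r : ZMod p) * t ≠ 0 := by
    refine mul_ne_zero (fun e => ?_) ht
    have h1 : p ∣ p ^ d - 1 := ((ZMod.natCast_eq_zero_iff r p).1 e).trans hrd
    have h2 : p ∣ p ^ d - (p ^ d - 1) := Nat.dvd_sub (dvd_pow_self p hd0.ne') h1
    rw [Nat.sub_sub_self (Nat.one_le_pow _ _ hp.out.pos)] at h2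
    exact hp.out.one_lt.ne' (Nat.dvd_one.1 h2)
  have hχ : ∀ k : ℕ, χ ((h : E) ^ k) = r * φ (h ^ k) := fun k => by
    rw [← Subgroup.coe_pow, hI.on]
    have hc : Commute y ((h ^ k : H) : E) := by
      rw [Subgroup.coe_pow, hh]
      exact ((Commute.refl y).pow_right r).pow_right k
    simp only [conj_eq hr hI.idx hI.ch.isClassFunction hy hc, sum_const, card_range, nsmul_eq_mul]
  obtain ⟨m, hm⟩ : ∃ m, m = em θ φ h := ⟨_, rfl⟩
  have egm : Eg θ φ h m := hm ▸ egφ h
  have root : ∀ v, m v ≠ 0 → ∃ w : Kˣ, w ^ r = v := fun v hv => by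
    refine exists_root hN (pow_eq_one_of_sum hs.inj ?_ hv)
    have h1 : h ^ N = h ^ 0 := Subtype.ext (by
      rw [pow_zero, Subgroup.coe_pow, hh, ← pow_mul, ← hN, hy1]; rfl)
    have h2 := egm N
    rw [h1, egm 0] at h2
    convert h2.symm
  have e : em θ χ y = fun w => m (w ^ r) := by
    refine (eg K θ E hs.inj).1 χ _ _ fun k => ?_
    by_cases hk : r ∣ k
    · obtain ⟨k, rfl⟩ := hk
      rw [pow_mul, ← hh, hχ, egm k, mul_sum]
      refine Eq.trans ?_ (sum_fiberwise univ (fun w : Kˣ => w ^ r) _)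
      refine sum_congr rfl fun v _ => ?_
      have h1 : ∀ w ∈ univ.filter (fun w : Kˣ => w ^ r = v),
          (m (w ^ r) : ℂ) * (θ w : ℂ) ^ (r * k) = (m v : ℂ) * (θ v : ℂ) ^ k := fun w hw => by
        rw [← (mem_filter.1 hw).2, pow_mul, map_pow, Units.val_pow_eq_pow_val]
      rw [sum_congr rfl h1, sum_const, nsmul_eq_mul]
      by_cases hv : m v = 0
      · simp [hv]
      · obtain ⟨w, rfl⟩ := root v hv
        rw [fibre hr hω w, card_image_of_injOn (injOn hω w), card_range]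
    · rw [hI.off _ fun h1 => hk (pow_mem_iff hr hI.idx hy h1)]
      have hω1 : ω ^ r = 1 := hω ▸ pow_orderOf_eq_one ω
      have h1 := Equiv.sum_comp (Equiv.mulRight ω) fun w : Kˣ => (m (w ^ r) : ℂ) * (θ w : ℂ) ^ k
      simp only [Equiv.coe_mulRight, mul_pow, hω1, mul_one, map_mul, Units.val_mul, ← mul_assoc,
        ← sum_mul] at h1
      have h2 : (θ ω : ℂ) ^ k ≠ 1 := fun h3 => hk (by
        rw [← hω, orderOf_dvd_iff_pow_eq_one]
        apply hs.inj
        rw [map_pow, map_one]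
        exact Units.ext (by rw [Units.val_pow_eq_pow_val, h3, Units.val_one]))
      by_contra h4
      exact h2 (mul_left_cancel₀ (fun h5 => h4 h5.symm) (h1.trans (mul_one _).symm))
  have hpM : ∀ v : Kˣ, v ^ p ^ M = v := fun v => Units.ext (by
    rw [Units.val_pow_eq_pow_val, ← hs.card, FiniteField.pow_card])
  obtain ⟨c, hc⟩ := hd
  have hit : ∀ (k : ℕ) (v : Kˣ), (fun v : Kˣ => v ^ p ^ d)^[k] v = v ^ p ^ (d * k) := fun k => by
    induction k with
    | zero => intro v; simp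
    | succ k ih => intro v; rw [Function.iterate_succ_apply', ih, ← pow_mul, ← pow_add, mul_add, mul_one]
  have hc0 : 0 < c := Nat.pos_of_mul_pos_left (hc ▸ hs.pos)
  have hinj : Function.Injective fun v : Kˣ => v ^ p ^ d :=
    Function.Injective.of_comp (f := (fun v : Kˣ => v ^ p ^ d)^[c - 1]) (by
      rw [← Function.iterate_succ, Nat.succ_eq_add_one, Nat.sub_add_cancel hc0]
      intro v w e
      rwa [hit, hit, ← hc, hpM, hpM] at e)
  let σ : Equiv.Perm Kˣ := Equiv.ofBijective _ (Finite.injective_iff_bijective.1 hinj)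
  have hσ : ∀ v, σ v = v ^ p ^ d := fun _ => rfl
  have fr : ∀ s, s ≠ 0 → ∀ v, Hf s (σ v) = Hf s v := fun s hs0 v => by
    have h1 : ∀ k : ℕ, Hf s (v ^ p ^ k) = Hf s v := fun k => by
      induction k with
      | zero => rw [pow_zero, pow_one]
      | succ k ih => rw [pow_succ, pow_mul, hs.frob s _ hs0, ih]
    exact h1 d
  have mσ : ∀ v, m (σ v) = m v := by
    have h1 : Eg θ φ h fun v => m (σ.symm v) := fun k => by
      have h2 : φ (h ^ (p ^ d * k)) = φ (h ^ k) := by
        apply mul_left_cancel₀ hr0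
        rw [← hχ, ← hχ, mul_comm, pow_mul, hst]
      rw [← h2, egm]
      refine Eq.trans (sum_congr rfl fun v _ => ?_) (Equiv.sum_comp σ _)
      simp only [Equiv.symm_apply_apply]
      rw [hσ, map_pow, Units.val_pow_eq_pow_val, pow_mul]
    intro v
    have h3 := congrFun ((eg K θ H hs.inj).1 φ h _ h1) (σ v)
    rwa [← hm, Equiv.symm_apply_apply] at h3
  have hsum : ∑ v, m v = n := by
    have h1 := egm 0
    simp only [pow_zero, mul_one, hn] at h1
    exact_mod_cast h1.symm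
  unfold gam
  rw [e, ← hm, ← prod_fiberwise univ (fun w : Kˣ => w ^ r), ← hsum, ← prod_pow_eq_pow_sum,
    ← prod_mul_distrib]
  have h1 : ∀ v : Kˣ, ∏ w ∈ univ.filter (fun w : Kˣ => w ^ r = v), Hf t w ^ (d * m (w ^ r)) =
      (∏ w ∈ univ.filter (fun w : Kˣ => w ^ r = v), Hf t w) ^ (d * m v) := fun v => by
    rw [← prod_pow]
    exact prod_congr rfl fun w hw => by rw [(mem_filter.1 hw).2]
  simp only [h1]
  refine prod_orbit σ _ _ (fun v => ?_) (fun v => ?_) fun v => ?_
  · rw [mσ, prod_filter, prod_filter, ← Equiv.prod_comp σ]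
    congr 1
    refine prod_congr rfl fun w _ => ?_
    have h2 : σ w ^ r = σ (w ^ r) := by rw [hσ, hσ, ← pow_mul, ← pow_mul, mul_comm]
    simp only [h2, σ.injective.eq_iff, fr t ht]
  · rw [mσ, fr _ hrt]
  · by_cases hv : m v = 0
    · simp [hv]
    obtain ⟨w, rfl⟩ := root v hv
    obtain ⟨k, hk⟩ : ∃ k, k = Function.minimalPeriod σ (w ^ r) := ⟨_, rfl⟩
    have h2 : k ∣ c := hk ▸ Function.IsPeriodicPt.minimalPeriod_dvd
      (show (fun v : Kˣ => v ^ p ^ d)^[c] (w ^ r) = w ^ r by rw [hit, ← hc, hpM])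
    have h3 : (w ^ r) ^ p ^ (d * k) = w ^ r := by
      rw [← hit, hk]
      exact Function.iterate_minimalPeriod
    have h4 := hs.prod r d ω hr ⟨c, hc⟩ hrd hω t (d * k) w ht (dvd_mul_right _ _)
      (hc ▸ Nat.mul_dvd_mul_left d h2) h3
    rw [← hk, fibre hr hω w, prod_image (injOn hω w)]
    rw [prod_pow, prod_pow] at h4
    rw [prod_pow, mul_pow]
    simp only [← pow_mul]
    rw [show d * m (w ^ r) * k = d * k * m (w ^ r) by ring, pow_mul, h4, mul_pow, ← pow_mul,
      ← pow_mul]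

end H65.KgvVL
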