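import Cfsg.Agent.H26.NilpCover

/-!
Nilpotent minimal covers and permutation actions: fixed point arguments.
-/

set_option autoImplicit false

namespace H65.NCov

open H26

variable {G Ω : Type*} [Group G]

/-- the stabiliser of a point under a permutation representation -/
def stab (ρ : G →* Equiv.Perm Ω) (l : Ω) : Subgroup G :=
  (MulAction.stabilizer (Equiv.Perm Ω) l).comap ρ

theorem mem_stab {ρ : G →* Equiv.Perm Ω} {l : Ω} {g : G} : g ∈ stab ρ l ↔ ρ g l = l := Iff.rfl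

/-- A nilpotent subgroup containing a `p`-element with a unique fixed point fixes that point. -/
theorem fix_of_nilp [Finite G] [Finite Ω] (ρ : G →* Equiv.Perm Ω) {p : ℕ} [Fact p.Prime]
    (hΩ : ¬ p ∣ Nat.card Ω) {A : Subgroup G} (hA : Group.IsNilpotent A) {u : G} (hu : u ∈ A)
    {k : ℕ} (hk : u ^ p ^ k = 1) {l : Ω} (hl : ∀ x, ρ u x = x → x = l) : A ≤ stab ρ l := by
  obtain ⟨S, -, hS, hN, hmax⟩ := exists_isPGroup_of_nilpotent hA p
  have huS : u ∈ S := hmax _ (Subgroup.zpowers_le.2 hu) (isPGroup_zpowers_of_pow hk)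
    (Subgroup.mem_zpowers u)
  letI : MulAction S Ω := MulAction.compHom Ω (ρ.comp S.subtype)
  obtain ⟨x, hx⟩ := hS.nonempty_fixed_point_of_prime_not_dvd_card Ω hΩ
  have hx' : ∀ s ∈ S, ρ s x = x := fun s hs => hx ⟨s, hs⟩
  have hxl : x = l := hl x (hx' u huS)
  subst hxl
  intro a ha
  rw [mem_stab]
  apply hl
  have h1 : a⁻¹ * u * a⁻¹⁻¹ ∈ S := (Subgroup.mem_normalizer_iff.1 (hN (A.inv_mem ha)) u).1 huS
  have h2 := hx' _ h1
  rw [inv_inv, map_mul, map_mul, map_inv] at h2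
  have h3 := congrArg (ρ a) h2
  simpa [Equiv.Perm.mul_apply] using h3

theorem same_member {𝓐 : Finset (Subgroup G)} (h : IsNilpMinCover 𝓐) (ρ : G →* Equiv.Perm Ω)
    {l : Ω} (hl : ∃ g, ρ g l ≠ l) {A B : Subgroup G} (hA : A ∈ 𝓐) (hB : B ∈ 𝓐)
    (hAl : A ≤ stab ρ l) (hBl : B ≤ stab ρ l) : A = B := by
  by_contra hne
  obtain ⟨g, hg⟩ := hl
  have := h.eq_top hA hB hne hAl hBl
  exact hg (mem_stab.1 (by rw [this]; trivial))

/-- Two actions: two `p`-elements with the same unique fixed point in the first and different unique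
fixed points in the second. -/
theorem two_actions [Finite G] [Finite Ω] {Ω' : Type*} [Finite Ω'] {𝓐 : Finset (Subgroup G)}
    (h : IsNilpMinCover 𝓐) (ρ : G →* Equiv.Perm Ω) (ρ' : G →* Equiv.Perm Ω') {p : ℕ} [Fact p.Prime]
    (hΩ : ¬ p ∣ Nat.card Ω) (hΩ' : ¬ p ∣ Nat.card Ω') {u w : G} {k : ℕ} (hk : u ^ p ^ k = 1)
    {l : Ω} {l' : Ω'} (hl : ∀ x, ρ u x = x → x = l) (hl' : ∀ x, ρ' u x = x → x = l')
    (hw : ρ w l = l) (hw' : ρ' w l' ≠ l') (hm : ∃ g, ρ g l ≠ l) : False := by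
  obtain ⟨A, hA, huA⟩ := h.1.2 u
  obtain ⟨B, hB, hvB⟩ := h.1.2 (w * u * w⁻¹)
  have hvk : (w * u * w⁻¹) ^ p ^ k = 1 := by rw [conj_pow, hk]; simp
  have h1 := fix_of_nilp ρ hΩ (h.2.2 A hA) huA hk hl
  have h2 := fix_of_nilp ρ hΩ (h.2.2 B hB) hvB hvk (l := l) (by
    intro x hx
    rw [map_mul, map_mul, map_inv] at hx
    have h3 : ρ u ((ρ w)⁻¹ x) = (ρ w)⁻¹ x := by
      have := congrArg (fun z => (ρ w)⁻¹ z) hx
      simpa [Equiv.Perm.mul_apply] using this
    have h4 := hl _ h3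
    rw [← hw, ← h4]; simp)
  have hAB := same_member h ρ hm hA hB h1 h2
  subst hAB
  have h5 := fix_of_nilp ρ' hΩ' (h.2.2 A hA) huA hk hl'
  have h6 := mem_stab.1 (h5 hvB)
  rw [map_mul, map_mul, map_inv] at h6
  have h7 : ρ' u ((ρ' w)⁻¹ l') = (ρ' w)⁻¹ l' := by
    have := congrArg (fun z => (ρ' w)⁻¹ z) h6
    simpa [Equiv.Perm.mul_apply] using this
  have h8 := hl' _ h7
  apply hw'
  conv_lhs => rw [← h8]
  simp

theorem commute_fix (ρ : G →* Equiv.Perm Ω) {a b : G} (hab : Commute a b) {x : Ω}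
    (hx : ρ b x = x) : ρ b (ρ a x) = ρ a x := by
  rw [← Equiv.Perm.mul_apply, ← map_mul, ← hab.eq, map_mul, Equiv.Perm.mul_apply, hx]

/-- The rank one argument. -/
theorem rank_one [Finite G] [Finite Ω] {𝓐 : Finset (Subgroup G)}
    (h : IsNilpMinCover 𝓐) (ρ : G →* Equiv.Perm Ω) {p : ℕ} [Fact p.Prime]
    (hΩ : ¬ p ∣ Nat.card Ω)
    (hu : ∀ l : Ω, ∃ (u : G) (k : ℕ), u ^ p ^ k = 1 ∧ ∀ x, ρ u x = x → x = l)
    (hm : ∀ l : Ω, ∃ g, ρ g l ≠ l)
    (t : G) {x y : Ω} (hxy : x ≠ y) (hx : ρ t x = x) (hy : ρ t y = y)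
    (hfix : ∀ z, ρ t z = z → z = x ∨ z = y) {m : ℕ} (htm : t ^ m = 1) (hpm : p.Coprime m)
    (hg : ∀ g : G, (∀ z, ρ g z ≠ z) → ∃ s : G, g ∈ Subgroup.zpowers s ∧ ∃ s' ∈ Subgroup.zpowers s,
      ∃ m' : ℕ, s' ^ m' = 1 ∧ m.Coprime m' ∧ ∀ z, ρ (s' ^ 2) z ≠ z) : False := by
  classical
  choose u k hk hul using hu
  choose M hM hgM using h.1.2
  have hMl : ∀ l, M (u l) ≤ stab ρ l := fun l =>
    fix_of_nilp ρ hΩ (h.2.2 _ (hM _)) (hgM _) (hk l) (hul l)
  have hCl : ∀ l, ¬ M t ≤ stab ρ l := by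
    intro l hl
    have h1 := same_member h ρ (hm l) (hM _) (hM _) hl (hMl l)
    have h2 : Commute (u l) t := by
      refine commute_of_coprime_orderOf_of_mem (h.2.2 _ (hM t)) (h1 ▸ hgM (u l)) (hgM t) ?_
      exact Nat.Coprime.coprime_dvd_left (orderOf_dvd_of_pow_eq_one (hk l))
        (Nat.Coprime.coprime_dvd_right (orderOf_dvd_of_pow_eq_one htm) (Nat.Coprime.pow_left _ hpm))
    have h3 := hfix _ (commute_fix ρ h2 hx)
    have h4 := hfix _ (commute_fix ρ h2 hy)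
    have h5 : ρ (u l) l = l := mem_stab.1 (hMl l (hgM _))
    rcases hfix l (mem_stab.1 (hl (hgM t))) with rfl | rfl
    · rcases h4 with h4 | h4
      · exact hxy ((ρ (u l)).injective (h5.trans h4.symm))
      · exact hxy (hul l y h4).symm
    · rcases h3 with h3 | h3
      · exact hxy (hul l x h3)
      · exact hxy ((ρ (u l)).injective (h3.trans h5.symm))
  let f : Subgroup G → Subgroup G := fun A =>
    if hA : ∃ l, A ≤ stab ρ l then stab ρ hA.choose else A
  have hf : ∀ A, A ≤ f A := by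
    intro A
    by_cases hA : ∃ l, A ≤ stab ρ l
    · simp only [f, dif_pos hA]; exact hA.choose_spec
    · simp only [f, dif_neg hA]; exact le_rfl
  have key := h.2.1 ((𝓐.erase (M t)).image f) ⟨?_, ?_⟩
  · have h1 := Finset.card_image_le (s := 𝓐.erase (M t)) (f := f)
    rw [Finset.card_erase_of_mem (hM t)] at h1
    have h2 : 0 < 𝓐.card := Finset.card_pos.2 ⟨_, hM t⟩
    omega
  · intro B hB
    obtain ⟨A, hA, rfl⟩ := Finset.mem_image.1 hB
    by_cases hA' : ∃ l, A ≤ stab ρ l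
    · simp only [f, dif_pos hA']
      intro htop
      obtain ⟨g, hg⟩ := hm hA'.choose
      exact hg (mem_stab.1 (by rw [htop]; trivial))
    · simp only [f, dif_neg hA']
      exact h.1.1 A (Finset.mem_of_mem_erase hA)
  · intro g
    by_cases hz : ∃ z, ρ g z = z
    · obtain ⟨z, hz⟩ := hz
      refine ⟨f (M (u z)), Finset.mem_image_of_mem _ (Finset.mem_erase.2 ⟨?_, hM _⟩), ?_⟩
      · intro he
        exact hCl z (he ▸ hMl z)
      · have hA' : ∃ l, M (u z) ≤ stab ρ l := ⟨z, hMl z⟩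
        simp only [f, dif_pos hA']
        have h1 := hul z _ (mem_stab.1 (hA'.choose_spec (hgM _)))
        rw [h1]; exact hz
    · push Not at hz
      obtain ⟨s, hgs, s', hs', m', hm', hcop, hs2⟩ := hg g hz
      refine ⟨f (M s), Finset.mem_image_of_mem _ (Finset.mem_erase.2 ⟨?_, hM _⟩),
        hf _ (Subgroup.zpowers_le.2 (hgM s) hgs)⟩
      intro he
      have h1 : s' ∈ M t := he ▸ Subgroup.zpowers_le.2 (hgM s) hs'
      have h2 : Commute s' t := by
        refine commute_of_coprime_orderOf_of_mem (h.2.2 _ (hM t)) h1 (hgM t) ?_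
        exact Nat.Coprime.coprime_dvd_left (orderOf_dvd_of_pow_eq_one hm')
          (Nat.Coprime.coprime_dvd_right (orderOf_dvd_of_pow_eq_one htm) hcop.symm)
      have h3 := hfix _ (commute_fix ρ h2 hx)
      have h4 := hfix _ (commute_fix ρ h2 hy)
      apply hs2 x
      rw [pow_two, map_mul, Equiv.Perm.mul_apply]
      rcases h3 with h3 | h3
      · rw [h3, h3]
      · rw [h3]
        rcases h4 with h4 | h4
        · exact h4
        · exact absurd ((ρ s').injective (h3.trans h4.symm)) hxy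

end H65.NCov
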