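import Cfsg.Agent.H65.NCov

/-!
Alternating and symmetric groups have no nilpotent minimal cover.
-/

set_option autoImplicit false

namespace H65.NCov

open H26 Equiv Equiv.Perm

variable {G : Type*} [Group G]

theorem sylow_comm [Finite G] {n : ℕ} (ρ : G →* Perm (Fin n)) (hρ : Function.Injective ρ) {p : ℕ}
    [hp : Fact p.Prime] (hn : n < 2 * p) (P : Sylow p G) : IsMulCommutative (P : Subgroup G) := by
  obtain ⟨k, hk⟩ := IsPGroup.iff_card.1 P.isPGroup'
  have h1 : p ^ k ∣ n.factorial := by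
    rw [← hk]
    refine (Subgroup.card_subgroup_dvd_card _).trans ((Subgroup.card_dvd_of_injective ρ hρ).trans ?_)
    rw [Nat.card_perm, Nat.card_eq_fintype_card, Fintype.card_fin]
  have h2 : Nat.log p n < 2 := by
    refine Nat.log_lt_of_lt_pow' (by norm_num) (hn.trans_le ?_)
    rw [pow_two]; exact Nat.mul_le_mul_right _ hp.out.two_le
  rw [hp.out.pow_dvd_factorial_iff h2] at h1
  have h3 : n / p < 2 := (Nat.div_lt_iff_lt_mul hp.out.pos).2 hn
  have h4 : k ≤ 1 := by
    simp at h1
    omega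
  have h5 : Nat.card (P : Subgroup G) ∣ p := by
    rw [hk]
    exact (pow_dvd_pow p h4).trans (by simp)
  exact (isCyclic_of_card_dvd_prime h5).isMulCommutative

theorem centr_arg [Finite G] {𝓐 : Finset (Subgroup G)} (h : IsNilpMinCover 𝓐) {n : ℕ}
    (ρ : G →* Perm (Fin n)) (hρ : Function.Injective ρ) {p : ℕ} [hp : Fact p.Prime] (hn : n < 2 * p)
    {u u' : G} (hu : ρ u ^ p = 1) (hu' : ρ u' ^ p = 1) (M : Subgroup (Perm (Fin n)))
    (hM : ∃ g, ρ g ∉ M) (h1 : ∀ g, Commute (ρ g) (ρ u) → ρ g ∈ M)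
    (h2 : ∀ g, Commute (ρ g) (ρ u') → ρ g ∈ M) : Commute (ρ u) (ρ u') := by
  obtain ⟨P⟩ : Nonempty (Sylow p G) := inferInstance
  have hab := sylow_comm ρ hρ hn P
  have hu1 : u ^ p ^ 1 = 1 := hρ (by rw [pow_one, map_pow, hu, map_one])
  have hu2 : u' ^ p ^ 1 = 1 := hρ (by rw [pow_one, map_pow, hu', map_one])
  obtain ⟨A, hA, huA⟩ := h.1.2 u
  obtain ⟨B, hB, huB⟩ := h.1.2 u'
  by_cases hAB : A = B
  · subst hAB
    exact (commute_of_nilpotent_of_abelian_sylow P hab (h.2.2 A hA) huA huB hu1).map ρ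
  · exfalso
    have := h.eq_top (M := M.comap ρ) hA hB hAB
      (fun a ha => h1 a ((commute_of_nilpotent_of_abelian_sylow P hab (h.2.2 A hA) huA ha
        hu1).map ρ).symm)
      (fun a ha => h2 a ((commute_of_nilpotent_of_abelian_sylow P hab (h.2.2 B hB) huB ha
        hu2).map ρ).symm)
    obtain ⟨g, hg⟩ := hM
    exact hg (Subgroup.mem_comap.1 (by rw [this]; trivial))

open scoped Pointwise in
theorem alt_big [Finite G] {𝓐 : Finset (Subgroup G)} (h : IsNilpMinCover 𝓐) {n : ℕ} (hn : 6 ≤ n)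
    (ρ : G →* Perm (Fin n)) (hρ : Function.Injective ρ) (hs : ∀ σ, sign σ = 1 → ∃ g, ρ g = σ) :
    False := by
  obtain ⟨p, hp, h1, h2⟩ := Nat.exists_prime_lt_and_le_two_mul (n / 2) (by omega)
  haveI : Fact p.Prime := ⟨hp⟩
  have hodd : Odd p := hp.odd_of_ne_two (by omega)
  have hpn : p < n := by obtain ⟨k, hk⟩ := hodd; omega
  haveI : NeZero n := ⟨by omega⟩
  let i : Fin n := ⟨p - 1, by omega⟩
  have hi : i ≠ 0 := by
    intro h; have := congrArg Fin.val h; simp [i] at this; omega
  have hc := Fin.isCycle_cycleRange hi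
  have hcard : (Fin.cycleRange i).support.card = p := by
    rw [← sum_cycleType, Fin.cycleType_cycleRange hi]; simp [i]; omega
  generalize Fin.cycleRange i = c at hc hcard
  have hord : orderOf c = p := by rw [hc.orderOf, hcard]
  have hsign : sign c = 1 := by rw [hc.sign, hcard, hodd.neg_one_pow, neg_neg]
  obtain ⟨x, hx, -⟩ := id hc
  have hx2 : c (c x) ≠ x := by
    intro h3
    have h4 : c ^ 2 = 1 := (hc.pow_eq_one_iff' hx).2 (by rw [pow_two]; exact h3)
    have := Nat.le_of_dvd (by norm_num) (hord ▸ orderOf_dvd_of_pow_eq_one h4)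
    omega
  have hx3 : c (c x) ≠ c x := fun h => hx (c.injective h)
  obtain ⟨y, hy⟩ : ∃ y, y ∉ c.support := by
    by_contra hcon
    push Not at hcon
    rw [Finset.eq_univ_of_forall hcon, Finset.card_univ, Fintype.card_fin] at hcard
    omega
  have hxs : x ∈ c.support := mem_support.2 hx
  have hxs' : c x ∈ c.support := mem_support.2 hx3
  obtain ⟨u, hu⟩ := hs c hsign
  obtain ⟨u', hu'⟩ := hs (swap x (c x) * c⁻¹ * (swap x (c x))⁻¹) (by
    rw [map_mul, map_mul, map_inv, map_inv, hsign, sign_swap hx.symm]; simp)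
  have hxy : x ≠ y := fun h => hy (h ▸ hxs)
  obtain ⟨g, hg⟩ := hs (swap x y * swap x (c x)) (by simp [sign_swap hxy, sign_swap hx.symm])
  have hcp : c ^ p = 1 := by rw [← hord, pow_orderOf_eq_one]
  have hsw : ∀ z, swap x (c x) z ∈ c.support ↔ z ∈ c.support := by
    intro z
    by_cases h1 : z = x
    · subst h1; simp only [swap_apply_left, hxs, hxs']
    by_cases h2 : z = c x
    · subst h2; simp only [swap_apply_right, hxs, hxs']
    rw [swap_apply_of_ne_of_ne h1 h2]
  have hsupp : (swap x (c x) * c⁻¹ * (swap x (c x))⁻¹).support = c.support := by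
    ext z
    rw [support_conj, support_inv, Finset.mem_map_equiv, symm_swap, hsw]
  have key := centr_arg h ρ hρ (p := p) (by omega) (u := u) (u' := u') (by rw [hu, hcp])
    (by rw [hu', conj_pow, inv_pow, hcp]; simp) (MulAction.stabilizer (Perm (Fin n)) c.support)
    ⟨g, ?_⟩ ?_ ?_
  · rw [hu, hu'] at key
    have h3 := key.mul_pow p
    rw [hcp, conj_pow, inv_pow, hcp] at h3
    have h4 : c * (swap x (c x) * c⁻¹ * (swap x (c x))⁻¹) =
        swap (c x) (c (c x)) * swap (c x) x := by
      rw [swap_apply_apply, swap_inv, swap_comm (c x) x]; group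
    have h5 := (isThreeCycle_swap_mul_swap_same hx3.symm hx hx2).orderOf
    rw [h4] at h3
    have h6 : 3 ∣ p := h5 ▸ orderOf_dvd_of_pow_eq_one (by simpa using h3)
    have := (Nat.prime_dvd_prime_iff_eq Nat.prime_three hp).1 h6
    omega
  · rw [hg, MulAction.mem_stabilizer_finset]
    intro hcon
    have := (hcon (c x)).2 hxs'
    rw [Perm.smul_def, Perm.mul_apply, swap_apply_right, swap_apply_left] at this
    exact hy this
  · intro a ha
    rw [MulAction.mem_stabilizer_finset]
    intro z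
    rw [hu] at ha
    exact mem_support_iff_of_commute ha z
  · intro a ha
    rw [MulAction.mem_stabilizer_finset]
    intro z
    rw [hu'] at ha
    rw [← hsupp]
    exact mem_support_iff_of_commute ha z

theorem alt5 {𝓐 : Finset (Subgroup (alternatingGroup (Fin 5)))} (h : IsNilpMinCover 𝓐) : False := by
  haveI : Fact (Nat.Prime 3) := ⟨Nat.prime_three⟩
  have key := centr_arg h (alternatingGroup (Fin 5)).subtype Subtype.val_injective (p := 3) (by norm_num)
    (u := ⟨swap 0 1 * swap 0 2, by rw [mem_alternatingGroup]; decide⟩)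
    (u' := ⟨swap 0 1 * swap 0 3, by rw [mem_alternatingGroup]; decide⟩) (by decide)
    (by decide) (MulAction.stabilizer (Perm (Fin 5)) (4 : Fin 5))
    ⟨⟨swap 0 1 * swap 3 4, by rw [mem_alternatingGroup]; decide⟩, by
      rw [MulAction.mem_stabilizer_iff]; decide⟩ ?_ ?_
  · revert key
    unfold Commute SemiconjBy
    decide
  · rintro ⟨g, hg⟩ hc
    have : ∀ σ : Perm (Fin 5), sign σ = 1 →
        σ * (swap 0 1 * swap 0 2) = (swap 0 1 * swap 0 2) * σ → σ 4 = 4 := by decide +kernel
    exact this g hg hc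
  · rintro ⟨g, hg⟩ hc
    have : ∀ σ : Perm (Fin 5), sign σ = 1 →
        σ * (swap 0 1 * swap 0 3) = (swap 0 1 * swap 0 3) * σ → σ 4 = 4 := by decide +kernel
    exact this g hg hc

theorem sym4 {𝓐 : Finset (Subgroup (Perm (Fin 4)))} (h : IsNilpMinCover 𝓐) : False := by
  haveI : Fact (Nat.Prime 3) := ⟨Nat.prime_three⟩
  have key := centr_arg h (MonoidHom.id _) Function.injective_id (p := 3) (by norm_num)
    (u := swap 0 1 * swap 0 2) (u' := swap 0 1 * swap 0 3) (by decide)
    (by decide) (alternatingGroup (Fin 4)) ⟨swap 0 1, by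
      rw [mem_alternatingGroup]; decide⟩ ?_ ?_
  · revert key
    unfold Commute SemiconjBy
    decide
  · intro g hc
    have : ∀ σ : Perm (Fin 4),
        σ * (swap 0 1 * swap 0 2) = (swap 0 1 * swap 0 2) * σ → sign σ = 1 := by decide +kernel
    exact this g hc
  · intro g hc
    have : ∀ σ : Perm (Fin 4),
        σ * (swap 0 1 * swap 0 3) = (swap 0 1 * swap 0 3) * σ → sign σ = 1 := by decide +kernel
    exact this g hc

theorem sym5 {𝓐 : Finset (Subgroup (Perm (Fin 5)))} (h : IsNilpMinCover 𝓐) : False := by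
  haveI : Fact (Nat.Prime 5) := ⟨Nat.prime_five⟩
  have key := centr_arg h (MonoidHom.id _) Function.injective_id (p := 5) (by norm_num)
    (u := swap 0 1 * swap 0 2 * swap 0 3 * swap 0 4) (u' := swap 0 2 * swap 0 1 * swap 0 3 * swap 0 4)
    (by decide) (by decide) (alternatingGroup (Fin 5)) ⟨swap 0 1, by
      rw [mem_alternatingGroup]; decide⟩ ?_ ?_
  · revert key
    unfold Commute SemiconjBy
    decide
  · intro g hc
    have : ∀ σ : Perm (Fin 5), σ * (swap 0 1 * swap 0 2 * swap 0 3 * swap 0 4) =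
      (swap 0 1 * swap 0 2 * swap 0 3 * swap 0 4) * σ → sign σ = 1 := by decide +kernel
    exact this g hc
  · intro g hc
    have : ∀ σ : Perm (Fin 5), σ * (swap 0 2 * swap 0 1 * swap 0 3 * swap 0 4) =
      (swap 0 2 * swap 0 1 * swap 0 3 * swap 0 4) * σ → sign σ = 1 := by decide +kernel
    exact this g hc

end H65.NCov
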