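import Cfsg.Agent.H65.NCov

/-!
Groups between `PSL_n(q)` and `PGL_n(q)` have no nilpotent minimal cover.
-/

set_option autoImplicit false

namespace H65.NCov

open H26 Matrix Projectivization
open scoped LinearAlgebra.Projectivization

variable {F : Type*} [Field F] {n : ℕ}

/-- inverse transpose -/
def invT : GL (Fin n) F →* GL (Fin n) F where
  toFun g := ⟨(g⁻¹).valᵀ, g.valᵀ, by rw [← transpose_mul]; simp, by rw [← transpose_mul]; simp⟩
  map_one' := Units.ext (by simp)
  map_mul' a b := Units.ext (by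
    change ((a * b)⁻¹).valᵀ = (a⁻¹).valᵀ * (b⁻¹).valᵀ
    rw [_root_.mul_inv_rev, Units.val_mul, transpose_mul])

theorem invT_inv_val (g : GL (Fin n) F) : ((invT g)⁻¹).val = g.valᵀ := rfl

theorem smul_fix_iff (g : GL (Fin n) F) {v : Fin n → F} (hv : v ≠ 0) :
    g • mk F v hv = mk F v hv ↔ ∃ c : F, g.val *ᵥ v = c • v := by
  rw [smul_mk, mk_eq_mk_iff']
  exact ⟨fun ⟨c, hc⟩ => ⟨c, hc.symm⟩, fun ⟨c, hc⟩ => ⟨c, hc.symm⟩⟩

theorem center_smul {g : GL (Fin n) F} (hg : g ∈ Subgroup.center (GL (Fin n) F))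
    (x : ℙ F (Fin n → F)) : g • x = x := by
  obtain ⟨c, hc⟩ := GeneralLinearGroup.mem_center_iff_val_mem_range_scalar.1 hg
  induction x using Projectivization.ind with | _ v hv =>
  rw [smul_fix_iff]
  exact ⟨c, by rw [← hc]; simp⟩

theorem invT_center {g : GL (Fin n) F} (hg : g ∈ Subgroup.center (GL (Fin n) F)) :
    invT g ∈ Subgroup.center (GL (Fin n) F) := by
  rw [← Subgroup.inv_mem_iff]
  obtain ⟨c, hc⟩ := GeneralLinearGroup.mem_center_iff_val_mem_range_scalar.1 hg
  rw [GeneralLinearGroup.mem_center_iff_val_mem_range_scalar, invT_inv_val]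
  exact ⟨c, by rw [← hc]; simp⟩

/-- the action of `PGL` on points, twisted by `θ` -/
def act (θ : GL (Fin n) F →* GL (Fin n) F)
    (hθ : ∀ g ∈ Subgroup.center (GL (Fin n) F), θ g ∈ Subgroup.center (GL (Fin n) F)) :
    (GL (Fin n) F ⧸ Subgroup.center (GL (Fin n) F)) →* Equiv.Perm (ℙ F (Fin n → F)) :=
  QuotientGroup.lift _ ((MulAction.toPermHom (GL (Fin n) F) (ℙ F (Fin n → F))).comp θ)
    (fun g hg => Equiv.ext fun x => center_smul (hθ g hg) x)

theorem act_mk (θ : GL (Fin n) F →* GL (Fin n) F) (hθ) (g : GL (Fin n) F) (x : ℙ F (Fin n → F)) :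
    act θ hθ (QuotientGroup.mk g) x = θ g • x := rfl

theorem not_dvd_card [Fintype F] (hn : 0 < n) {p : ℕ} [hp : Fact p.Prime] [CharP F p] :
    ¬ p ∣ Nat.card (ℙ F (Fin n → F)) := by
  intro h
  have h1 := card' F (Fin n → F)
  obtain ⟨k, -, hk⟩ := FiniteField.card F p
  have h2 : p ∣ Nat.card (Fin n → F) := by
    rw [Nat.card_fun, Nat.card_eq_fintype_card, hk, Nat.card_eq_fintype_card, Fintype.card_fin]
    exact dvd_pow (dvd_pow_self p k.ne_zero) hn.ne'
  rw [h1] at h2
  exact hp.out.one_lt.ne' (Nat.dvd_one.1 ((Nat.dvd_add_right (h.mul_right _)).1 h2))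

theorem unip_fix {N : Matrix (Fin n) (Fin n) F} {m : ℕ} (hN : N ^ m = 0) {v : Fin n → F} (hv : v ≠ 0)
    {c : F} (h : (1 + N) *ᵥ v = c • v) : N *ᵥ v = 0 := by
  have h1 : N *ᵥ v = (c - 1) • v := by
    rw [add_mulVec, one_mulVec] at h
    rw [sub_smul, ← h, one_smul]; simp
  have h2 : ∀ j : ℕ, (N ^ j) *ᵥ v = (c - 1) ^ j • v := by
    intro j
    induction j with
    | zero => simp
    | succ j ih => rw [pow_succ, ← mulVec_mulVec, h1, mulVec_smul, ih, smul_smul, pow_succ']
  have h3 := h2 m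
  rw [hN, zero_mulVec] at h3
  have h4 : (c - 1) ^ m = 0 := (smul_eq_zero.1 h3.symm).resolve_right hv
  rw [h1, pow_eq_zero_iff' |>.1 h4 |>.1, zero_smul]

/-- the nilpotent shift -/
def sh (n : ℕ) (F : Type*) [Field F] : Matrix (Fin n) (Fin n) F :=
  Matrix.of fun i j => if (j : ℕ) = i + 1 then 1 else 0

theorem sh_pow (k : ℕ) (i j : Fin n) (h : (j : ℕ) < i + k) : ((sh n F) ^ k) i j = 0 := by
  induction k generalizing i with
  | zero =>
    rw [pow_zero, one_apply_ne]
    rintro rfl; omega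
  | succ k ih =>
    rw [pow_succ', mul_apply]
    refine Finset.sum_eq_zero fun l _ => ?_
    by_cases hl : (l : ℕ) = i + 1
    · rw [ih l (by omega), mul_zero]
    · simp [sh, hl]

theorem sh_pow_n : (sh n F) ^ n = 0 := by
  ext i j
  exact sh_pow n i j (by omega)

theorem det_sh : (1 + sh n F).det = 1 := by
  rw [det_of_upperTriangular]
  · refine Finset.prod_eq_one fun i _ => ?_
    simp [sh]
  · intro i j hij
    have : (j : ℕ) < i := hij
    rw [Matrix.add_apply, one_apply_ne (by rintro rfl; omega)]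
    simp only [sh, of_apply]
    rw [if_neg (by omega)]; simp

theorem ker_sh {v : Fin n → F} (h : sh n F *ᵥ v = 0) (j : Fin n) (hj : (j : ℕ) ≠ 0) : v j = 0 := by
  have := congrFun h ⟨j - 1, by omega⟩
  rw [mulVec, dotProduct, Finset.sum_eq_single j] at this
  · simp only [sh, of_apply] at this
    rw [if_pos (by omega), one_mul] at this
    exact this
  · intro l _ hl
    simp only [sh, of_apply]
    rw [if_neg, zero_mul]
    intro h; apply hl; ext; omega
  · simp

theorem ker_shT {v : Fin n → F} (h : (sh n F)ᵀ *ᵥ v = 0) (j : Fin n) (hj : (j : ℕ) + 1 ≠ n) :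
    v j = 0 := by
  have := congrFun h ⟨j + 1, by omega⟩
  rw [mulVec, dotProduct, Finset.sum_eq_single j] at this
  · simpa [sh] using this
  · intro l _ hl
    simp only [sh, of_apply, transpose_apply]
    rw [if_neg, zero_mul]
    intro h; apply hl; ext; omega
  · simp

theorem single_ne (i : Fin n) : (Pi.single i 1 : Fin n → F) ≠ 0 := by
  intro h
  simpa using congrFun h i

theorem mk_eq_single {v : Fin n → F} (hv : v ≠ 0) (i : Fin n) (h : ∀ j, j ≠ i → v j = 0) :
    mk F v hv = mk F (Pi.single i 1) (single_ne i) := by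
  rw [mk_eq_mk_iff']
  refine ⟨v i, funext fun j => ?_⟩
  by_cases hj : j = i
  · subst hj; simp
  · simp [hj, h j hj]

/-- the regular unipotent element -/
def uu (n : ℕ) (F : Type*) [Field F] : SpecialLinearGroup (Fin n) F := ⟨1 + sh n F, det_sh⟩

theorem uu_pow (hn : 0 < n) (p : ℕ) [hp : Fact p.Prime] [CharP F p] : (uu n F) ^ p ^ n = 1 := by
  haveI : Nonempty (Fin n) := ⟨⟨0, hn⟩⟩
  have h : (1 + sh n F) ^ p ^ n = 1 := by
    rw [add_pow_char_pow_of_commute _ _ (Commute.one_left _), one_pow,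
      pow_eq_zero_of_le (Nat.lt_pow_self hp.out.one_lt).le sh_pow_n, add_zero]
  exact Subtype.ext ((Matrix.SpecialLinearGroup.coe_pow (uu n F) (p ^ n)).trans h)

theorem uu_fix (hn : 0 < n) (x : ℙ F (Fin n → F))
    (h : SpecialLinearGroup.toGL (uu n F) • x = x) :
    x = mk F (Pi.single ⟨0, hn⟩ 1) (single_ne _) := by
  induction x using Projectivization.ind with | _ v hv =>
  obtain ⟨c, hc⟩ := (smul_fix_iff _ hv).1 h
  have h1 := unip_fix sh_pow_n hv hc
  exact mk_eq_single hv _ fun j hj => ker_sh h1 j fun h => hj (Fin.ext h)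

theorem uu_fix' (hn : 0 < n) (x : ℙ F (Fin n → F))
    (h : invT (SpecialLinearGroup.toGL (uu n F)) • x = x) :
    x = mk F (Pi.single ⟨n - 1, by omega⟩ 1) (single_ne _) := by
  induction x using Projectivization.ind with | _ v hv =>
  have h' : (invT (SpecialLinearGroup.toGL (uu n F)))⁻¹ • mk F v hv = mk F v hv :=
    inv_smul_eq_iff.2 h.symm
  obtain ⟨c, hc⟩ := (smul_fix_iff _ hv).1 h'
  rw [invT_inv_val] at hc
  have hc' : (1 + (sh n F)ᵀ) *ᵥ v = c • v := by
    rw [← hc, ← transpose_one, ← transpose_add]; rfl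
  have h1 := unip_fix (m := n) (by rw [← transpose_pow, sh_pow_n, transpose_zero]) hv hc'
  exact mk_eq_single hv _ fun j hj => ker_shT h1 j fun h => hj (Fin.ext (by simp; omega))

/-- transvections as elements of `SL` -/
def tv {i j : Fin n} (h : i ≠ j) : SpecialLinearGroup (Fin n) F :=
  ⟨transvection i j 1, det_transvection_of_ne i j h 1⟩

theorem tv_mulVec (i j k : Fin n) : transvection i j (1 : F) *ᵥ Pi.single k 1 =
    Pi.single k 1 + if j = k then Pi.single i 1 else 0 := by
  rw [transvection, add_mulVec, one_mulVec]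
  congr 1
  ext l
  rw [mulVec_single_one]
  by_cases h : j = k
  · subst h
    by_cases h' : i = l
    · subst h'; simp
    · simp [h', Ne.symm h']
  · simp [h]

theorem tv_move {i j : Fin n} (h : i ≠ j) (c : F) :
    transvection i j (1 : F) *ᵥ Pi.single j 1 ≠ c • Pi.single j 1 := by
  rw [tv_mulVec, if_pos rfl]
  intro h'
  simpa [h] using congrFun h' i

section main

variable (G : Subgroup (GL (Fin n) F ⧸ Subgroup.center (GL (Fin n) F)))
  (hG : ((Matrix.SpecialLinearGroup.toGL : Matrix.SpecialLinearGroup (Fin n) F →* GL (Fin n) F).range).map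
      (QuotientGroup.mk' (Subgroup.center (GL (Fin n) F))) ≤ G)

/-- `SL → G` -/
def sl : SpecialLinearGroup (Fin n) F →* G :=
  ((QuotientGroup.mk' (Subgroup.center (GL (Fin n) F))).comp SpecialLinearGroup.toGL).codRestrict G
    fun g => hG ⟨_, ⟨g, rfl⟩, rfl⟩

/-- points -/
def r1 : G →* Equiv.Perm (ℙ F (Fin n → F)) := (act (MonoidHom.id _) fun _ h => h).comp G.subtype

/-- hyperplanes -/
def r2 : G →* Equiv.Perm (ℙ F (Fin n → F)) := (act invT fun _ h => invT_center h).comp G.subtype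

theorem r1_sl (g : SpecialLinearGroup (Fin n) F) (x : ℙ F (Fin n → F)) :
    r1 G (sl G hG g) x = SpecialLinearGroup.toGL g • x := rfl

theorem r2_sl (g : SpecialLinearGroup (Fin n) F) (x : ℙ F (Fin n → F)) :
    r2 G (sl G hG g) x = invT (SpecialLinearGroup.toGL g) • x := rfl

theorem r1_mk (g : GL (Fin n) F) (h : (QuotientGroup.mk g : GL (Fin n) F ⧸ _) ∈ G)
    (x : ℙ F (Fin n → F)) : r1 G ⟨QuotientGroup.mk g, h⟩ x = g • x := rfl

include hG in
theorem big [Fintype F] (hn : 3 ≤ n) {𝓐 : Finset (Subgroup G)} (h : IsNilpMinCover 𝓐) : False := by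
  classical
  obtain ⟨p, hp⟩ := CharP.exists F
  haveI : Fact p.Prime := ⟨CharP.char_is_prime F p⟩
  have h0 : 0 < n := by omega
  have hne : (⟨n - 1, by omega⟩ : Fin n) ≠ ⟨1, by omega⟩ := by
    intro h; have := congrArg Fin.val h; simp at this; omega
  have hne' : (⟨1, by omega⟩ : Fin n) ≠ ⟨0, h0⟩ := by
    intro h; have := congrArg Fin.val h; simp at this
  refine two_actions h (r1 G) (r2 G) (p := p) (not_dvd_card h0) (not_dvd_card h0)
    (u := sl G hG (uu n F)) (w := sl G hG (tv hne)) (k := n) (by rw [← map_pow, uu_pow h0, map_one])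
    (fun x hx => uu_fix h0 x hx) (fun x hx => uu_fix' h0 x hx) ?_ ?_ ⟨sl G hG (tv hne'), ?_⟩
  · rw [r1_sl, smul_fix_iff]
    refine ⟨1, ?_⟩
    change transvection _ _ (1 : F) *ᵥ _ = _
    rw [tv_mulVec, if_neg hne', add_zero, one_smul]
  · rw [r2_sl]
    intro h1
    obtain ⟨c, hc⟩ := (smul_fix_iff _ _).1 (inv_smul_eq_iff.2 h1.symm)
    rw [invT_inv_val] at hc
    apply tv_move hne.symm c
    rw [← hc]
    congr 1
    change _ = (transvection _ _ (1 : F))ᵀ
    simp [transvection]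
  · rw [r1_sl]
    intro h1
    obtain ⟨c, hc⟩ := (smul_fix_iff _ _).1 h1
    exact tv_move hne' c hc

end main

end H65.NCov
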