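import Cfsg.Agent.H65.NCovPGL

/-!
Groups between `PSL_2(q)` and `PGL_2(q)`, `q ≥ 4`, have no nilpotent minimal cover.
-/

set_option autoImplicit false

namespace H65.NCov

open H26 Matrix Projectivization Polynomial
open scoped LinearAlgebra.Projectivization

variable {F : Type*} [Field F]

theorem arith (q : ℕ) (hq : 1 ≤ q) : ∃ m m' : ℕ, q - 1 ∣ 2 * m ∧ q + 1 ∣ 2 * m' ∧ m ∣ q - 1 ∧
    m.Coprime m' := by
  rcases Nat.even_or_odd' q with ⟨k, rfl | rfl⟩
  · refine ⟨2 * k - 1, 2 * k + 1, Dvd.intro_left _ rfl, Dvd.intro_left _ rfl, dvd_rfl, ?_⟩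
    have : 2 * k + 1 = (2 * k - 1) + 2 := by omega
    rw [this, Nat.coprime_self_add_right, Nat.coprime_two_right]
    exact ⟨k - 1, by omega⟩
  · refine ⟨k, k + 1, by simp, ⟨1, by ring⟩, ⟨2, by simp [mul_comm]⟩, by simp⟩

variable (G : Subgroup (GL (Fin 2) F ⧸ Subgroup.center (GL (Fin 2) F)))
  (hG : ((Matrix.SpecialLinearGroup.toGL : Matrix.SpecialLinearGroup (Fin 2) F →* GL (Fin 2) F).range).map
      (QuotientGroup.mk' (Subgroup.center (GL (Fin 2) F))) ≤ G)

include hG in
theorem sq_mem (g : GL (Fin 2) F) : (QuotientGroup.mk (g ^ 2) : GL (Fin 2) F ⧸ _) ∈ G := by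
  have hd : g.val.det ≠ 0 := GeneralLinearGroup.det_ne_zero g
  let h : Matrix.SpecialLinearGroup (Fin 2) F := ⟨(g.val.det)⁻¹ • (g.val * g.val), by
    rw [det_smul, det_mul, Fintype.card_fin]; field_simp⟩
  refine hG ⟨_, ⟨h, rfl⟩, ?_⟩
  change (QuotientGroup.mk _ : GL (Fin 2) F ⧸ _) = _
  rw [QuotientGroup.eq, GeneralLinearGroup.mem_center_iff_val_mem_range_scalar]
  refine ⟨g.val.det, ?_⟩
  have h1 : (Matrix.SpecialLinearGroup.toGL h).val * scalar (Fin 2) g.val.det = (g ^ 2).val := by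
    change (g.val.det)⁻¹ • (g.val * g.val) * _ = _
    rw [pow_two, Units.val_mul, scalar_apply, ← smul_one_eq_diagonal, Matrix.mul_smul, mul_one,
      smul_smul, mul_inv_cancel₀ hd, one_smul]
  rw [Units.val_mul, ← h1, ← mul_assoc, ← Units.val_mul, inv_mul_cancel, Units.val_one, one_mul]

include hG in
theorem nonsplit [Fintype F] (hq : 4 ≤ Fintype.card F) {m' : ℕ} (hm' : Fintype.card F + 1 ∣ 2 * m')
    (g : G) (hg : ∀ z, r1 G g z ≠ z) : ∃ s : G, g ∈ Subgroup.zpowers s ∧
      ∃ s' ∈ Subgroup.zpowers s, s' ^ m' = 1 ∧ ∀ z, r1 G (s' ^ 2) z ≠ z := by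
  classical
  obtain ⟨g, hgG⟩ := g
  induction g using QuotientGroup.induction_on with | H g =>
  have hmon : g.val.charpoly.Monic := charpoly_monic _
  have hdeg : g.val.charpoly.natDegree = 2 := by rw [charpoly_natDegree_eq_dim, Fintype.card_fin]
  have hirr : Irreducible g.val.charpoly := by
    rw [hmon.irreducible_iff_roots_eq_zero_of_degree_le_three (by omega) (by omega),
      Multiset.eq_zero_iff_forall_notMem]
    intro c hc
    have h1 := (mem_roots hmon.ne_zero).1 hc
    rw [IsRoot.def, eval_charpoly] at h1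
    obtain ⟨v, hv, h2⟩ := exists_mulVec_eq_zero_iff.2 h1
    apply hg (mk F v hv)
    rw [r1_mk, smul_fix_iff]
    refine ⟨c, ?_⟩
    rw [sub_mulVec, sub_eq_zero] at h2
    rw [← h2]; simp
  haveI : Fact (Irreducible g.val.charpoly) := ⟨hirr⟩
  let K := AdjoinRoot g.val.charpoly
  let ι : K →+* Matrix (Fin 2) (Fin 2) F := Ideal.Quotient.lift _ (aeval g.val).toRingHom (by
    intro a ha
    obtain ⟨b, rfl⟩ := Ideal.mem_span_singleton'.1 ha
    simp [aeval_self_charpoly])
  have hι1 : ι (AdjoinRoot.root _) = g.val := by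
    change aeval g.val X = _
    simp
  have hι2 : ∀ c : F, ι (algebraMap F K c) = scalar (Fin 2) c := by
    intro c
    change aeval g.val (C c) = _
    rw [aeval_C]; rfl
  have hrk : Module.finrank F K = 2 := by
    rw [(AdjoinRoot.powerBasis hmon.ne_zero).finrank, AdjoinRoot.powerBasis_dim, hdeg]
  haveI : Module.Finite F K := (AdjoinRoot.powerBasis hmon.ne_zero).finite
  haveI : Finite K := Module.finite_of_finite F
  letI : Fintype K := Fintype.ofFinite K
  have hK : Fintype.card K = Fintype.card F ^ 2 := by rw [Module.card_eq_pow_finrank (K := F), hrk]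
  let ψ : Kˣ →* GL (Fin 2) F ⧸ Subgroup.center (GL (Fin 2) F) :=
    (QuotientGroup.mk' _).comp (Units.map ι.toMonoidHom)
  obtain ⟨γ, hγ⟩ := IsCyclic.exists_generator (α := Kˣ)
  have hord : orderOf γ = Fintype.card F ^ 2 - 1 := by
    rw [orderOf_eq_card_of_forall_mem_zpowers hγ, Nat.card_units, Nat.card_eq_fintype_card, hK]
  obtain ⟨σ, hσ⟩ := IsCyclic.exists_generator (α := G.comap ψ)
  have hz : ∀ (x : Kˣ) (hx : ψ x ∈ G), (⟨ψ x, hx⟩ : G) ∈ Subgroup.zpowers (⟨ψ σ, σ.2⟩ : G) := by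
    intro x hx
    obtain ⟨k, hk⟩ := hσ ⟨x, hx⟩
    refine ⟨k, Subtype.ext ?_⟩
    have : (σ : Kˣ) ^ k = x := congrArg Subtype.val hk
    change ψ σ ^ k = ψ x
    rw [← map_zpow, this]
  have hroot : AdjoinRoot.root g.val.charpoly ≠ 0 := by
    intro h
    rw [h, map_zero] at hι1
    exact GeneralLinearGroup.det_ne_zero g (by rw [← hι1]; simp)
  have hψg : ψ (Units.mk0 _ hroot) = QuotientGroup.mk g := by
    change QuotientGroup.mk _ = _
    congr 1
    exact Units.ext hι1
  have h2 : ψ (γ ^ 2) ∈ G := by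
    change (QuotientGroup.mk (Units.map ι.toMonoidHom (γ ^ 2)) : GL (Fin 2) F ⧸ _) ∈ G
    rw [map_pow]; exact sq_mem G hG _
  refine ⟨⟨ψ σ, σ.2⟩, ?_, ⟨ψ (γ ^ 2), h2⟩, hz _ h2, ?_, ?_⟩
  · have := hz (Units.mk0 _ hroot) (hψg ▸ hgG)
    convert this using 2
    exact hψg.symm
  · apply Subtype.ext
    change ψ (γ ^ 2) ^ m' = 1
    obtain ⟨k, hk⟩ := hm'
    rw [← map_pow, ← pow_mul, hk, pow_mul, map_pow]
    have hinj : Function.Injective (Units.map (algebraMap F K).toMonoidHom) :=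
      Units.map_injective (algebraMap F K).injective
    have hidx : (Units.map (algebraMap F K).toMonoidHom).range.index = Fintype.card F + 1 := by
      have h3 := (Units.map (algebraMap F K).toMonoidHom).range.card_mul_index
      rw [← Nat.card_congr (MonoidHom.ofInjective hinj).toEquiv, Nat.card_units, Nat.card_units,
        Nat.card_eq_fintype_card, Nat.card_eq_fintype_card, hK] at h3
      have h4 : Fintype.card F ^ 2 - 1 = (Fintype.card F - 1) * (Fintype.card F + 1) := by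
        rw [mul_comm, ← Nat.sq_sub_sq]
      rw [h4] at h3
      exact Nat.eq_of_mul_eq_mul_left (by omega) h3
    obtain ⟨c, hc⟩ := (Units.map (algebraMap F K).toMonoidHom).range.pow_index_mem γ
    rw [hidx] at hc
    have h5 : ψ (γ ^ (Fintype.card F + 1)) = 1 := by
      rw [← hc]
      change (QuotientGroup.mk _ : GL (Fin 2) F ⧸ _) = 1
      rw [QuotientGroup.eq_one_iff, GeneralLinearGroup.mem_center_iff_val_mem_range_scalar]
      exact ⟨c, (hι2 c).symm⟩
    rw [h5, one_pow]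
  · intro z hz
    induction z using Projectivization.ind with | _ v hv =>
    have h3' : (QuotientGroup.mk (Units.map ι.toMonoidHom (γ ^ 4)) : GL (Fin 2) F ⧸ _) ∈ G := by
      have h := G.pow_mem h2 2
      rw [← map_pow, ← pow_mul] at h; exact h
    have h3 : (⟨ψ (γ ^ 2), h2⟩ : G) ^ 2 =
        ⟨QuotientGroup.mk (Units.map ι.toMonoidHom (γ ^ 4)), h3'⟩ := by
      apply Subtype.ext
      change ψ (γ ^ 2) ^ 2 = ψ (γ ^ 4)
      rw [← map_pow, ← pow_mul]
    rw [h3, r1_mk, smul_fix_iff] at hz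
    obtain ⟨c, hc⟩ := hz
    have h4 : ι ((γ : K) ^ 4 - algebraMap F K c) *ᵥ v = 0 := by
      rw [map_sub, hι2, sub_mulVec, sub_eq_zero]
      refine Eq.trans ?_ (hc.trans (by simp))
      rfl
    have h5 : (γ : K) ^ 4 = algebraMap F K c := by
      by_contra hne
      have h6 := congrArg (ι ((γ : K) ^ 4 - algebraMap F K c)⁻¹ *ᵥ ·) h4
      simp only [mulVec_mulVec, mulVec_zero] at h6
      rw [← map_mul, inv_mul_cancel₀ (sub_ne_zero.2 hne), map_one, one_mulVec] at h6
      exact hv h6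
    have hc0 : c ≠ 0 := by
      rintro rfl
      rw [map_zero] at h5
      exact pow_ne_zero 4 γ.ne_zero h5
    have h6 : γ ^ (4 * (Fintype.card F - 1)) = 1 := by
      apply Units.ext
      rw [Units.val_pow_eq_pow_val, pow_mul, h5, ← map_pow, FiniteField.pow_card_sub_one_eq_one c hc0,
        map_one, Units.val_one]
    have h7 := orderOf_dvd_of_pow_eq_one h6
    rw [hord, show Fintype.card F ^ 2 - 1 = (Fintype.card F + 1) * (Fintype.card F - 1) by
      rw [← Nat.sq_sub_sq]] at h7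
    have h8 := Nat.le_of_dvd (by norm_num) (Nat.dvd_of_mul_dvd_mul_right (by omega) h7)
    omega

include hG in
theorem small [Fintype F] (hq : 4 ≤ Fintype.card F) {𝓐 : Finset (Subgroup G)}
    (h : IsNilpMinCover 𝓐) : False := by
  classical
  obtain ⟨p, hp⟩ := CharP.exists F
  haveI : Fact p.Prime := ⟨CharP.char_is_prime F p⟩
  obtain ⟨m, m', hm, hm', hmq, hcop⟩ := arith (Fintype.card F) (by omega)
  obtain ⟨a, ha⟩ := IsCyclic.exists_generator (α := Fˣ)
  have hord : orderOf a = Fintype.card F - 1 := by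
    rw [orderOf_eq_card_of_forall_mem_zpowers ha, Nat.card_units, Nat.card_eq_fintype_card]
  have ha2 : (a : F) ≠ (a⁻¹ : Fˣ) := by
    intro h1
    have h2 : a ^ 2 = 1 := by rw [pow_two]; nth_rewrite 1 [Units.ext h1]; simp
    have := Nat.le_of_dvd (by norm_num) (orderOf_dvd_of_pow_eq_one h2)
    omega
  have hxy : mk F (Pi.single (0 : Fin 2) (1 : F) : Fin 2 → F) (single_ne _) ≠
      mk F (Pi.single (1 : Fin 2) (1 : F) : Fin 2 → F) (single_ne _) := by
    rw [Ne, mk_eq_mk_iff']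
    rintro ⟨c, hc⟩
    simpa using congrFun hc 0
  have htr : ∀ x y : ℙ F (Fin 2 → F), ∃ g : Matrix.SpecialLinearGroup (Fin 2) F,
      r1 G (sl G hG g) x = y := by
    intro x y
    obtain ⟨g, hg⟩ := MulAction.exists_smul_eq (Matrix.SpecialLinearGroup (Fin 2) F) x y
    refine ⟨g, ?_⟩
    rw [← hg, r1_sl]
    induction x using Projectivization.ind with | _ v hv => rfl
  let D : Matrix.SpecialLinearGroup (Fin 2) F := ⟨diagonal ![(a : F), (a⁻¹ : Fˣ)], by simp⟩
  refine rank_one h (r1 G) (p := p) (not_dvd_card (by norm_num)) ?_ ?_ (sl G hG D) hxy ?_ ?_ ?_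
    (m := m) ?_ ?_ ?_
  · intro l
    obtain ⟨g, hg⟩ := htr (mk F (Pi.single (0 : Fin 2) (1 : F)) (single_ne _)) l
    refine ⟨sl G hG g * sl G hG (uu 2 F) * (sl G hG g)⁻¹, 2, ?_, ?_⟩
    · rw [conj_pow, ← map_pow, uu_pow (by norm_num)]; simp
    · intro x hx
      rw [map_mul, map_mul, map_inv] at hx
      have h3 : r1 G (sl G hG (uu 2 F)) ((r1 G (sl G hG g))⁻¹ x) = (r1 G (sl G hG g))⁻¹ x := by
        have := congrArg (fun z => (r1 G (sl G hG g))⁻¹ z) hx
        simpa [Equiv.Perm.mul_apply] using this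
      have h4 := uu_fix (by norm_num) _ h3
      rw [← hg]
      exact (Equiv.Perm.inv_eq_iff_eq.1 h4)
  · intro l
    by_cases hl : l = mk F (Pi.single (0 : Fin 2) (1 : F)) (single_ne _)
    · obtain ⟨g, hg⟩ := htr l (mk F (Pi.single (1 : Fin 2) (1 : F)) (single_ne _))
      exact ⟨sl G hG g, by rw [hg, hl]; exact hxy.symm⟩
    · obtain ⟨g, hg⟩ := htr l (mk F (Pi.single (0 : Fin 2) (1 : F)) (single_ne _))
      exact ⟨sl G hG g, by rw [hg]; exact Ne.symm hl⟩
  · rw [r1_sl, smul_fix_iff]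
    refine ⟨a, ?_⟩
    change diagonal _ *ᵥ _ = _
    ext i; fin_cases i <;> simp [mulVec_diagonal]
  · rw [r1_sl, smul_fix_iff]
    refine ⟨(a⁻¹ : Fˣ), ?_⟩
    change diagonal _ *ᵥ _ = _
    ext i; fin_cases i <;> simp [mulVec_diagonal]
  · intro z hz
    induction z using Projectivization.ind with | _ v hv =>
    rw [r1_sl, smul_fix_iff] at hz
    obtain ⟨c, hc⟩ := hz
    change diagonal _ *ᵥ _ = _ at hc
    have h0 : (a : F) * v 0 = c * v 0 := by simpa [mulVec_diagonal] using congrFun hc 0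
    have h1 : ((a⁻¹ : Fˣ) : F) * v 1 = c * v 1 := by
      have := congrFun hc 1
      rw [mulVec_diagonal] at this
      exact this
    by_cases hv1 : v 1 = 0
    · left
      refine mk_eq_single hv _ fun j hj => ?_
      fin_cases j
      · exact absurd rfl hj
      · exact hv1
    · right
      refine mk_eq_single hv _ fun j hj => ?_
      fin_cases j
      · by_contra hv0
        exact ha2 ((mul_right_cancel₀ hv0 h0).trans (mul_right_cancel₀ hv1 h1).symm)
      · exact absurd rfl hj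
  · rw [← map_pow]
    apply Subtype.ext
    change (QuotientGroup.mk _ : GL (Fin 2) F ⧸ _) = 1
    rw [QuotientGroup.eq_one_iff, GeneralLinearGroup.mem_center_iff_val_mem_range_scalar]
    refine ⟨(a : F) ^ m, ?_⟩
    rw [Matrix.SpecialLinearGroup.coe_GL_coe_matrix, Matrix.SpecialLinearGroup.coe_pow]
    change _ = diagonal _ ^ m
    rw [diagonal_pow, scalar_apply]
    congr 1
    have h1 : a ^ (2 * m) = 1 := orderOf_dvd_iff_pow_eq_one.1 (hord ▸ hm)
    have h2 : a ^ m = a⁻¹ ^ m := by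
      rw [inv_pow, eq_inv_iff_mul_eq_one, ← pow_add, ← two_mul, h1]
    ext i; fin_cases i
    · simp
    · have := congrArg Units.val h2
      simpa using this
  · obtain ⟨k, -, hk⟩ := FiniteField.card F p
    refine Nat.Coprime.coprime_dvd_right hmq ?_
    refine Nat.Coprime.coprime_dvd_left (k := Fintype.card F) (hk ▸ dvd_pow_self p k.ne_zero) ?_
    exact (Nat.coprime_self_sub_right (by omega)).2 (by simp)
  · intro g hg
    obtain ⟨s, hs, s', hs', h1, h2⟩ := nonsplit G hG hq hm' g hg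
    exact ⟨s, hs, s', hs', m', h1, hcop, h2⟩

end H65.NCov
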