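/- ON2 tower (S2201): job B2, abelian Sylow subgroup. -/
import Cfsg.Agent.H89.ON2Kit

set_option autoImplicit false
set_option linter.unusedSectionVars false
set_option linter.unusedVariables false

namespace H65.ON2

open MulAction Cfsg Subgroup H89.K H98 H89.ON2

universe u

/-- Averaging over the cosets of a subgroup of odd index. -/
theorem average {G : Type*} [Group G] [Finite G] {B R M : Subgroup G} {l : G}
    (ab : ∀ x ∈ B, ∀ y ∈ B, x * y = y * x) (hR : R ≤ B) (hl : l ∈ B) (l2 : l * l = 1)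
    (hM : M ≤ normalizer (B : Set G)) (odd : ¬ 2 ∣ R.relIndex M)
    (h : ∀ m ∈ M, m * l * m⁻¹ * l⁻¹ ∈ R) :
    ∃ r ∈ R, r * l * (r * l) = 1 ∧ ∀ m ∈ M, m * (r * l) * m⁻¹ = r * l := by
  classical
  letI : CommGroup B := { (inferInstance : Group B) with mul_comm := fun x y => Subtype.ext (ab _ x.2 _ y.2) }
  let φ : M → B →* B := fun m => MonoidHom.mk' (fun x => ⟨m * x * m⁻¹,
    conj_mem_of_mem_normalizer (hM m.2) x.2⟩) fun x y => Subtype.ext (by simp [mul_assoc])
  let f : M ⧸ R.subgroupOf M → B := Quotient.lift (fun m => φ m ⟨l, hl⟩) fun m m' e => Subtype.ext (by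
    have e1 : (m : G)⁻¹ * m' ∈ R := (QuotientGroup.leftRel_apply (s := R.subgroupOf M)).1 e
    have := ab _ (hR e1) _ hl
    change (m : G) * l * (m : G)⁻¹ = m' * l * (m' : G)⁻¹
    rw [show (m' : G) * l * (m' : G)⁻¹ = m * ((m : G)⁻¹ * m' * l) * (m' : G)⁻¹ by group, this]; group)
  letI := Fintype.ofFinite (M ⧸ R.subgroupOf M)
  have f2 : ∀ q, f q ^ 2 = 1 := fun q => by
    induction q using QuotientGroup.induction_on with
    | H m => exact (map_pow (φ m) _ 2).symm.trans (by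
      rw [show (⟨l, hl⟩ : B) ^ 2 = 1 from Subtype.ext (by simpa [sq] using l2), map_one])
  have m1 : ∏ q, f q * (⟨l, hl⟩ : B)⁻¹ ∈ R.subgroupOf B := prod_mem fun q _ => by
    induction q using QuotientGroup.induction_on with
    | H m => exact h m m.2
  have e : (⟨l, hl⟩ : B)⁻¹ ^ Fintype.card (M ⧸ R.subgroupOf M) = (⟨l, hl⟩ : B)⁻¹ := by
    obtain ⟨k, hk⟩ : Odd (Fintype.card (M ⧸ R.subgroupOf M)) := by
      rw [← Nat.card_eq_fintype_card, ← Nat.not_even_iff_odd, even_iff_two_dvd]; exact odd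
    rw [hk, pow_succ, pow_mul, inv_pow, show (⟨l, hl⟩ : B) ^ 2 = 1 from
      Subtype.ext (by simpa [sq] using l2)]
    simp
  rw [Finset.prod_mul_distrib, Finset.prod_const, Finset.card_univ, e] at m1
  refine ⟨_, m1, ?_, fun m hm => ?_⟩
  · have : (∏ q, f q) ^ 2 = 1 := by rw [← Finset.prod_pow]; simp [f2]
    simpa [sq] using congrArg Subtype.val this
  · have : φ ⟨m, hm⟩ (∏ q, f q) = ∏ q, f q := by
      rw [map_prod, ← Equiv.prod_comp (MulAction.toPerm (⟨m, hm⟩ : M)) f]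
      refine Finset.prod_congr rfl fun q _ => ?_
      induction q using QuotientGroup.induction_on with
      | H n => exact Subtype.ext (by
        change m * ((n : G) * l * (n : G)⁻¹) * m⁻¹ = (m * n) * l * (m * n)⁻¹
        group)
    have e1 : m * ((∏ q, f q : B) : G) * m⁻¹ = (∏ q, f q : B) := congrArg Subtype.val this
    simpa using e1

theorem jobB2 : JobB2.{u} := fun G Ω _ _ _ N a b R R' s d => by
  have : Fact (Nat.Prime 2) := ⟨Nat.prime_two⟩
  have tI := d.tI
  obtain ⟨l0, hl0, l01⟩ := d.exists_l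
  have : Nontrivial R' := ⟨⟨⟨l0, hl0⟩, 1, fun e => l01 (congrArg Subtype.val e)⟩⟩
  obtain ⟨⟨l, hl⟩, ol⟩ := exists_prime_orderOf_dvd_card' (G := R') 2
    ((d.sylR'.isPGroup.card_eq_or_dvd).resolve_left Finite.one_lt_card.ne')
  have l1 : l ≠ 1 := fun e => by
    rw [show (⟨l, hl⟩ : R') = 1 from Subtype.ext e, orderOf_one] at ol
    omega
  have l2 : l * l = 1 := by
    have := pow_orderOf_eq_one (⟨l, hl⟩ : R')
    rw [ol, sq] at this
    exact congrArg Subtype.val this
  have RB : R ≤ N a ⊓ normalizer ((R ⊔ R' : Subgroup G) : Set G) :=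
    le_inf d.sylP.le (le_sup_left.trans le_normalizer)
  obtain ⟨r, hr, z2, hz⟩ := average (M := N a ⊓ normalizer ((R ⊔ R' : Subgroup G) : Set G)) d.abB
    le_sup_left (d.lB hl) l2 inf_le_right (d.sylP.of_le RB inf_le_left).not_dvd_relIndex fun m hm => by
      obtain ⟨r, hr, e⟩ := (d.nR m hm.1 hm.2).2 l hl
      rwa [e, mul_inv_cancel_right]
  have zB := mul_mem_sup hr hl
  have cB : ∀ y ∈ R ⊔ R', R ⊔ R' ≤ centralizer {y} := fun y hy x hx =>
    mem_centralizer_singleton_iff.2 (d.abB x hx y hy)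
  have zc := d.zc a _ _ (r * l) le_sup_left d.G_stab d.sylT zB z2 fun g hg hy => by
    obtain ⟨c, hc, e⟩ := ((d.sylT.cj_of_mem hg).of_le (K := (N a ⊔ R') ⊓ centralizer {g * (r * l) * g⁻¹})
      (le_inf (d.sylT.cj_of_mem hg).le (by
        rintro _ ⟨x, hx, rfl⟩
        exact mem_centralizer_singleton_iff.2 (by
          simp only [MulEquiv.toMonoidHom_eq_coe, MonoidHom.coe_coe, MulAut.conj_apply, conj_mul]
          rw [d.abB x hx _ zB]))) inf_le_left).exists_cj_eq
      (d.sylT.of_le (le_inf d.sylT.le (cB _ hy)) inf_le_left)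
    rw [cj_cj, cj_eq_self_iff] at e
    obtain ⟨w, hw, l', hl', e1⟩ := d.decG _ (mul_mem hc.1 hg)
    have e2 := hz w ⟨hw, (mul_mem_cancel_right (le_normalizer (d.lB hl'))).1 (e1 ▸ e)⟩
    have e3 : c * (g * (r * l) * g⁻¹) * c⁻¹ = g * (r * l) * g⁻¹ := by
      rw [mem_centralizer_singleton_iff.1 hc.2, mul_inv_cancel_right]
    have e4 : l' * (r * l) * l'⁻¹ = r * l := by rw [d.abB _ (d.lB hl') _ zB, mul_inv_cancel_right]
    calc g * (r * l) * g⁻¹ = c * g * (r * l) * (c * g)⁻¹ := by rw [← e3]; group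
      _ = w * (l' * (r * l) * l'⁻¹) * w⁻¹ := by rw [e1]; group
      _ = r * l := by rw [e4, e2]
  have r1 : r ≠ 1 := fun e => by
    obtain ⟨g, hg, gb⟩ := tI.exists_move d.hab
    exact gb ((d.cH hl l1 hg).1 (by simpa [e] using (zc g hg).symm))
  have cK : ∀ k ∈ X N a b, ∀ r' ∈ R, k * r' = r' * k := fun k hk => d.ce r hr r1 k hk (by
    have := zc k hk.1
    rwa [mul_assoc, ← tI.comm d.hab hk (d.mR' hl), ← mul_assoc, ← mul_assoc, mul_left_inj, eq_comm] at this)
  have cL : ∀ y ∈ X N b a, y * l = l * y := fun y hy => by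
    have := cK _ (by simpa [d.sa, d.sb] using tI.conj_X s hy) _ (d.s_R' hl)
    simpa only [conj_mul, mul_left_inj, mul_right_inj] using this
  have cS : ∀ {u v : Ω} {S : Subgroup G}, u ≠ v → IsSyl 2 S (X N u v) → Nat.card S = Nat.card R :=
    fun huv hS => by rw [hS.card_eq, d.sylR.card_eq, tI.card_X huv d.hab]
  have fx : ∀ w, (∀ x ∈ R, x • w = w) → l • w = w := fun w hw => by
    by_cases wb : w = b
    · rw [wb]; exact tI.fix b l (d.mR' hl).1
    have nM : R ≤ normalizer (X N b w : Set G) := fun x hx =>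
      cj_eq_self_iff.1 (by rw [tI.cj_X, hw x hx, (d.mR hx).2])
    obtain ⟨T, hT, RT⟩ := exists_isSyl_le d.sylR.isPGroup (le_sup_right : R ≤ X N b w ⊔ R)
    have sP := hT.inf_of_le_normalizer le_sup_left (hT.le.trans (sup_le le_normalizer nM))
    have sB := d.sylT.cj s
    rw [cj_eq_self d.sB, cj_sup, tI.cj_N, d.sa, d.sR'] at sB
    obtain ⟨g, -, hg⟩ := sB.exists_cj_le hT.isPGroup (hT.le.trans (sup_le_sup_right inf_le_left _))
    have PL : T ⊓ X N b w ≤ X N b a := fun x hx => ⟨hx.2.1, (tI.cent d.hab.symm (d.mR hr) r1 hx.2.1).1 (by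
      simpa only [conj_mul, mul_left_inj, mul_right_inj] using
        d.abB _ (hg (conj_mem_cj hx.1)) _ (hg (conj_mem_cj (RT hr))))⟩
    obtain ⟨y, hy, e⟩ := d.sylR'.exists_cj_le sP.isPGroup PL
    have e1 := eq_of_le_of_card_ge e (by rw [card_cj, cS (Ne.symm wb) sP, d.card_R'])
    have := mem_cj.1 (e1.ge hl)
    rw [mul_assoc, ← cL y hy, inv_mul_cancel_left] at this
    exact this.2.2
  have z1 := tI.t2.faith (r * l) fun w => by
    by_cases wa : w = a
    · rw [wa]; exact d.G_stab (d.sylT.le zB)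
    obtain ⟨S, hS⟩ := exists_isSyl 2 (X N a w)
    obtain ⟨h, hh, e⟩ := d.sylP.exists_cj_le hS.isPGroup (hS.le.trans inf_le_left)
    have e1 := eq_of_le_of_card_ge e (by rw [card_cj, cS (Ne.symm wa) hS])
    have k : ∀ x ∈ R, x • h • w = h • w := fun x hx => by
      have : (h⁻¹ * x * h) • w = w := (hS.le (mem_cj.1 (e1.ge hx))).2
      rwa [mul_smul, mul_smul, inv_smul_eq_iff] at this
    rw [← smul_left_cancel_iff h, ← mul_smul, ← zc h hh, mul_smul, mul_smul, fx _ k, k r hr]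
  exact l1 (d.l_one hl ((eq_inv_of_mul_eq_one_right z1) ▸ inv_mem (d.mR hr).1))

end H65.ON2
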