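/- Element orders `1, ..., 6` and a normal `5`-subgroup (slot SOLa of the tower OC). -/
import Cfsg.Agent.H74.OCSpec
import Cfsg.Agent.H7.GWCons
import Cfsg.Agent.H86.Fusion
import Cfsg.Agent.H5.FrobCompl
import Cfsg.Agent.H3.DihQuat
import Cfsg.Agent.H92.Syl

set_option autoImplicit false

namespace H65.OcA

open Cfsg Subgroup H74.OC

universe u

variable {K : Type u} [Group K] [Finite K]

theorem ord_pow {w : K} {n k : ℕ} (hw : orderOf w = n) (hk : k ≠ 0) : orderOf (w ^ k) = n / n.gcd k := by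
  rw [orderOf_pow' _ hk, hw]

theorem inverts (hs : Sp 6 K) (hu : ∀ a b : K, orderOf a = 2 → orderOf b = 2 → a = b) {w y : K} (hw : orderOf w = 6)
    (hy : orderOf y = 4) {H : Subgroup K} [hn : H.Normal] (hH : Nat.card H = 12) (wH : w ∈ H) :
    y * w * y⁻¹ = w⁻¹ := by
  have hu6 : orderOf (y * w * y⁻¹) = 6 := ((MulAut.conj y).orderOf_eq w).trans hw
  have h2 : ((zpowers w).subgroupOf H).index = 2 := by
    have := ((zpowers w).subgroupOf H).card_mul_index
    rw [Nat.card_congr (subgroupOfEquivOfLe ((zpowers_le).2 wH)).toEquiv, Nat.card_zpowers, hw, hH] at this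
    omega
  have h3 : y * w * y⁻¹ * (y * w * y⁻¹) ∈ zpowers w := mul_self_mem_of_index_two h2 ⟨_, hn.conj_mem w wH y⟩
  have h4 : y * w * y⁻¹ ∈ zpowers w := by
    have := mul_mem (pow_mem (mem_zpowers w) 3) (pow_mem h3 2)
    rwa [hu (w ^ 3) _ (ord_pow hw (by omega)) (ord_pow hu6 (k := 3) (by omega)), ← sq, ← pow_mul, ← pow_add,
      show 3 + 2 * 2 = 6 + 1 from rfl, pow_succ, ← hu6, pow_orderOf_eq_one, one_mul] at this
  classical
  obtain ⟨i, hi, e⟩ := Finset.mem_image.1 (mem_zpowers_iff_mem_range_orderOf.1 h4)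
  rw [hw, Finset.mem_range] at hi
  rw [← e] at hu6
  interval_cases i
  · simp at hu6
  · have := hs.mul_le (a := y) (b := w ^ 2) ((show Commute y w from
      mul_inv_eq_iff_eq_mul.1 (e.symm.trans (pow_one w))).pow_right 2) (by rw [hy, ord_pow hw (by omega)]; decide)
    rw [hy, ord_pow hw (by omega)] at this
    exact absurd this (by decide)
  iterate 3 rw [ord_pow hw (by omega)] at hu6; exact absurd hu6 (by decide)
  rw [← e, eq_inv_iff_mul_eq_one, ← pow_succ]
  exact orderOf_dvd_iff_pow_eq_one.1 (by rw [hw])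

theorem top (hs : Sp 6 K) (hu : ∀ a b : K, orderOf a = 2 → orderOf b = 2 → a = b) {w y : K} (hw : orderOf w = 6)
    (hy : orderOf y = 4) (hd : Nat.card K ∣ 24) :
    Nonempty (K ≃* QuaternionGroup 3) ∨ Nonempty (K ≃* Matrix.SpecialLinearGroup (Fin 2) (ZMod 3)) := by
  have h12 : 12 ∣ Nat.card K := Nat.lcm_dvd (hw ▸ orderOf_dvd_natCard w) (hy ▸ orderOf_dvd_natCard y)
  have e : y ^ 2 = w ^ 3 := hu _ _ (ord_pow hy (by omega)) (ord_pow hw (by omega))
  obtain h | h : Nat.card K = 12 ∨ Nat.card K = 24 := by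
    have := Nat.le_of_dvd (by omega) hd
    have := Nat.card_pos (α := K)
    omega
  · refine Or.inl (H3.nonempty_mulEquiv_quaternion_of_card hw e (inverts hs hu hw hy (card_top.trans h) trivial)
      (fun k => ?_) h)
    have := orderOf_dvd_of_mem_zpowers k
    rw [hw, hy] at this
    omega
  have : Fact (Nat.Prime 2) := ⟨Nat.prime_two⟩
  obtain ⟨T, hT⟩ := Sylow.exists_subgroup_card_pow_prime (G := K) 2 (n := 3) (h ▸ by decide)
  have pT := IsPGroup.of_card hT
  have nc : ∀ t : T, zpowers t ≠ ⊤ := fun t k => by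
    have := hs.sub T t
    rw [← Nat.card_zpowers, k, card_top, hT] at this
    omega
  refine Or.inr (H7.GW.equiv_sl23 h (H86.pResidual_eq_top_of_index_ne_two fun H hH => ?_) hu pT fun k => ?_)
  · have := normal_of_index_eq_two hH
    have hc : Nat.card H = 12 := by have := H.card_mul_index; rw [hH] at this; omega
    have wH : w ∈ H := by
      have := mul_mem (sq_mem_of_index_two hH y) (sq_mem_of_index_two hH (w ^ 2))
      rwa [e, ← pow_mul, ← pow_add, show 3 + 2 * 2 = 6 + 1 from rfl, pow_succ, ← hw, pow_orderOf_eq_one, one_mul] at this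
    have o4 : ∀ s t z : T, z ∈ zpowers s → orderOf (z : K) = 2 → t ∉ zpowers s → orderOf (t : K) = 4 :=
      fun s t z hz h2 k => by
        obtain ⟨n, hn⟩ := IsPGroup.iff_orderOf.1 pT t
        have h6 := hs.sub T t
        rw [hn] at h6
        rcases n with _ | _ | _ | n
        · exact absurd (orderOf_eq_one_iff.1 hn ▸ one_mem _) k
        · exact absurd (Subtype.ext (hu _ _ h2 ((orderOf_coe t).trans hn)) ▸ hz) k
        · exact (orderOf_coe t).trans hn
        · have := Nat.pow_le_pow_right (n := 2) (by omega) (show 3 ≤ n + 1 + 1 + 1 by omega)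
          omega
    obtain ⟨z, hz⟩ := exists_prime_orderOf_dvd_card' (G := T) 2 (hT ▸ by decide)
    obtain ⟨a, ha⟩ := not_forall.1 (mt (eq_top_iff' _).2 (nc z))
    obtain ⟨b, hb⟩ := not_forall.1 (mt (eq_top_iff' _).2 (nc a))
    have a4 := o4 z a z (mem_zpowers z) ((orderOf_coe z).trans hz) ha
    have k := fun t => o4 a t (a ^ 2) (pow_mem (mem_zpowers a) 2) (ord_pow a4 (by omega))
    have e1 := inverts hs hu hw (k (a * b) fun m => hb ((mul_mem_cancel_left (mem_zpowers a)).1 m)) hc wH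
    rw [coe_mul, mul_inv_rev, show (a : K) * b * w * ((b : K)⁻¹ * (a : K)⁻¹) = a * (b * w * (b : K)⁻¹) * (a : K)⁻¹ by group,
      inverts hs hu hw (k b hb) hc wH, ← conj_inv, inverts hs hu hw a4 hc wH, inv_inv, eq_inv_iff_mul_eq_one, ← sq] at e1
    have := orderOf_dvd_of_pow_eq_one e1
    rw [hw] at this
    omega
  · obtain ⟨t, ht⟩ := k.exists_generator
    exact nc t (eq_top_iff.2 fun x _ => ht x)

theorem jobSOLa : JobSOLa.{u} := fun G _ _ V hG hV pV V0 => by
  have : Fact (Nat.Prime 5) := ⟨Nat.prime_five⟩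
  have hs := hG.sp
  have hn := H92.pCore_normal' 5 G
  have hN := H92.isPGroup_pCore' 5 G
  set N := pCore 5 G
  have o5 : ∀ v ∈ N, v ≠ 1 → orderOf v = 5 := fun v hv v1 => by
    obtain ⟨n, hn⟩ := IsPGroup.iff_orderOf.1 hN ⟨v, hv⟩
    have h6 := hs v
    rw [orderOf_mk] at hn
    rw [hn] at h6
    rcases n with _ | _ | n
    · exact absurd (orderOf_eq_one_iff.1 hn) v1
    · exact hn
    · have := Nat.pow_le_pow_right (n := 5) (by omega) (show 2 ≤ n + 1 + 1 by omega)
      omega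
  have fp : ∀ g, ¬5 ∣ orderOf g → ∀ v ∈ N, g * v = v * g → g ≠ 1 → v = 1 := fun g h5 v hv e g1 => by_contra fun v1 => by
    have := hs.mul_le e (o5 v hv v1 ▸ ((Nat.Prime.coprime_iff_not_dvd Nat.prime_five).2 h5).symm)
    have h1 := mt orderOf_eq_one_iff.1 g1
    have := orderOf_pos g
    rw [o5 v hv v1] at *
    omega
  have F : ∀ z, orderOf z = 2 → MonoidHom.FixedPointFree (MulAut.conjNormal (H := N) z) ∧
      Function.Involutive (MulAut.conjNormal (H := N) z) := fun z hz =>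
    ⟨fun v e => Subtype.ext (fp z (by omega) v v.2 (mul_inv_eq_iff_eq_mul.1 (congrArg Subtype.val e))
      (by rintro rfl; simp at hz)), fun v => by
        rw [← MulAut.mul_apply, ← map_mul, ← sq, ← hz, pow_orderOf_eq_one, map_one, MulAut.one_apply]⟩
  have inv : ∀ z, orderOf z = 2 → ∀ v ∈ N, z * v * z⁻¹ = v⁻¹ := fun z hz v hv =>
    congrArg Subtype.val (congrFun ((F z hz).1.coe_eq_inv_of_involutive (F z hz).2) ⟨v, hv⟩)
  obtain ⟨z, hz⟩ := hG.ex (k := 2) (by omega) (by omega)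
  obtain ⟨y, hy⟩ := hG.ex (k := 4) (by omega) (by omega)
  obtain ⟨w, hw⟩ := hG.ex (k := 6) (by omega) (by omega)
  have N0 : N ≠ ⊥ := fun e => V0 (le_bot_iff.1 (e ▸ H92.le_pCore' pV))
  obtain ⟨⟨v, hv⟩, v1⟩ := ne_bot_iff_exists_ne_one.1 N0
  have hC : centralizer (N : Set G) ≤ N := H92.le_pCore' (IsPGroup.iff_orderOf.2 fun c => by
    by_cases h5 : 5 ∣ orderOf (c : G)
    · have := hs c
      have := orderOf_pos (c : G)
      exact ⟨1, by rw [← orderOf_coe]; omega⟩
    · exact ⟨0, orderOf_eq_one_iff.2 (Subtype.ext (by_contra fun c1 =>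
        v1 (Subtype.ext (fp c h5 v hv (c.2 v hv).symm c1))))⟩)
  have lift : ∀ g : G, ¬5 ∣ orderOf g → orderOf (g : G ⧸ N) = orderOf g := fun g h5 =>
    Nat.dvd_antisymm (orderOf_map_dvd (QuotientGroup.mk' N) g) (orderOf_dvd_of_pow_eq_one (by_contra fun e =>
      h5 (o5 _ ((QuotientGroup.eq_one_iff _).1 (by rw [QuotientGroup.mk_pow, pow_orderOf_eq_one])) e ▸
        orderOf_pow_dvd _)))
  have l2 : ∀ g : G, orderOf (g : G ⧸ N) = 2 → orderOf g = 2 := fun g h2 => by
    have h1 : 2 ∣ orderOf g := h2 ▸ orderOf_map_dvd (QuotientGroup.mk' N) g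
    have := hs g
    have := orderOf_pos g
    rw [← lift g (by omega), h2]
  have hu : ∀ a b : G ⧸ N, orderOf a = 2 → orderOf b = 2 → a = b := fun a b => by
    induction a using QuotientGroup.induction_on
    induction b using QuotientGroup.induction_on
    rename_i a b
    refine fun ha hb => QuotientGroup.eq.2 (hC fun u hu => ?_)
    have := (inv a (l2 a ha) u hu).trans (inv b (l2 b hb) u hu).symm
    have e2 : ∀ c : G, orderOf c = 2 → c⁻¹ = c := fun c hc => by
      rw [inv_eq_iff_mul_eq_one, ← sq, ← hc, pow_orderOf_eq_one]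
    calc u * (a⁻¹ * b) = a⁻¹ * (a * u * a⁻¹) * a * a⁻¹ * b := by group
      _ = a⁻¹ * b * u * (b⁻¹ * b) := by rw [this]; group
      _ = _ := by group
  have hK := hs.quot N
  refine ⟨N, hn, ⟨⟨⟨(F z hz).1.commute_all_of_involutive (F z hz).2⟩⟩, fun a ha => ?_⟩,
    top hK hu ((lift w (by omega)).trans hw) ((lift y (by omega)).trans hy)
      ((Nat.dvd_iff_prime_pow_dvd_dvd _ _).2 fun p k hp hk => ?_)⟩
  · by_cases a1 : a = 1
    · rw [a1, one_pow]
    · exact o5 a ha a1 ▸ pow_orderOf_eq_one a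
  rcases k with _ | k
  · simp
  have := Fact.mk hp
  have hd := (dvd_pow_self p k.succ_ne_zero).trans hk
  have h6 := hK.prime_le hp hd
  have p5 : p ≠ 5 := by
    rintro rfl
    obtain ⟨c, hc⟩ := exists_prime_orderOf_dvd_card' 5 hd
    have h2 := (lift z (by omega)).trans hz
    have := hK.mul_le (mul_inv_eq_iff_eq_mul.1 (hu _ _ (((MulAut.conj c).orderOf_eq _).trans h2) h2))
      (by rw [hc, h2]; decide)
    rw [hc, h2] at this
    omega
  obtain ⟨P, hP⟩ := Sylow.exists_subgroup_card_pow_prime (G := G) p (hk.trans (card_quotient_dvd_card N))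
  have hb : p ^ (k + 1) ≤ 6 ∨ p = 2 ∧ p ^ (k + 1) ≤ 12 := by
    rcases H5.isCyclic_or_quaternion_of_fpf N0 (P := P) (le_normalizer_of_normal (H := N))
      (fun g hg g1 => eq_bot_iff.2 fun u hu => fp g (fun h5 => p5 ((Nat.prime_dvd_prime_iff_eq Nat.prime_five hp).1
        (Nat.prime_five.dvd_of_dvd_pow (h5.trans (hP ▸ orderOf_dvd_natCard _ hg)))).symm) u hu.1
          (hu.2 g rfl) g1) (IsPGroup.of_card hP) with h | ⟨h, n, ⟨e⟩⟩
    · obtain ⟨g, hg⟩ := h.exists_ofOrder_eq_natCard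
      exact Or.inl (hP ▸ hg ▸ hs.sub P g)
    · have : NeZero (2 ^ n) := ⟨by positivity⟩
      have h1 := hs.sub P (e.symm (QuaternionGroup.a 1))
      rw [e.symm.orderOf_eq, QuaternionGroup.orderOf_a_one] at h1
      rw [← hP, Nat.card_congr e.toEquiv, H3.natCard_quaternionGroup this.1]
      exact Or.inr ⟨h, by omega⟩
  have h2 := hp.two_le
  interval_cases p
  · exact (pow_dvd_pow 2 (show k + 1 ≤ 3 from Nat.le_of_lt_succ
      ((Nat.pow_lt_pow_iff_right (a := 2) (by omega)).1 (by omega)))).trans (by decide)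
  · exact (pow_dvd_pow 3 (show k + 1 ≤ 1 from Nat.le_of_lt_succ
      ((Nat.pow_lt_pow_iff_right (a := 3) (by omega)).1 (by omega)))).trans (by decide)
  · exact absurd hp (by decide)
  · exact absurd rfl p5
  · exact absurd hp (by decide)

end H65.OcA
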