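import Cfsg.Agent.H63.OcSpec

/-! Bit-sliced computation in the Sylow 2-subgroup `Co T` over the field with two elements. -/

set_option autoImplicit false
set_option linter.unusedSectionVars false
set_option linter.unusedSimpArgs false

namespace H65.PA

open H63.Oc

local infixl:65 " +₂ " => Nat.xor
local infixl:70 " *₂ " => Nat.land

/-- strict evaluation -/
noncomputable def force {β : Type} (x : ℕ) (f : ℕ → β) : β :=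
  Nat.rec (motive := fun _ => β) (f 0) (fun n _ => f (Nat.succ n)) x

theorem force_eq {β : Type} (x : ℕ) (f : ℕ → β) : force x f = f x := by cases x <;> rfl

/-- a vector of group elements: twelve bit planes -/
structure V where
  (a1 b2 a2 a3 b4 a4 a5 b6 a6 a7 b8 a8 : ℕ)

/-- product -/
def V.mul (c d : V) : V where
  a1 := c.a1 +₂ d.a1
  b2 := c.b2 +₂ d.b2 +₂ c.b8 *₂ d.a1
  a2 := c.a2 +₂ d.a2 +₂ c.b2 *₂ d.b2 +₂ c.b4 *₂ d.a1 +₂ c.b6 *₂ d.a1 +₂ c.a8 *₂ d.a1 *₂ d.a1 +₂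
      c.b2 *₂ c.b8 *₂ d.a1 +₂ c.b8 *₂ d.a1 *₂ d.b2
  a3 := c.a3 +₂ d.a3 +₂ c.a7 *₂ d.a1 +₂ c.b4 *₂ d.b2 +₂ c.b6 *₂ d.a1 +₂ c.b8 *₂ d.a2 +₂
      c.a8 *₂ d.a1 *₂ d.a1 +₂ c.a8 *₂ d.a1 *₂ d.b2 +₂ c.b4 *₂ c.b8 *₂ d.a1 +₂
      c.b8 *₂ d.b2 *₂ d.b2 +₂ c.a8 *₂ c.b8 *₂ d.a1 *₂ d.a1 +₂
      c.b8 *₂ c.b8 *₂ d.a1 *₂ d.a1
  b4 := c.b4 +₂ d.b4 +₂ c.a8 *₂ d.a1 +₂ c.b8 *₂ d.b2
  a4 := c.a4 +₂ d.a4 +₂ c.a5 *₂ d.b2 +₂ c.a6 *₂ d.a1 +₂ c.a7 *₂ d.a2 +₂ c.a8 *₂ d.a2 +₂ c.b4 *₂ d.b4 +₂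
      c.b6 *₂ d.a3 +₂ c.b8 *₂ d.a3 +₂ c.a5 *₂ c.b8 *₂ d.a1 +₂ c.a7 *₂ d.a1 *₂ d.b2 +₂
      c.a7 *₂ c.b6 *₂ d.a1 +₂ c.a7 *₂ d.b2 *₂ d.b2 +₂ c.a8 *₂ d.a1 *₂ d.a2 +₂
      c.a8 *₂ d.a1 *₂ d.b4 +₂ c.a8 *₂ d.a1 *₂ d.a3 +₂ c.a8 *₂ d.a2 *₂ d.b2 +₂ c.b6 *₂ c.b8 *₂ d.a2 +₂
      c.b8 *₂ d.a3 *₂ d.b2 +₂ c.b8 *₂ d.b2 *₂ d.b4 +₂ c.a7 *₂ c.b8 *₂ d.a1 +₂
      c.a7 *₂ c.a8 *₂ d.a1 *₂ d.a1 +₂ c.a7 *₂ c.b8 *₂ d.a1 *₂ d.b2 +₂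
      c.a8 *₂ c.b4 *₂ d.a1 +₂ c.a8 *₂ c.b6 *₂ d.a1 *₂ d.a1 +₂
      c.a8 *₂ d.a1 *₂ d.b2 *₂ d.b2 +₂ c.a8 *₂ c.b6 *₂ d.a1 *₂ d.b2 +₂
      c.a8 *₂ d.b2 *₂ d.b2 +₂ c.b4 *₂ c.b8 *₂ d.b2 +₂ c.b6 *₂ c.b8 *₂ d.b2 *₂ d.b2 +₂
      c.b8 *₂ c.b8 *₂ d.a1 *₂ d.a3 +₂ c.b8 *₂ c.b8 *₂ d.a2 *₂ d.b2 +₂
      c.a7 *₂ c.b8 *₂ c.b8 *₂ d.a1 *₂ d.a1 +₂ c.a8 *₂ c.b8 *₂ d.a1 *₂ d.a1 *₂ d.b2 +₂
      c.a8 *₂ c.b6 *₂ c.b8 *₂ d.a1 *₂ d.a1 +₂ c.a8 *₂ c.b8 *₂ d.a1 *₂ d.b2 +₂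
      c.a8 *₂ c.a8 *₂ d.a1 *₂ d.a1 +₂ c.a8 *₂ d.a1 *₂ d.a1 *₂ d.b2 +₂
      c.b8 *₂ c.b8 *₂ d.b2 *₂ d.b2 +₂ c.a8 *₂ c.b8 *₂ c.b8 *₂ d.a1 *₂ d.a1 +₂
      c.a8 *₂ c.b8 *₂ d.a1 *₂ d.a1 +₂ c.b6 *₂ c.b8 *₂ c.b8 *₂ d.a1 *₂ d.a1 +₂
      c.b8 *₂ c.b8 *₂ d.a1 *₂ d.a1 *₂ d.b2 +₂
      c.b8 *₂ c.b8 *₂ d.a1 *₂ d.a1
  a5 := c.a5 +₂ d.a5 +₂ c.a7 *₂ d.a1 +₂ c.a7 *₂ d.b2 +₂ c.a8 *₂ d.a2 +₂ c.b6 *₂ d.b4 +₂ c.b8 *₂ d.a3 +₂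
      c.a7 *₂ c.b8 *₂ d.a1 +₂ c.a8 *₂ d.a1 *₂ d.b2 +₂ c.a8 *₂ c.b6 *₂ d.a1 +₂
      c.a8 *₂ d.a1 *₂ d.b4 +₂ c.b6 *₂ c.b8 *₂ d.b2 +₂ c.b8 *₂ d.b2 *₂ d.b4 +₂
      c.b8 *₂ c.b8 *₂ d.a2 +₂ c.a8 *₂ c.b8 *₂ d.a1 *₂ d.a1 +₂
      c.a8 *₂ d.a1 *₂ d.a1 +₂ c.b8 *₂ c.b8 *₂ d.a1 *₂ d.b4 +₂
      c.b8 *₂ c.b8 *₂ d.a1 *₂ d.a1
  b6 := c.b6 +₂ d.b6 +₂ c.a8 *₂ d.a1 +₂ c.b8 *₂ d.b2 +₂ c.b8 *₂ c.b8 *₂ d.a1
  a6 := c.a6 +₂ d.a6 +₂ c.a7 *₂ d.b2 +₂ c.a7 *₂ d.b4 +₂ c.a8 *₂ d.a2 +₂ c.a8 *₂ d.a3 +₂ c.b6 *₂ d.b6 +₂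
      c.b8 *₂ d.a5 +₂ c.a7 *₂ c.b8 *₂ d.a1 +₂ c.a7 *₂ c.a8 *₂ d.a1 +₂ c.a7 *₂ c.b8 *₂ d.b2 +₂
      c.a8 *₂ c.b6 *₂ d.a1 +₂ c.a8 *₂ d.a1 *₂ d.b4 +₂ c.a8 *₂ d.b2 *₂ d.b2 +₂
      c.a8 *₂ c.b8 *₂ d.a2 +₂ c.a8 *₂ d.a1 *₂ d.b6 +₂ c.a8 *₂ d.b2 *₂ d.b4 +₂
      c.b8 *₂ d.b2 *₂ d.b6 +₂ c.a8 *₂ c.b8 *₂ d.a1 *₂ d.b2 +₂
      c.a8 *₂ c.b8 *₂ d.a1 *₂ d.b2 +₂ c.a8 *₂ c.b8 *₂ d.a1 *₂ d.b4 +₂
      c.a8 *₂ d.a1 *₂ d.b2 +₂ c.b6 *₂ c.b8 *₂ d.b2 +₂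
      c.b8 *₂ c.b8 *₂ d.a1 *₂ d.b6 +₂ c.b8 *₂ c.b8 *₂ d.a2 +₂
      c.a8 *₂ c.b8 *₂ c.b8 *₂ d.a1 *₂ d.a1 +₂ c.a8 *₂ c.b8 *₂ d.a1 *₂ d.a1 +₂
      c.b6 *₂ c.b8 *₂ c.b8 *₂ d.a1 +₂ c.b8 *₂ c.b8 *₂ d.a1 *₂ d.b4 +₂
      c.b8 *₂ c.b8 *₂ d.a1 *₂ d.b2 +₂ c.b8 *₂ c.b8 *₂ d.a1 *₂ d.a1
  a7 := c.a7 +₂ d.a7 +₂ c.a8 *₂ d.a1 +₂ c.a8 *₂ d.b2 +₂ c.b8 *₂ d.b6 +₂ c.a8 *₂ c.b8 *₂ d.a1 +₂
      c.b8 *₂ c.b8 *₂ d.a1
  b8 := c.b8 +₂ d.b8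
  a8 := c.a8 +₂ d.a8 +₂ c.b8 *₂ d.b8

/-- `nu8` -/
def V.nu8 (c : V) : V where
  a1 := c.a7
  b2 := c.b6
  a2 := c.a6 +₂ c.a7 *₂ c.b2 +₂ c.a7 *₂ c.b4
  a3 := c.a5 +₂ c.a1 *₂ c.a7 +₂ c.a7 *₂ c.b2 +₂ c.b4 *₂ c.b6
  b4 := c.b4
  a4 := c.a4 +₂ c.a1 *₂ c.a6 +₂ c.a2 *₂ c.a7 +₂ c.a3 *₂ c.b6 +₂ c.a5 *₂ c.b2 +₂ c.a1 *₂ c.a7 *₂ c.b6 +₂
      c.a1 *₂ c.a7 *₂ c.b2 +₂ c.a1 *₂ c.a7 *₂ c.b4 +₂ c.a1 *₂ c.b6 *₂ c.b6 +₂ c.b2 *₂ c.b4 *₂ c.b6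
  a5 := c.a3 +₂ c.a1 *₂ c.a7 +₂ c.a1 *₂ c.b6 +₂ c.b2 *₂ c.b4
  b6 := c.b2
  a6 := c.a2 +₂ c.a1 *₂ c.b6 +₂ c.a1 *₂ c.b4
  a7 := c.a1
  b8 := 0
  a8 := 0

/-- `nu1` -/
def V.nu1 (c : V) : V where
  a1 := 0
  b2 := c.b8
  a2 := c.a8
  a3 := c.a7 +₂ c.a8 *₂ c.b2 +₂ c.b6 *₂ c.b8 +₂ c.b2 *₂ c.b8 *₂ c.b8
  b4 := c.b6 +₂ c.b2 *₂ c.b8
  a4 := c.a6 +₂ c.a2 *₂ c.a8 +₂ c.a3 *₂ c.a8 +₂ c.a5 *₂ c.b8 +₂ c.a7 *₂ c.b2 +₂ c.a7 *₂ c.b4 +₂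
      c.a2 *₂ c.a8 *₂ c.b8 +₂ c.a3 *₂ c.b8 *₂ c.b8 +₂ c.a7 *₂ c.b2 *₂ c.b8 +₂ c.b4 *₂ c.b6 *₂ c.b8 +₂
      c.a2 *₂ c.b8 *₂ c.b8 +₂ c.a8 *₂ c.b2 *₂ c.b2 *₂ c.b8 +₂ c.b2 *₂ c.b6 *₂ c.b8 +₂
      c.b2 *₂ c.b2 *₂ c.b8 *₂ c.b8
  a5 := c.a5 +₂ c.a2 *₂ c.a8 +₂ c.a3 *₂ c.b8 +₂ c.a7 *₂ c.b2 +₂ c.b4 *₂ c.b6 +₂ c.a8 *₂ c.b2 *₂ c.b2
  b6 := c.b4 +₂ c.b2 *₂ c.b8
  a6 := c.a4 +₂ c.a2 *₂ c.a8 +₂ c.a2 *₂ c.a7 +₂ c.a3 *₂ c.b8 +₂ c.a3 *₂ c.b6 +₂ c.a5 *₂ c.b2 +₂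
      c.a2 *₂ c.b8 *₂ c.b8 +₂ c.a2 *₂ c.a8 *₂ c.b2 +₂ c.a3 *₂ c.b2 *₂ c.b8 +₂
      c.b2 *₂ c.b4 *₂ c.b8 +₂ c.b2 *₂ c.b4 *₂ c.b6 +₂ c.a8 *₂ c.b2 *₂ c.b2
  a7 := c.a3 +₂ c.a2 *₂ c.b8 +₂ c.b2 *₂ c.b4
  b8 := c.b2
  a8 := c.a2

/-- selection -/
def V.sel (m : ℕ) (c : V) : V :=
  ⟨m *₂ c.a1, m *₂ c.b2, m *₂ c.a2, m *₂ c.a3, m *₂ c.b4, m *₂ c.a4, m *₂ c.a5, m *₂ c.b6, m *₂ c.a6, m *₂ c.a7, m *₂ c.b8, m *₂ c.a8⟩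

/-- the mask of the positions where two vectors differ -/
def V.neq (c d : V) : ℕ :=
  Nat.lor (c.a1 +₂ d.a1) (Nat.lor (c.b2 +₂ d.b2) (Nat.lor (c.a2 +₂ d.a2) (
  Nat.lor (c.a3 +₂ d.a3) (Nat.lor (c.b4 +₂ d.b4) (Nat.lor (c.a4 +₂ d.a4) (
  Nat.lor (c.a5 +₂ d.a5) (Nat.lor (c.b6 +₂ d.b6) (Nat.lor (c.a6 +₂ d.a6) (
  Nat.lor (c.a7 +₂ d.a7) (Nat.lor (c.b8 +₂ d.b8) (c.a8 +₂ d.a8)))))))))))

/-- constant vector -/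
def cv (o n : ℕ) : V :=
  ⟨cond (n.testBit 0) o 0, cond (n.testBit 1) o 0, cond (n.testBit 2) o 0,
   cond (n.testBit 3) o 0, cond (n.testBit 4) o 0, cond (n.testBit 5) o 0,
   cond (n.testBit 6) o 0, cond (n.testBit 7) o 0, cond (n.testBit 8) o 0,
   cond (n.testBit 9) o 0, cond (n.testBit 10) o 0, cond (n.testBit 11) o 0⟩

/-- truncation modulo `A` -/
def V.tr (f : Bool) (c : V) : V :=
  ⟨c.a1, c.b2, c.a2, c.a3, c.b4, cond f c.a4 0, cond f c.a5 0, c.b6, cond f c.a6 0, c.a7, c.b8, c.a8⟩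

/-- strict evaluation of a vector -/
noncomputable def V.frc (c : V) (k : V → Bool) : Bool :=
  force c.a1 fun a1 => force c.b2 fun b2 => force c.a2 fun a2 => 
  force c.a3 fun a3 => force c.b4 fun b4 => force c.a4 fun a4 => 
  force c.a5 fun a5 => force c.b6 fun b6 => force c.a6 fun a6 => 
  force c.a7 fun a7 => force c.b8 fun b8 => force c.a8 fun a8 => 
  k ⟨a1, b2, a2, a3, b4, a4, a5, b6, a6, a7, b8, a8⟩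

theorem V.frc_eq (c : V) (k : V → Bool) : c.frc k = k c := by
  simp only [V.frc, force_eq]

/-- all ones -/
def on (n : ℕ) : ℕ := Nat.sub (Nat.pow 2 (Nat.pow 2 n)) 1

/-- the plane of the `j`-th bit of the index -/
noncomputable def pl (j n : ℕ) : ℕ :=
  Nat.rec 0 (fun n r => force r fun r =>
    Nat.lor r (Nat.shiftLeft (cond (Nat.beq j n) (on n) r) (Nat.pow 2 n))) n

theorem on_bit (n i : ℕ) : (on n).testBit i = decide (i < 2 ^ n) :=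
  Nat.testBit_two_pow_sub_one _ _

theorem pl_bit (j n i : ℕ) : (pl j (n + 1)).testBit i = ((pl j n).testBit i ||
    (decide (2 ^ n ≤ i) && (if j = n then on n else pl j n).testBit (i - 2 ^ n))) := by
  have : pl j (n + 1) = pl j n ||| ((if j = n then on n else pl j n) <<< 2 ^ n) := by
    refine (force_eq (pl j n) fun r =>
      Nat.lor r (Nat.shiftLeft (cond (Nat.beq j n) (on n) r) (Nat.pow 2 n))).trans ?_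
    by_cases h : j = n
    · rw [if_pos h, h, Nat.beq_refl]; rfl
    · rw [if_neg h, Bool.eq_false_iff.2 fun e => h (Nat.eq_of_beq_eq_true e)]; rfl
  rw [this, Nat.testBit_or, Nat.testBit_shiftLeft]

theorem pl_high (j n : ℕ) : ∀ i, 2 ^ n ≤ i ∨ n ≤ j → (pl j n).testBit i = false := by
  induction n with
  | zero => exact fun i _ => Nat.zero_testBit i
  | succ n ih =>
    intro i hi
    have := Nat.pow_succ 2 n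
    rw [pl_bit, ih i (by omega)]
    split_ifs with h
    · rw [on_bit]; simp; omega
    · rw [ih _ (by omega)]; simp

theorem exists_idx (β : ℕ → Bool) (n : ℕ) : ∃ i < 2 ^ n, ∀ j < n, (pl j n).testBit i = β j := by
  induction n with
  | zero => exact ⟨0, by simp, by simp⟩
  | succ n ih =>
    obtain ⟨i, h1, h2⟩ := ih
    have := Nat.pow_succ 2 n
    cases h : β n
    · refine ⟨i, by omega, fun j hj => ?_⟩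
      rw [pl_bit, decide_eq_false (by omega)]
      by_cases e : j = n
      · rw [pl_high _ _ _ (by omega), e, h]; rfl
      · rw [h2 j (by omega)]; simp
    · refine ⟨i + 2 ^ n, by omega, fun j hj => ?_⟩
      rw [pl_bit, pl_high _ _ _ (by omega), Nat.add_sub_cancel]
      by_cases e : j = n
      · rw [if_pos e, on_bit, e, h]; simp [h1]
      · rw [if_neg e, h2 j (by omega)]; simp

variable {K : Type*} [Field K] [CharP K 2] {T : TF K}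

/-- a bit as a field element -/
def e (K : Type*) [Field K] (i x : ℕ) : K := cond (x.testBit i) 1 0

theorem e_xor (i x y : ℕ) : e K i (x +₂ y) = e K i x + e K i y := by
  have : (x +₂ y).testBit i = _ := Nat.testBit_xor x y i
  unfold e
  rw [this]
  cases x.testBit i <;> cases y.testBit i <;> simp [CharTwo.add_self_eq_zero]

theorem e_and (i x y : ℕ) : e K i (x *₂ y) = e K i x * e K i y := by
  have : (x *₂ y).testBit i = _ := Nat.testBit_and x y i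
  unfold e
  rw [this]
  cases x.testBit i <;> cases y.testBit i <;> simp

theorem e_zero (i : ℕ) : e K i 0 = 0 := by simp [e]

theorem e_sig (i x : ℕ) : T.σ (e K i x) = e K i x := by
  unfold e; cases x.testBit i <;> simp

theorem e_sq (i x : ℕ) : e K i x ^ 2 = e K i x := by
  unfold e; cases x.testBit i <;> simp

theorem e_cube (i x : ℕ) : e K i x ^ 3 = e K i x := by
  unfold e; cases x.testBit i <;> simp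

theorem e_eq (i x y : ℕ) : e K i x = e K i y ↔ (x +₂ y).testBit i = false := by
  have : (x +₂ y).testBit i = _ := Nat.testBit_xor x y i
  unfold e
  rw [this]
  cases x.testBit i <;> cases y.testBit i <;> simp

theorem e_cond {i o : ℕ} (h : o.testBit i = true) (n j : ℕ) :
    e K i (cond (n.testBit j) o 0) = e K j n := by
  unfold e; cases n.testBit j <;> simp [h]

theorem exists_e (hK : ∀ a : K, a = 0 ∨ a = 1) (l : List K) (n : ℕ) :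
    ∃ i, (on n).testBit i = true ∧ ∀ j < n, e K i (pl j n) = l.getD j 0 := by
  classical
  obtain ⟨i, h1, h2⟩ := exists_idx (fun j => decide (l.getD j 0 = 1)) n
  refine ⟨i, by rw [on_bit]; simpa using h1, fun j hj => ?_⟩
  unfold e
  rw [h2 j hj]
  rcases hK (l.getD j 0) with h | h <;> rw [h] <;> simp

variable (T) in
/-- the `i`-th entry -/
def V.ev (i : ℕ) (c : V) : Co T :=
  ⟨e K i c.a1, e K i c.b2, e K i c.a2, e K i c.a3, e K i c.b4, e K i c.a4,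
   e K i c.a5, e K i c.b6, e K i c.a6, e K i c.a7, e K i c.b8, e K i c.a8⟩

variable (T) in
/-- the element with a given code -/
def el (n : ℕ) : Co T :=
  ⟨e K 0 n, e K 1 n, e K 2 n, e K 3 n, e K 4 n, e K 5 n, e K 6 n, e K 7 n, e K 8 n, e K 9 n, e K 10 n, e K 11 n⟩

theorem ev_mul (i : ℕ) (c d : V) : (c.mul d).ev T i = c.ev T i * d.ev T i := by
  ext <;> simp only [V.mul, V.ev, Co.mul_a1, Co.mul_b2, Co.mul_a2, Co.mul_a3, Co.mul_b4, Co.mul_a4,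
    Co.mul_a5, Co.mul_b6, Co.mul_a6, Co.mul_a7, Co.mul_b8, Co.mul_a8,
    e_xor, e_and, e_sig, e_sq, e_cube]

theorem ev_nu8 (i : ℕ) (c : V) : c.nu8.ev T i = (c.ev T i).nu8 := by
  ext <;> simp only [V.nu8, V.ev, Co.nu8, e_xor, e_and, e_sig, e_sq, e_zero]

theorem ev_nu1 (i : ℕ) (c : V) : c.nu1.ev T i = (c.ev T i).nu1 := by
  ext <;> simp only [V.nu1, V.ev, Co.nu1, e_xor, e_and, e_sig, e_sq, e_zero]

theorem ev_cv {i o : ℕ} (h : o.testBit i = true) (n : ℕ) : (cv o n).ev T i = el T n := by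
  simp only [cv, V.ev, el, e_cond h]

theorem neq_iff (i : ℕ) (c d : V) : (c.neq d).testBit i = false ↔ c.ev T i = d.ev T i := by
  have : ∀ x y, (Nat.lor x y).testBit i = _ := fun x y => Nat.testBit_or x y i
  simp only [V.neq, this, Bool.or_eq_false_iff, V.ev, Co.mk.injEq, e_eq]

open Classical in
/-- `g ^ t` -/
noncomputable def selC (t : K) (g : Co T) : Co T := if t = 1 then g else 1

theorem selC_zero (g : Co T) : selC 0 g = 1 := if_neg zero_ne_one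
theorem selC_one (g : Co T) : selC 1 g = g := if_pos rfl

theorem ev_sel (i m : ℕ) (c : V) : (c.sel m).ev T i = selC (e K i m) (c.ev T i) := by
  simp only [V.sel, V.ev, e_and]
  unfold e
  cases m.testBit i
  · rw [cond_false, selC_zero]; ext <;> simp
  · rw [cond_true, selC_one]; simp

/-- truncation modulo `A` -/
def p (f : Bool) (c : Co T) : Co T :=
  ⟨c.a1, c.b2, c.a2, c.a3, c.b4, cond f c.a4 0, cond f c.a5 0, c.b6, cond f c.a6 0, c.a7, c.b8, c.a8⟩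

theorem p_true (c : Co T) : p true c = c := rfl

theorem p_one (f : Bool) : p f (1 : Co T) = 1 := by cases f <;> rfl

theorem ev_tr (f : Bool) (i : ℕ) (c : V) : (c.tr f).ev T i = p f (c.ev T i) := by
  cases f
  · simp only [V.tr, V.ev, p, cond_false, e_zero]
  · rfl

theorem p_mul (f : Bool) (c d : Co T) : p f (p f c * p f d) = p f (c * d) := by
  cases f
  · ext <;> simp [p]
  · rfl

/-- the `i`-th entry represents `c` -/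
def R (f : Bool) (i : ℕ) (v : V) (c : Co T) : Prop := v.ev T i = p f c

/-- strict product -/
noncomputable def mm (f : Bool) (x y : V) (k : V → Bool) : Bool := ((x.mul y).tr f).frc k

variable {f : Bool} {i : ℕ}

theorem R.mm {x y : V} {c d : Co T} (h1 : R f i x c) (h2 : R f i y d) {k : V → Bool}
    (h : mm f x y k = true) : ∃ z, R f i z (c * d) ∧ k z = true :=
  ⟨_, by rw [R, ev_tr, ev_mul, h1, h2, p_mul], (V.frc_eq _ _).symm.trans h⟩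

theorem R.cv {o : ℕ} (h : o.testBit i = true) (n : ℕ) : R f i ((cv o n).tr f) (el T n) := by
  rw [R, ev_tr, ev_cv h]

theorem R.sel {x : V} {g : Co T} (h : R f i x g) {m : ℕ} {t : K}
    (ht : e K i m = t ∨ p f g = 1) : R f i (x.sel m) (selC t g) := by
  rw [R, ev_sel, h]
  unfold selC
  rcases ht with rfl | ht <;> split_ifs <;> simp only [p_one, *]

theorem R.neq {x y : V} {c : Co T} (h1 : R f i x c) (h2 : R f i y c) :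
    (x.neq y).testBit i = false := (neq_iff (T := T) i x y).2 (h1.trans h2.symm)

/-- twelve images -/
structure Tw (α : Type*) where
  (g0 g1 g2 g3 g4 g5 g6 g7 g8 g9 g10 g11 : α)

/-- the map with given images of the twelve generators -/
noncomputable def apC (g : Tw (Co T)) (c : Co T) : Co T :=
  selC c.a1 g.g0 * selC c.b2 g.g1 * selC c.a2 g.g2 * selC c.a3 g.g3 *
    selC c.b4 g.g4 * selC c.a4 g.g5 * selC c.a5 g.g6 * selC c.b6 g.g7 *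
    selC c.a6 g.g8 * selC c.a7 g.g9 * selC c.b8 g.g10 * selC c.a8 g.g11

/-- the same on vectors -/
noncomputable def ap (f : Bool) (g : Tw V) (c : V) (k : V → Bool) : Bool :=
  mm f (g.g0.sel c.a1) (g.g1.sel c.b2) fun z => mm f z (g.g2.sel c.a2) fun z =>
  mm f z (g.g3.sel c.a3) fun z => mm f z (g.g4.sel c.b4) fun z =>
  mm f z (g.g5.sel c.a4) fun z => mm f z (g.g6.sel c.a5) fun z =>
  mm f z (g.g7.sel c.b6) fun z => mm f z (g.g8.sel c.a6) fun z =>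
  mm f z (g.g9.sel c.a7) fun z => mm f z (g.g10.sel c.b8) fun z =>
  mm f z (g.g11.sel c.a8) k

/-- twelve vectors represent twelve elements -/
structure R12 (f : Bool) (i : ℕ) (v : Tw V) (g : Tw (Co T)) : Prop where
  r0 : R f i v.g0 g.g0
  r1 : R f i v.g1 g.g1
  r2 : R f i v.g2 g.g2
  r3 : R f i v.g3 g.g3
  r4 : R f i v.g4 g.g4
  r5 : R f i v.g5 g.g5
  r6 : R f i v.g6 g.g6
  r7 : R f i v.g7 g.g7
  r8 : R f i v.g8 g.g8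
  r9 : R f i v.g9 g.g9
  r10 : R f i v.g10 g.g10
  r11 : R f i v.g11 g.g11
  z : f = true ∨ (p f g.g5 = 1 ∧ p f g.g6 = 1 ∧ p f g.g8 = 1)

theorem R12.ap {v : Tw V} {g : Tw (Co T)} (h : R12 f i v g) {x : V} {c : Co T} (hx : R f i x c)
    {k : V → Bool} (hk : ap f v x k = true) : ∃ z, R f i z (apC g c) ∧ k z = true := by
  have a4 : e K i x.a4 = c.a4 ∨ p f g.g5 = 1 :=
    h.z.imp (fun e => by subst e; exact congrArg Co.a4 hx) fun e => e.1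
  have a5 : e K i x.a5 = c.a5 ∨ p f g.g6 = 1 :=
    h.z.imp (fun e => by subst e; exact congrArg Co.a5 hx) fun e => e.2.1
  have a6 : e K i x.a6 = c.a6 ∨ p f g.g8 = 1 :=
    h.z.imp (fun e => by subst e; exact congrArg Co.a6 hx) fun e => e.2.2
  unfold apC
  obtain ⟨z, hz, hk⟩ := (h.r0.sel (t := c.a1) (.inl (congrArg Co.a1 hx))).mm
    (h.r1.sel (t := c.b2) (.inl (congrArg Co.b2 hx))) hk
  obtain ⟨z, hz, hk⟩ := hz.mm (h.r2.sel (t := c.a2) (.inl (congrArg Co.a2 hx))) hk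
  obtain ⟨z, hz, hk⟩ := hz.mm (h.r3.sel (t := c.a3) (.inl (congrArg Co.a3 hx))) hk
  obtain ⟨z, hz, hk⟩ := hz.mm (h.r4.sel (t := c.b4) (.inl (congrArg Co.b4 hx))) hk
  obtain ⟨z, hz, hk⟩ := hz.mm (h.r5.sel a4) hk
  obtain ⟨z, hz, hk⟩ := hz.mm (h.r6.sel a5) hk
  obtain ⟨z, hz, hk⟩ := hz.mm (h.r7.sel (t := c.b6) (.inl (congrArg Co.b6 hx))) hk
  obtain ⟨z, hz, hk⟩ := hz.mm (h.r8.sel a6) hk
  obtain ⟨z, hz, hk⟩ := hz.mm (h.r9.sel (t := c.a7) (.inl (congrArg Co.a7 hx))) hk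
  obtain ⟨z, hz, hk⟩ := hz.mm (h.r10.sel (t := c.b8) (.inl (congrArg Co.b8 hx))) hk
  obtain ⟨z, hz, hk⟩ := hz.mm (h.r11.sel (t := c.a8) (.inl (congrArg Co.a8 hx))) hk
  exact ⟨z, hz, hk⟩

/-- the twelve elements with given codes -/
def elT (T : TF K) (g : Tw ℕ) : Tw (Co T) :=
  ⟨el T g.g0, el T g.g1, el T g.g2, el T g.g3, el T g.g4, el T g.g5,
   el T g.g6, el T g.g7, el T g.g8, el T g.g9, el T g.g10, el T g.g11⟩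

/-- constant vectors -/
def cvT (o : ℕ) (g : Tw ℕ) : Tw V :=
  ⟨cv o g.g0, cv o g.g1, cv o g.g2, cv o g.g3, cv o g.g4, cv o g.g5,
   cv o g.g6, cv o g.g7, cv o g.g8, cv o g.g9, cv o g.g10, cv o g.g11⟩

theorem R12.cv {o : ℕ} (h : o.testBit i = true) (g : Tw ℕ) : R12 true i (cvT o g) (elT T g) :=
  ⟨ev_cv h _, ev_cv h _, ev_cv h _, ev_cv h _, ev_cv h _, ev_cv h _, ev_cv h _, ev_cv h _, ev_cv h _, ev_cv h _, ev_cv h _, ev_cv h _, .inl rfl⟩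

/-- the generators -/
def gen : Tw ℕ := ⟨1, 2, 4, 8, 16, 32, 64, 128, 256, 512, 1024, 2048⟩

theorem nf' (hK : ∀ a : K, a = 0 ∨ a = 1) (c : Co T) : apC (elT T gen) c = c := by
  have h : ∀ (x : K → Co T) (g : Co T), x 0 = 1 → x 1 = g → ∀ t, x t = selC t g :=
    fun x g h0 h1 t => by rcases hK t with rfl | rfl <;> simp [selC_zero, selC_one, h0, h1]
  conv_rhs => rw [nf c, h (x1 T) (el T 1) rfl rfl, h (y2 T) (el T 2) rfl rfl, h (x2 T) (el T 4) rfl rfl,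
    h (x3 T) (el T 8) rfl rfl, h (y4 T) (el T 16) rfl rfl, h (x4 T) (el T 32) rfl rfl,
    h (x5 T) (el T 64) rfl rfl, h (y6 T) (el T 128) rfl rfl, h (x6 T) (el T 256) rfl rfl,
    h (x7 T) (el T 512) rfl rfl, h (y8 T) (el T 1024) rfl rfl, h (x8 T) (el T 2048) rfl rfl]
  simp only [apC, elT, gen]

/-- check of a product of two codes -/
def ck (a b c : ℕ) : Bool := Nat.beq (((cv 1 a).mul (cv 1 b)).neq (cv 1 c)) 0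

theorem ck_spec {a b c : ℕ} (h : ck a b c = true) : el T a * el T b = el T c := by
  have h1 : Nat.testBit 1 0 = true := rfl
  rw [← ev_cv h1, ← ev_cv h1, ← ev_cv h1, ← ev_mul, ← neq_iff, Nat.eq_of_beq_eq_true h]
  rfl

end H65.PA
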