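import Cfsg.Agent.H65.PaBit

/-! The kernel search for the automorphisms of `Q₁` induced by `n₁` over the field with two elements,
and the automorphisms of `S` that move them to the standard one.  The tables were found by computer. -/

set_option autoImplicit false
set_option linter.unusedSectionVars false

namespace H65.PA

open H63.Oc

/-- truncated constant -/
def cs (f : Bool) (o n : ℕ) : V := (cv o n).tr f

/-- the images of the generators of `Q₁` from those of `y₈, y₂, y₄` -/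
noncomputable def ims (f : Bool) (o : ℕ) (a d b : V) (k : Tw V → Bool) : Bool :=
  mm f a a fun x8 => mm f d d fun x2 => mm f a x8 fun ai =>
  mm f d x2 fun di => mm f b (cs f o 256) fun bi => mm f di b fun u =>
  mm f u d fun u => mm f u bi fun x3 => mm f b x3 fun u =>
  mm f u di fun u => mm f u a fun u => mm f u d fun u =>
  mm f u ai fun y6 => mm f y6 (cs f o 32) fun yi => mm f bi y6 fun u =>
  mm f u b fun u => mm f u yi fun x5 => mm f yi a fun u =>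
  mm f u y6 fun u => mm f u ai fun x7 => k ⟨cs f o 0, d, x2, x3, b, cs f o 256, x5, y6, cs f o 32, x7, a, x8⟩

/-- the mask of the excluded candidates -/
noncomputable def bad (f : Bool) (o : ℕ) (a d b : V) (k : ℕ → Bool) : Bool :=
  ims f o a d b fun v => ap f v a fun z1 => mm f (cs f o 1) d fun u => mm f u (cs f o 1) fun w =>
  ap f v w fun z2 => mm f v.g3 d fun s1 => mm f d v.g3 fun s2 => mm f v.g7 d fun t1 =>
  mm f d v.g7 fun t2 => force (Nat.lor (z1.neq (cs f o 1024)) (Nat.lor (z2.neq w)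
    (Nat.lor (s1.neq s2) (t1.neq t2)))) k

/-- a solution -/
structure Rc where
  (a d b k x xi : ℕ)

/-- the remaining candidates are in the list -/
noncomputable def cov (o : ℕ) (a d b : V) (L : List Rc) : ℕ → Bool :=
  List.rec (motive := fun _ => ℕ → Bool) (fun m => Nat.beq m o)
    (fun t _ ih m => force (Nat.lor m (Nat.xor o (Nat.lor (a.neq (cv o t.a))
      (Nat.lor (d.neq (cv o t.d)) (b.neq (cv o t.b)))))) ih) L

/-- solutions modulo `A` -/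
def L1 : List Rc :=
  [⟨2, 1024, 128, 0, 0, 0⟩, ⟨2570, 1028, 128, 0, 0, 0⟩, ⟨514, 1032, 128, 0, 0, 0⟩,
   ⟨2058, 1036, 128, 0, 0, 0⟩, ⟨142, 3600, 128, 0, 0, 0⟩, ⟨2182, 3604, 128, 0, 0, 0⟩,
   ⟨654, 3608, 128, 0, 0, 0⟩, ⟨2694, 3612, 128, 0, 0, 0⟩, ⟨666, 1680, 136, 0, 0, 0⟩,
   ⟨2706, 1684, 136, 0, 0, 0⟩, ⟨154, 1688, 136, 0, 0, 0⟩, ⟨2194, 1692, 136, 0, 0, 0⟩,
   ⟨542, 3712, 136, 0, 0, 0⟩, ⟨2070, 3716, 136, 0, 0, 0⟩, ⟨30, 3720, 136, 0, 0, 0⟩,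
   ⟨2582, 3724, 136, 0, 0, 0⟩, ⟨658, 1168, 640, 0, 0, 0⟩, ⟨2714, 1172, 640, 0, 0, 0⟩,
   ⟨146, 1176, 640, 0, 0, 0⟩, ⟨2202, 1180, 640, 0, 0, 0⟩, ⟨30, 3200, 640, 0, 0, 0⟩,
   ⟨2582, 3204, 640, 0, 0, 0⟩, ⟨542, 3208, 640, 0, 0, 0⟩, ⟨2070, 3212, 640, 0, 0, 0⟩,
   ⟨10, 1536, 648, 0, 0, 0⟩, ⟨2562, 1540, 648, 0, 0, 0⟩, ⟨522, 1544, 648, 0, 0, 0⟩,
   ⟨2050, 1548, 648, 0, 0, 0⟩, ⟨654, 3088, 648, 0, 0, 0⟩, ⟨2694, 3092, 648, 0, 0, 0⟩,
   ⟨142, 3096, 648, 0, 0, 0⟩, ⟨2182, 3100, 648, 0, 0, 0⟩]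

/-- solutions -/
def L2 : List Rc :=
  [⟨2, 1024, 128, 0, 0, 0⟩, ⟨34, 1280, 416, 1, 0, 0⟩, ⟨30, 3552, 736, 3, 13, 13⟩,
   ⟨30, 3264, 960, 6, 13, 13⟩, ⟨802, 1096, 416, 1, 4, 4⟩, ⟨754, 1232, 736, 1, 2, 6⟩,
   ⟨770, 1352, 128, 0, 4, 4⟩, ⟨210, 1272, 960, 0, 14, 10⟩, ⟨542, 3304, 704, 3, 9, 9⟩,
   ⟨542, 3528, 992, 6, 9, 9⟩, ⟨174, 3632, 448, 3, 15, 11⟩, ⟨174, 3856, 224, 6, 15, 11⟩,
   ⟨350, 3200, 704, 7, 5, 5⟩, ⟨350, 3488, 992, 2, 5, 5⟩, ⟨942, 3704, 480, 7, 3, 7⟩,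
   ⟨942, 3928, 192, 2, 3, 7⟩, ⟨1006, 3896, 448, 3, 11, 15⟩, ⟨1006, 3608, 224, 6, 11, 15⟩,
   ⟨798, 3272, 704, 7, 9, 9⟩, ⟨798, 3560, 992, 2, 9, 9⟩, ⟨94, 3232, 704, 3, 5, 5⟩,
   ⟨94, 3456, 992, 6, 5, 5⟩, ⟨430, 3600, 448, 7, 15, 11⟩, ⟨430, 3888, 224, 2, 15, 11⟩,
   ⟨862, 3464, 736, 7, 1, 1⟩, ⟨862, 3240, 960, 2, 1, 1⟩, ⟨494, 3920, 480, 3, 7, 3⟩,
   ⟨494, 3696, 192, 6, 7, 3⟩, ⟨238, 3952, 480, 7, 7, 3⟩, ⟨238, 3664, 192, 2, 7, 3⟩,
   ⟨750, 3864, 448, 7, 11, 15⟩, ⟨750, 3640, 224, 2, 11, 15⟩, ⟨606, 3496, 736, 3, 1, 1⟩,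
   ⟨606, 3208, 960, 6, 1, 1⟩, ⟨658, 1168, 704, 1, 10, 14⟩, ⟨722, 1488, 960, 0, 2, 6⟩,
   ⟨242, 1528, 736, 1, 14, 10⟩, ⟨322, 1376, 384, 1, 8, 8⟩, ⟨1010, 1264, 736, 5, 14, 10⟩,
   ⟨578, 1064, 384, 1, 12, 12⟩, ⟨434, 1176, 992, 4, 10, 14⟩, ⟨546, 1128, 416, 5, 8, 8⟩,
   ⟨290, 1312, 416, 5, 12, 12⟩, ⟨978, 1520, 960, 4, 14, 10⟩, ⟨66, 1344, 384, 5, 4, 4⟩,
   ⟨834, 1032, 384, 5, 0, 0⟩, ⟨946, 1456, 992, 4, 6, 2⟩, ⟨466, 1240, 960, 4, 2, 6⟩,
   ⟨914, 1200, 704, 5, 6, 2⟩, ⟨178, 1208, 992, 0, 6, 2⟩, ⟨610, 1320, 160, 0, 12, 12⟩,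
   ⟨354, 1120, 160, 0, 8, 8⟩, ⟨866, 1288, 160, 4, 0, 0⟩, ⟨498, 1496, 736, 5, 2, 6⟩,
   ⟨98, 1088, 160, 4, 4, 4⟩, ⟨402, 1432, 704, 5, 10, 14⟩, ⟨690, 1424, 992, 0, 10, 14⟩,
   ⟨286, 3520, 736, 7, 13, 13⟩, ⟨286, 3296, 960, 2, 13, 13⟩, ⟨686, 3672, 480, 3, 3, 7⟩,
   ⟨686, 3960, 192, 6, 3, 7⟩, ⟨258, 1056, 128, 4, 12, 12⟩, ⟨514, 1384, 128, 4, 8, 8⟩,
   ⟨146, 1464, 704, 1, 6, 2⟩]

/-- automorphisms of `S` with the correction of `n₈` -/
def TH : List (Tw ℕ × ℕ) :=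
  [(⟨1, 2, 4, 8, 16, 32, 64, 128, 256, 512, 1024, 2048⟩, 0),
   (⟨1, 34, 4, 8, 48, 32, 64, 160, 256, 512, 1024, 2048⟩, 0),
   (⟨1, 6, 4, 40, 92, 32, 96, 428, 288, 616, 1030, 2516⟩, 805),
   (⟨1, 38, 4, 40, 124, 32, 96, 396, 288, 616, 1030, 2516⟩, 805),
   (⟨1, 34, 4, 8, 16, 32, 64, 160, 256, 544, 1032, 2144⟩, 260),
   (⟨1, 2, 4, 8, 48, 32, 64, 128, 256, 544, 1032, 2144⟩, 260),
   (⟨1, 6, 4, 40, 92, 32, 96, 428, 288, 616, 1062, 2516⟩, 805),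
   (⟨1, 38, 4, 40, 124, 32, 96, 396, 288, 616, 1062, 2516⟩, 805)]

/-- candidates modulo `A` -/
noncomputable def v1 (s t j : ℕ) : V :=
  ⟨0, s, pl j 18, pl (j + 1) 18, pl (j + 2) 18, 0, 0, pl (j + 3) 18, 0, pl (j + 4) 18, t, pl (j + 5) 18⟩

/-- lifts -/
noncomputable def v2 (c : V) (j : ℕ) : V :=
  ⟨c.a1, c.b2, c.a2, c.a3, c.b4, pl j 9, pl (j + 1) 9, c.b6, pl (j + 2) 9, c.a7, c.b8, c.a8⟩

/-- first level -/
noncomputable def chk1 : Bool := force (on 18) fun o => (v1 o 0 0).frc fun a => (v1 0 o 6).frc fun d =>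
  (v1 0 0 12).frc fun b => bad false o a d b (cov o a d b L1)

/-- second level -/
noncomputable def chk2 (t : Rc) : Bool := force (on 9) fun o => (v2 (cv o t.a) 0).frc fun a =>
  (v2 (cv o t.d) 3).frc fun d => (v2 (cv o t.b) 6).frc fun b => bad true o a d b (cov o a d b L2)

/-- all of `S` -/
noncomputable def uS : V := ⟨pl 0 12, pl 1 12, pl 2 12, pl 3 12, pl 4 12, pl 5 12, pl 6 12, pl 7 12,
  pl 8 12, pl 9 12, pl 10 12, pl 11 12⟩

/-- commuting codes -/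
def ckc (a b : ℕ) : Bool := Nat.beq (((cv 1 a).mul (cv 1 b)).neq ((cv 1 b).mul (cv 1 a))) 0

/-- a solution is conjugate to the standard one -/
noncomputable def chk3 (t : Rc) : Bool := force (on 12) fun o => uS.frc fun u =>
  ims true o (cv o t.a) (cv o t.d) (cv o t.b) fun v =>
  ap true (cvT o (TH.getD t.k (gen, 0)).1) u fun s => ap true (cvT o (TH.getD t.k (gen, 0)).1) u.nu1 fun n =>
  mm true (cv o t.x) s fun y => mm true y (cv o t.xi) fun y => ap true v y fun z =>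
  mm true (cv o t.xi) z fun z => mm true z (cv o t.x) fun z =>
  Nat.beq (Nat.land (Nat.xor o u.a1) (Nat.lor y.a1 (z.neq n))) 0 && ck t.x t.xi 0 && ckc t.x 1 &&
    Nat.blt t.k 8

/-- homomorphism -/
noncomputable def chkH (θ : Tw ℕ) (g g' : ℕ) : Bool := force (on 12) fun o => uS.frc fun u =>
  ap true (cvT o θ) u fun s => mm true u (cv o g) fun w => ap true (cvT o θ) w fun l =>
  mm true s (cv o g') fun r => Nat.beq (l.neq r) 0

/-- injectivity, action of the new `n₈` -/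
noncomputable def chkN (θ : Tw ℕ) (q : ℕ) : Bool := force (on 12) fun o => uS.frc fun u =>
  ap true (cvT o θ) u fun s => mm true s (cv o q) fun t => mm true (cv o q) t.nu8 fun l =>
  ap true (cvT o θ) u.nu8 fun r =>
  Nat.beq (Nat.land (Nat.xor o (Nat.lor u.b8 u.a8)) (Nat.lor t.b8 (Nat.lor t.a8 (l.neq r)))) 0 &&
    Nat.beq (Nat.land (Nat.xor o (s.neq (cv o 0))) (u.neq (cv o 0))) 0

/-- the part in `U₈` -/
def V.up (c : V) : V := ⟨0, 0, 0, 0, 0, 0, 0, 0, 0, 0, c.b8, c.a8⟩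

/-- the rank one relation for the new coordinates -/
noncomputable def chkK (θ : Tw ℕ) (q : ℕ) (u : Rc) : Bool :=
  ap true (cvT 1 θ) (cv 1 u.b) fun a => mm true a (cv 1 q) fun t => ap true (cvT 1 θ) (cv 1 u.a) fun b =>
  ap true (cvT 1 θ) (cv 1 u.d) fun c => mm true (cv 1 q) t.nu8 fun l => mm true l (cv 1 u.a) fun l =>
  mm true b (cv 1 q) fun r => mm true r c.nu8 fun r =>
  Nat.beq (Nat.lor (l.neq r) (Nat.lor (t.up.neq (cv 1 u.b)) (c.up.neq (cv 1 u.d)))) 0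

/-- `n₈ b n₈ = a n₈ d` -/
def LK : List Rc := [⟨1024, 2048, 1024, 0, 0, 0⟩, ⟨3072, 1024, 2048, 0, 0, 0⟩, ⟨2048, 3072, 3072, 0, 0, 0⟩]

/-- all checks on an automorphism -/
noncomputable def chk4 (z : Tw ℕ × ℕ) : Bool :=
  [(1, z.1.g0), (2, z.1.g1), (4, z.1.g2), (8, z.1.g3), (16, z.1.g4), (32, z.1.g5), (64, z.1.g6),
    (128, z.1.g7), (256, z.1.g8), (512, z.1.g9), (1024, z.1.g10), (2048, z.1.g11)].all
    (fun g => chkH z.1 g.1 g.2) && chkN z.1 z.2 && LK.all (chkK z.1 z.2) && Nat.beq z.1.g0 1 &&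
    Nat.beq z.1.g5 32

/-- elements of `U₈` -/
noncomputable def vU (j : ℕ) : V := ⟨0, 0, 0, 0, 0, 0, 0, 0, 0, 0, pl j 6, pl (j + 1) 6⟩

/-- the condition on the rank one relation given by the action on an element `c` of `Q` -/
noncomputable def badR (o c : ℕ) (k : ℕ → Bool) : Bool :=
  mm true (vU 4) (cv o c).nu8 fun s => mm true s.nu8 (vU 0) fun l => mm true (vU 2) (cv o c) fun t =>
  mm true (vU 0) t.nu8 fun r => k (l.neq r)

/-- the rank one relation -/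
noncomputable def chkR : Bool := force (on 6) fun o => badR o 2 fun m => badR o 64 fun m' =>
  cov o (vU 0) (vU 2) (vU 4) LK (Nat.lor (Nat.xor o ((vU 4).neq (cv o 0))) (Nat.lor m m'))

theorem run1 : chk1 = true := by decide +kernel
theorem run2 : L1.all chk2 = true := by decide +kernel
theorem run3 : L2.all chk3 = true := by decide +kernel
theorem run4 : TH.all chk4 = true := by decide +kernel
theorem runR : chkR = true := by decide +kernel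

variable {K : Type*} [Field K] [CharP K 2] {T : TF K} {f : Bool} {i o : ℕ}

theorem lor_false {x y : ℕ} : (Nat.lor x y).testBit i = false ↔
    x.testBit i = false ∧ y.testBit i = false := by
  rw [← Bool.or_eq_false_iff, ← Nat.testBit_or]; rfl

theorem xor_bit (h : o.testBit i = true) {x : ℕ} : (Nat.xor o x).testBit i = !x.testBit i := by
  have : (Nat.xor o x).testBit i = _ := Nat.testBit_xor o x i
  rw [this, h]; simp

theorem of_beq {x : ℕ} (h : Nat.beq x 0 = true) (i : ℕ) : x.testBit i = false := by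
  rw [Nat.eq_of_beq_eq_true h, Nat.zero_testBit]

theorem of_land (ho : o.testBit i = true) {x y : ℕ} (h : Nat.beq (Nat.land (Nat.xor o x) y) 0 = true)
    (hx : x.testBit i = false) : y.testBit i = false := by
  have h1 : (Nat.land (Nat.xor o x) y).testBit i = _ := Nat.testBit_and _ y i
  rw [of_beq h, xor_bit ho, hx] at h1
  simpa using h1

theorem e_eq_zero {x : ℕ} : e K i x = 0 ↔ x.testBit i = false := by
  unfold e; cases x.testBit i <;> simp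

theorem e_one (h : o.testBit i = true) : e K i o = 1 := by simp [e, h]

theorem cov_spec (ho : o.testBit i = true) (a d b : V) (L : List Rc) : ∀ m, cov o a d b L m = true →
    m.testBit i = false → ∃ t ∈ L, a.ev T i = el T t.a ∧ d.ev T i = el T t.d ∧ b.ev T i = el T t.b := by
  induction L with
  | nil => exact fun m h hm => by rw [Nat.eq_of_beq_eq_true h, ho] at hm; cases hm
  | cons t L ih =>
    intro m h hm
    cases e : (Nat.lor (a.neq (cv o t.a)) (Nat.lor (d.neq (cv o t.d)) (b.neq (cv o t.b)))).testBit i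
    · simp only [lor_false, neq_iff (T := T), ev_cv ho] at e
      exact ⟨t, List.mem_cons_self, e⟩
    · obtain ⟨s, hs, h'⟩ := ih _ ((force_eq _ _).symm.trans h)
        (lor_false.2 ⟨hm, by rw [xor_bit ho, e]; rfl⟩)
      exact ⟨s, List.mem_cons_of_mem _ hs, h'⟩

theorem R.cs (ho : o.testBit i = true) (n : ℕ) : R f i (cs f o n) (el T n) := R.cv ho n
theorem R.c (ho : o.testBit i = true) (n : ℕ) : R true i (PA.cv o n) (el T n) := ev_cv ho n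
theorem R.nu8 {x : V} {c : Co T} (h : R true i x c) : R true i x.nu8 c.nu8 :=
  (ev_nu8 i x).trans (congrArg Co.nu8 h)
theorem R.nu1 {x : V} {c : Co T} (h : R true i x c) : R true i x.nu1 c.nu1 :=
  (ev_nu1 i x).trans (congrArg Co.nu1 h)
theorem R.up {x : V} {c : Co T} (h : R true i x c) : R true i x.up (uu T c.b8 c.a8) := by
  rw [← show x.ev T i = c from h]
  simp only [R, V.up, V.ev, uu, p_true, e_zero]
theorem R.eq {x y : V} {c d : Co T} (h1 : R true i x c) (h2 : R true i y d)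
    (h : (x.neq y).testBit i = false) : c = d :=
  (show x.ev T i = c from h1).symm.trans (((neq_iff i x y).1 h).trans h2)

theorem el_zero : el T 0 = 1 := rfl

/-- the graph of an involutory automorphism -/
structure Au (A : Co T → Co T → Prop) : Prop where
  two : ∀ a : K, a = 0 ∨ a = 1
  one : A 1 1
  mul : ∀ {c c' d d'}, A c c' → A d d' → A (c * d) (c' * d')
  symm : ∀ {c c'}, A c c' → A c' c
  fn : ∀ {c d d'}, A c d → A c d' → d = d'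

/-- the conditions of the search -/
structure Su (A : Co T → Co T → Prop) (a d b : Co T) : Prop extends Au A where
  ha : A (el T 1024) a
  hd : A (el T 2) d
  hb : A (el T 16) b
  h4 : A (el T 32) (el T 256)
  h5 : ∀ y, A (el T 64) y → p false y = 1
  br : A (el T 1 * d * el T 1) (el T 1 * d * el T 1)
  a1 : a.a1 = 0
  d1 : d.a1 = 0

variable {A : Co T → Co T → Prop} {a d b : Co T}

/-- `v` represents the image of the element with code `n` -/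
def S (A : Co T → Co T → Prop) (f : Bool) (i n : ℕ) (v : V) : Prop := ∃ y, A (el T n) y ∧ R f i v y

theorem S.mm (h : Au A) {n m : ℕ} {v w : V} (h1 : S A f i n v) (h2 : S A f i m w) (l : ℕ)
    (c : ck n m l = true) {k : V → Bool} (hk : mm f v w k = true) : ∃ z, S A f i l z ∧ k z = true :=
  let ⟨_, a1, r1⟩ := h1
  let ⟨_, a2, r2⟩ := h2
  let ⟨z, hz, hk⟩ := r1.mm r2 hk
  ⟨z, ⟨_, ck_spec (T := T) c ▸ h.mul a1 a2, hz⟩, hk⟩

theorem Au.sel (h : Au A) {c d : Co T} (h1 : A c d) (t : K) : A (selC t c) (selC t d) := by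
  unfold selC; split_ifs; exacts [h1, h.one]

theorem ims_spec (h : Su A a d b) (ho : o.testBit i = true) {va vd vb : V} (ra : R f i va a)
    (rd : R f i vd d) (rb : R f i vb b) {k : Tw V → Bool} (hk : ims f o va vd vb k = true) :
    ∃ v g, R12 f i v g ∧ (∀ c : Co T, c.a1 = 0 → A c (apC g c)) ∧ A (el T 8) g.g3 ∧
      A (el T 128) g.g7 ∧ k v = true := by
  have sa : S A f i 1024 va := ⟨_, h.ha, ra⟩
  have sd : S A f i 2 vd := ⟨_, h.hd, rd⟩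
  have sb : S A f i 16 vb := ⟨_, h.hb, rb⟩
  have c4 : S A f i 32 (cs f o 256) := ⟨_, h.h4, R.cs ho _⟩
  have c6 : S A f i 256 (cs f o 32) := ⟨_, h.symm h.h4, R.cs ho _⟩
  obtain ⟨vx8, x8, hk⟩ := S.mm h.toAu sa sa 2048 (by decide +kernel) hk
  obtain ⟨vx2, x2, hk⟩ := S.mm h.toAu sd sd 4 (by decide +kernel) hk
  obtain ⟨vai, ai, hk⟩ := S.mm h.toAu sa x8 3072 (by decide +kernel) hk
  obtain ⟨vdi, di, hk⟩ := S.mm h.toAu sd x2 6 (by decide +kernel) hk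
  obtain ⟨vbi, bi, hk⟩ := S.mm h.toAu sb c4 48 (by decide +kernel) hk
  obtain ⟨vu, u, hk⟩ := S.mm h.toAu di sb 22 (by decide +kernel) hk
  obtain ⟨vu, u, hk⟩ := S.mm h.toAu u sd 24 (by decide +kernel) hk
  obtain ⟨vx3, x3, hk⟩ := S.mm h.toAu u bi 8 (by decide +kernel) hk
  obtain ⟨vu, u, hk⟩ := S.mm h.toAu sb x3 24 (by decide +kernel) hk
  obtain ⟨vu, u, hk⟩ := S.mm h.toAu u di 22 (by decide +kernel) hk
  obtain ⟨vu, u, hk⟩ := S.mm h.toAu u sa 1046 (by decide +kernel) hk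
  obtain ⟨vu, u, hk⟩ := S.mm h.toAu u sd 1152 (by decide +kernel) hk
  obtain ⟨vy6, y6, hk⟩ := S.mm h.toAu u ai 128 (by decide +kernel) hk
  obtain ⟨vyi, yi, hk⟩ := S.mm h.toAu y6 c6 384 (by decide +kernel) hk
  obtain ⟨vu, u, hk⟩ := S.mm h.toAu bi y6 176 (by decide +kernel) hk
  obtain ⟨vu, u, hk⟩ := S.mm h.toAu u sb 192 (by decide +kernel) hk
  obtain ⟨vx5, x5, hk⟩ := S.mm h.toAu u yi 64 (by decide +kernel) hk
  obtain ⟨vu, u, hk⟩ := S.mm h.toAu yi sa 1408 (by decide +kernel) hk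
  obtain ⟨vu, u, hk⟩ := S.mm h.toAu u y6 1536 (by decide +kernel) hk
  obtain ⟨vx7, x7, hk⟩ := S.mm h.toAu u ai 512 (by decide +kernel) hk
  obtain ⟨g2, a2, r2⟩ := x2
  obtain ⟨g3, a3, r3⟩ := x3
  obtain ⟨g6, a6, r6⟩ := x5
  obtain ⟨g7, a7, r7⟩ := y6
  obtain ⟨g9, a9, r9⟩ := x7
  obtain ⟨g11, a11, r11⟩ := x8
  refine ⟨_, ⟨el T 0, d, g2, g3, b, el T 256, g6, g7, el T 32, g9, a, g11⟩, ⟨R.cs ho _, rd, r2, r3, rb,
    R.cs ho _, r6, r7, R.cs ho _, r9, ra, r11, ?_⟩, fun c hc => ?_, a3, a7, hk⟩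
  · cases f
    exacts [.inr ⟨rfl, h.h5 _ a6, rfl⟩, .inl rfl]
  · have u := h.toAu
    conv_lhs => rw [← nf' h.two c]
    simp only [apC, elT, gen, hc, selC_zero]
    exact u.mul (u.mul (u.mul (u.mul (u.mul (u.mul (u.mul (u.mul (u.mul (u.mul (u.mul u.one
      (u.sel h.hd _)) (u.sel a2 _)) (u.sel a3 _)) (u.sel h.hb _)) (u.sel h.h4 _)) (u.sel a6 _))
      (u.sel a7 _)) (u.sel (u.symm h.h4) _)) (u.sel a9 _)) (u.sel h.ha _)) (u.sel a11 _)

theorem Au.comm (h : Au A) {n m : ℕ} {c d : Co T} (h1 : A (el T n) c) (h2 : A (el T m) d) (l : ℕ)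
    (e1 : ck n m l = true) (e2 : ck m n l = true) : d * c = c * d :=
  h.fn (ck_spec (T := T) e2 ▸ h.mul h2 h1) (ck_spec (T := T) e1 ▸ h.mul h1 h2)

theorem bad_spec (h : Su A a d b) (ho : o.testBit i = true) {va vd vb : V} (ra : R f i va a)
    (rd : R f i vd d) (rb : R f i vb b) {k : ℕ → Bool} (hk : bad f o va vd vb k = true) :
    ∃ m : ℕ, m.testBit i = false ∧ k m = true := by
  obtain ⟨v, g, r, hA, a3, a7, hk⟩ := ims_spec h ho ra rd rb hk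
  obtain ⟨z1, h1, hk⟩ := r.ap ra hk
  obtain ⟨u, hu, hk⟩ := (R.cs ho 1).mm rd hk
  obtain ⟨w, hw, hk⟩ := hu.mm (R.cs ho 1) hk
  obtain ⟨z2, h2, hk⟩ := r.ap hw hk
  obtain ⟨s1, b1, hk⟩ := r.r3.mm rd hk
  obtain ⟨s2, b2, hk⟩ := rd.mm r.r3 hk
  obtain ⟨t1, c1, hk⟩ := r.r7.mm rd hk
  obtain ⟨t2, c2, hk⟩ := rd.mm r.r7 hk
  rw [h.fn (hA a h.a1) (h.symm h.ha)] at h1
  rw [h.fn (hA _ (by simp [h.d1, CharTwo.add_self_eq_zero])) h.br] at h2
  rw [h.toAu.comm a3 h.hd 10 (by decide +kernel) (by decide +kernel)] at b2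
  rw [h.toAu.comm a7 h.hd 130 (by decide +kernel) (by decide +kernel)] at c2
  exact ⟨_, lor_false.2 ⟨h1.neq (R.cs ho _), lor_false.2 ⟨h2.neq hw, lor_false.2
    ⟨b1.neq b2, c1.neq c2⟩⟩⟩, (force_eq _ _).symm.trans hk⟩

theorem r_v1 {s t j : ℕ} {c : Co T} {l : List K} (h : ∀ j < 18, e K i (pl j 18) = l.getD j 0)
    (hj : j ≤ 12) (h1 : c.a1 = 0) (h2 : e K i s = c.b2) (h3 : e K i t = c.b8)
    (e : [l.getD j 0, l.getD (j + 1) 0, l.getD (j + 2) 0, l.getD (j + 3) 0, l.getD (j + 4) 0,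
      l.getD (j + 5) 0] = [c.a2, c.a3, c.b4, c.b6, c.a7, c.a8]) : R false i (v1 s t j) c := by
  simp only [List.cons.injEq, and_true] at e
  simp only [R, v1, V.ev, p, e_zero, h1, h2, h3, cond_false, h j (by omega), h (j + 1) (by omega),
    h (j + 2) (by omega), h (j + 3) (by omega), h (j + 4) (by omega), h (j + 5) (by omega), e]

theorem r_v2 {x : V} {j : ℕ} {c : Co T} {l : List K} (h : ∀ j < 9, e K i (pl j 9) = l.getD j 0)
    (hj : j ≤ 6) (h1 : x.ev T i = p false c)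
    (e : [l.getD j 0, l.getD (j + 1) 0, l.getD (j + 2) 0] = [c.a4, c.a5, c.a6]) :
    R true i (v2 x j) c := by
  simp only [List.cons.injEq, and_true] at e
  simp only [V.ev, p, Co.mk.injEq] at h1
  simp only [R, v2, V.ev, p_true, h j (by omega), h (j + 1) (by omega), h (j + 2) (by omega), e, h1]

theorem search (h : Su A a d b) (a2 : a.b2 = 1) (a8 : a.b8 = 0) (d2 : d.b2 = 0) (d8 : d.b8 = 1)
    (b1 : b.a1 = 0) (b2 : b.b2 = 0) (b8 : b.b8 = 0) :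
    ∃ t ∈ L2, a = el T t.a ∧ d = el T t.d ∧ b = el T t.b := by
  obtain ⟨i, ho, hi⟩ := exists_e h.two [a.a2, a.a3, a.b4, a.b6, a.a7, a.a8, d.a2, d.a3, d.b4, d.b6,
    d.a7, d.a8, b.a2, b.a3, b.b4, b.b6, b.a7, b.a8] 18
  have ra := r_v1 (j := 0) hi (by omega) h.a1 ((e_one ho).trans a2.symm) ((e_zero i).trans a8.symm) rfl
  have rd := r_v1 (j := 6) hi (by omega) h.d1 ((e_zero i).trans d2.symm) ((e_one ho).trans d8.symm) rfl
  have rb := r_v1 (j := 12) hi (by omega) b1 ((e_zero i).trans b2.symm) ((e_zero i).trans b8.symm) rfl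
  have r1 := run1
  simp only [chk1, force_eq, V.frc_eq] at r1
  obtain ⟨m, hm, hk⟩ := bad_spec h ho ra rd rb r1
  obtain ⟨t, ht, e1, e2, e3⟩ := cov_spec (T := T) ho _ _ _ _ m hk hm
  obtain ⟨i, ho, hi⟩ := exists_e h.two [a.a4, a.a5, a.a6, d.a4, d.a5, d.a6, b.a4, b.a5, b.a6] 9
  have sa := r_v2 (j := 0) hi (by omega) ((ev_cv ho t.a).trans (e1.symm.trans ra)) rfl
  have sd := r_v2 (j := 3) hi (by omega) ((ev_cv ho t.d).trans (e2.symm.trans rd)) rfl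
  have sb := r_v2 (j := 6) hi (by omega) ((ev_cv ho t.b).trans (e3.symm.trans rb)) rfl
  have r2 := List.all_eq_true.1 run2 t ht
  simp only [chk2, force_eq, V.frc_eq] at r2
  obtain ⟨m, hm, hk⟩ := bad_spec h ho sa sd sb r2
  obtain ⟨t, ht, e1, e2, e3⟩ := cov_spec (T := T) ho _ _ _ _ m hk hm
  exact ⟨t, ht, Eq.trans (Eq.symm sa) e1, Eq.trans (Eq.symm sd) e2, Eq.trans (Eq.symm sb) e3⟩

theorem exists_uS (hK : ∀ a : K, a = 0 ∨ a = 1) (c : Co T) :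
    ∃ i, (on 12).testBit i = true ∧ R true i uS c := by
  obtain ⟨i, ho, hi⟩ := exists_e hK [c.a1, c.b2, c.a2, c.a3, c.b4, c.a4, c.a5, c.b6, c.a6, c.a7,
    c.b8, c.a8] 12
  refine ⟨i, ho, ?_⟩
  simp only [R, uS, V.ev, p_true]
  rw [hi 0 (by omega), hi 1 (by omega), hi 2 (by omega), hi 3 (by omega), hi 4 (by omega),
    hi 5 (by omega), hi 6 (by omega), hi 7 (by omega), hi 8 (by omega), hi 9 (by omega),
    hi 10 (by omega), hi 11 (by omega)]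
  rfl

/-- The result of the search. -/
theorem conj_std (h : Su A a d b) (a2 : a.b2 = 1) (a8 : a.b8 = 0) (d2 : d.b2 = 0) (d8 : d.b8 = 1)
    (b1 : b.a1 = 0) (b2 : b.b2 = 0) (b8 : b.b8 = 0) : ∃ z ∈ TH, ∃ x : Co T,
    x * el T 1 = el T 1 * x ∧ ∀ c : Co T, c.a1 = 0 →
      A (x * apC (elT T z.1) c * x⁻¹) (x * apC (elT T z.1) c.nu1 * x⁻¹) := by
  obtain ⟨t, ht, rfl, rfl, rfl⟩ := search h a2 a8 d2 d8 b1 b2 b8
  have r := List.all_eq_true.1 run3 t ht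
  simp only [chk3, force_eq, V.frc_eq] at r
  have key : ∀ c : Co T, (ck t.x t.xi 0 = true ∧ ckc t.x 1 = true ∧ Nat.blt t.k 8 = true) ∧
      (c.a1 = 0 → ∃ y, A (el T t.x * apC (elT T (TH.getD t.k (gen, 0)).1) c * el T t.xi) y ∧
        el T t.xi * y * el T t.x = apC (elT T (TH.getD t.k (gen, 0)).1) c.nu1) := fun c => by
    obtain ⟨i, ho, u⟩ := exists_uS h.two c
    obtain ⟨v, g, r12, hA, -, -, hk⟩ := ims_spec h ho (R.c ho _) (R.c ho _) (R.c ho _) r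
    obtain ⟨s, hs, hk⟩ := (R12.cv ho _).ap u hk
    obtain ⟨n, hn, hk⟩ := (R12.cv ho _).ap u.nu1 hk
    obtain ⟨y, hy, hk⟩ := (R.c ho _).mm hs hk
    obtain ⟨y, hy, hk⟩ := hy.mm (R.c ho _) hk
    obtain ⟨z, hz, hk⟩ := r12.ap hy hk
    obtain ⟨z, hz, hk⟩ := (R.c ho _).mm hz hk
    obtain ⟨z, hz, hk⟩ := hz.mm (R.c ho _) hk
    simp only [Bool.and_eq_true] at hk
    refine ⟨⟨hk.1.1.2, hk.1.2, hk.2⟩, fun hc => ?_⟩
    have := lor_false.1 (of_land ho hk.1.1.1 (e_eq_zero.1 ((congrArg Co.a1 u).trans hc)))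
    exact ⟨_, hA _ ((congrArg Co.a1 hy).symm.trans (e_eq_zero.2 this.1)), hz.eq hn this.2⟩
  obtain ⟨k1, k2, k3⟩ := (key 1).1
  have e : el T t.xi = (el T t.x)⁻¹ := eq_inv_of_mul_eq_one_right (ck_spec k1)
  have h1 : Nat.testBit 1 0 = true := rfl
  refine ⟨_, List.getD_eq_getElem TH (gen, 0) (Nat.blt_eq ▸ k3) ▸ List.getElem_mem _, el T t.x, ?_,
    fun c hc => ?_⟩
  · rw [← ev_cv h1, ← ev_cv h1, ← ev_mul, ← ev_mul, ← neq_iff]
    exact of_beq k2 0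
  · obtain ⟨y, h2, h3⟩ := (key c).2 hc
    rw [← h3, ← e]
    convert h2 using 1
    rw [e]; group

theorem hom_spec (hK : ∀ a : K, a = 0 ∨ a = 1) {θ : Tw ℕ} {g g' : ℕ} (h : chkH θ g g' = true)
    (c : Co T) : apC (elT T θ) (c * el T g) = apC (elT T θ) c * el T g' := by
  simp only [chkH, force_eq, V.frc_eq] at h
  obtain ⟨i, ho, u⟩ := exists_uS hK c
  obtain ⟨s, hs, h⟩ := (R12.cv ho _).ap u h
  obtain ⟨w, hw, h⟩ := u.mm (R.c ho _) h
  obtain ⟨l, hl, h⟩ := (R12.cv ho _).ap hw h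
  obtain ⟨r, hr, h⟩ := hs.mm (R.c ho _) h
  exact hl.eq hr (of_beq h i)

theorem apC_one (g : Tw (Co T)) : apC g 1 = 1 := by simp [apC, selC_zero]

/-- The facts on an automorphism of the table. -/
structure Th (θ : Co T →* Co T) (q : Co T) : Prop where
  inj : Function.Injective θ
  e1 : θ (el T 1) = el T 1
  e4 : θ (el T 32) = el T 32
  n8 : ∀ c ∈ sQ T, θ c * q ∈ sQ T ∧ q * (θ c * q).nu8 = θ c.nu8
  rk : ∀ u ∈ LK, uu T (θ (el T u.b) * q).b8 (θ (el T u.b) * q).a8 = el T u.b ∧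
    uu T (θ (el T u.d)).b8 (θ (el T u.d)).a8 = el T u.d ∧
    q * (θ (el T u.b) * q).nu8 * el T u.a = θ (el T u.a) * q * (θ (el T u.d)).nu8

theorem th_spec (hK : ∀ a : K, a = 0 ∨ a = 1) {z : Tw ℕ × ℕ} (hz : z ∈ TH) :
    ∃ θ : Co T →* Co T, (∀ c, θ c = apC (elT T z.1) c) ∧ Th θ (el T z.2) := by
  have r := List.all_eq_true.1 run4 z hz
  simp only [chk4, Bool.and_eq_true, List.all_cons, List.all_nil, and_true] at r
  obtain ⟨⟨⟨⟨⟨g0, g1, g2, g3, g4, g5, g6, g7, g8, g9, g10, g11⟩, hN⟩, hR⟩, e1⟩, e4⟩ := r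
  have v : ∀ {g g'}, chkH z.1 g g' = true → apC (elT T z.1) (el T g) = el T g' := fun h => by
    simpa only [one_mul, apC_one] using hom_spec (T := T) hK h 1
  let M : Submonoid (Co T) :=
    { carrier := {g | ∀ c, apC (elT T z.1) (c * g) = apC (elT T z.1) c * apC (elT T z.1) g}
      one_mem' := fun c => by rw [mul_one, apC_one, mul_one]
      mul_mem' := fun {g g'} h h' c => by rw [← mul_assoc, h', h, h', mul_assoc] }
  have m : ∀ {g g'}, chkH z.1 g g' = true → ∀ t : K, selC t (el T g) ∈ M := fun h t => by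
    unfold selC; split_ifs
    exacts [fun c => by rw [v h, hom_spec hK h], M.one_mem]
  have hM : ∀ g, g ∈ M := fun g => by
    rw [← nf' hK g]
    exact mul_mem (mul_mem (mul_mem (mul_mem (mul_mem (mul_mem (mul_mem (mul_mem (mul_mem (mul_mem
      (mul_mem (m g0 _) (m g1 _)) (m g2 _)) (m g3 _)) (m g4 _)) (m g5 _)) (m g6 _)) (m g7 _))
      (m g8 _)) (m g9 _)) (m g10 _)) (m g11 _)
  have key : ∀ c : Co T, (c ∈ sQ T → apC (elT T z.1) c * el T z.2 ∈ sQ T ∧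
      el T z.2 * (apC (elT T z.1) c * el T z.2).nu8 = apC (elT T z.1) c.nu8) ∧
      (apC (elT T z.1) c = 1 → c = 1) := fun c => by
    simp only [chkN, force_eq, V.frc_eq] at hN
    obtain ⟨i, ho, u⟩ := exists_uS hK c
    obtain ⟨s, hs, h⟩ := (R12.cv ho _).ap u hN
    obtain ⟨t, ht, h⟩ := hs.mm (R.c ho _) h
    obtain ⟨l, hl, h⟩ := (R.c ho _).mm ht.nu8 h
    obtain ⟨r, hr, h⟩ := (R12.cv ho _).ap u.nu8 h
    rw [Bool.and_eq_true] at h
    refine ⟨fun hc => ?_, fun hc => u.eq (R.c ho 0) (of_land ho h.2 (hs.neq (by rw [hc]; exact R.c ho 0)))⟩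
    have := of_land ho h.1 (lor_false.2 ⟨e_eq_zero.1 ((congrArg Co.b8 u).trans hc.1),
      e_eq_zero.1 ((congrArg Co.a8 u).trans hc.2)⟩)
    rw [lor_false, lor_false] at this
    exact ⟨⟨(congrArg Co.b8 ht).symm.trans (e_eq_zero.2 this.1),
      (congrArg Co.a8 ht).symm.trans (e_eq_zero.2 this.2.1)⟩, hl.eq hr this.2.2⟩
  refine ⟨MonoidHom.mk' (apC (elT T z.1)) fun c d => hM d c, fun _ => rfl,
    (injective_iff_map_eq_one _).2 fun c => (key c).2, ?_, ?_, fun c => (key c).1, fun u hu => ?_⟩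
  · exact (v g0).trans (by rw [Nat.eq_of_beq_eq_true e1])
  · exact (v g5).trans (by rw [Nat.eq_of_beq_eq_true e4])
  · have ho : Nat.testBit 1 0 = true := rfl
    obtain ⟨a, ha, h⟩ := (R12.cv (T := T) ho _).ap (R.c ho _) (List.all_eq_true.1 hR u hu)
    obtain ⟨t, ht, h⟩ := ha.mm (R.c ho _) h
    obtain ⟨b, hb, h⟩ := (R12.cv (T := T) ho _).ap (R.c ho _) h
    obtain ⟨c, hc, h⟩ := (R12.cv (T := T) ho _).ap (R.c ho _) h
    obtain ⟨l, hl, h⟩ := (R.c ho _).mm ht.nu8 h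
    obtain ⟨l, hl, h⟩ := hl.mm (R.c ho _) h
    obtain ⟨r, hr, h⟩ := hb.mm (R.c ho _) h
    obtain ⟨r, hr, h⟩ := hr.mm hc.nu8 h
    have := of_beq h 0
    rw [lor_false, lor_false] at this
    simp only [MonoidHom.mk'_apply]
    exact ⟨ht.up.eq (R.c ho _) this.2.1, hc.up.eq (R.c ho _) this.2.2, hl.eq hr this.1⟩

theorem rk_spec (hK : ∀ a : K, a = 0 ∨ a = 1) {u u' u'' : Co T} (hu : u ∈ sU8 T) (hu' : u' ∈ sU8 T)
    (hu'' : u'' ∈ sU8 T) (h1 : u ≠ 1)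
    (h : ∀ c ∈ sQ T, (u * c.nu8).nu8 * u' = u' * (u'' * c).nu8) :
    ∃ t ∈ LK, u' = el T t.a ∧ u'' = el T t.d ∧ u = el T t.b := by
  obtain ⟨i, ho, hi⟩ := exists_e hK [u'.b8, u'.a8, u''.b8, u''.a8, u.b8, u.a8] 6
  have rv : ∀ j ≤ 4, ∀ w ∈ sU8 T, [u'.b8, u'.a8, u''.b8, u''.a8, u.b8, u.a8].getD j 0 = w.b8 →
      [u'.b8, u'.a8, u''.b8, u''.a8, u.b8, u.a8].getD (j + 1) 0 = w.a8 → R true i (vU j) w :=
    fun j hj w hw e1 e2 => by
      simp only [R, vU, V.ev, p_true, e_zero, hi j (by omega), hi (j + 1) (by omega), e1, e2]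
      ext <;> simp only [(mem_sU8 T).1 hw]
  have r0 := rv 0 (by omega) u' hu' rfl rfl
  have r2 := rv 2 (by omega) u'' hu'' rfl rfl
  have r4 := rv 4 (by omega) u hu rfl rfl
  have bd : ∀ c k, el T c ∈ sQ T → badR (on 6) c k = true →
      ∃ m : ℕ, m.testBit i = false ∧ k m = true := fun c k hc hk => by
    obtain ⟨s, hs, hk⟩ := r4.mm (R.c ho c).nu8 hk
    obtain ⟨l, hl, hk⟩ := hs.nu8.mm r0 hk
    obtain ⟨t, ht, hk⟩ := r2.mm (R.c ho c) hk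
    obtain ⟨r, hr, hk⟩ := r0.mm ht.nu8 hk
    exact ⟨_, (h _ hc ▸ hl).neq hr, hk⟩
  have r := runR
  rw [chkR, force_eq] at r
  obtain ⟨m, hm, hk⟩ := bd _ _ ⟨rfl, rfl⟩ r
  obtain ⟨m', hm', hk⟩ := bd _ _ ⟨rfl, rfl⟩ hk
  obtain ⟨t, ht, e1, e2, e3⟩ := cov_spec (T := T) ho _ _ _ _ _ hk (lor_false.2 ⟨by
    rw [xor_bit ho, Bool.not_eq_false', ← Bool.not_eq_false]
    exact fun e => h1 (r4.eq (R.c ho 0) e), lor_false.2 ⟨hm, hm'⟩⟩)
  exact ⟨t, ht, Eq.trans (Eq.symm r0) e1, Eq.trans (Eq.symm r2) e2, Eq.trans (Eq.symm r4) e3⟩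

end H65.PA
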