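import Cfsg.Agent.H85.FZEng
import Cfsg.Agent.H49.Kit

/-! Two families of independent letters with the same polycyclic presentation generate isomorphic
groups; the Sylow 2-subgroups of `S₈` and `O₆⁻(2)`. -/

set_option autoImplicit false
set_option maxRecDepth 100000

namespace H65.PcIso

open H85.FZ H49 Cfsg Matrix

theorem W_pair {G K : Type*} [Group G] [Group K] (x : ℕ → G) (y : ℕ → K) (w : List ℕ) :
    W (fun i => (x i, y i)) w = (W x w, W y w) := by
  induction w with
  | nil => rfl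
  | cons r w ih => rw [W_cons, W_cons, W_cons, ih]; rfl

theorem ind_of_check {G : Type*} [Group G] [Finite G] {T : Tb} {x : ℕ → G} (P : Pres T x)
    (wf : T.wf = true) (h : ∀ k < T.n, ∀ w ∈ subs k, x k ≠ W x w) : Ind x T.n := fun k hk hx => by
  obtain ⟨w, hw, e⟩ := P.mem wf hk.le hx
  exact h k hk w hw e

theorem equiv_of_map {G K : Type*} [Group G] [Group K] [Finite G] (f : G →* K) (D : Subgroup G)
    (h : Nat.card D ≤ Nat.card (D.map f)) : Nonempty (D ≃* D.map f) := by
  haveI : Finite (D.map f) := Finite.of_surjective _ (f.subgroupMap_surjective D)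
  exact ⟨MulEquiv.ofBijective (f.subgroupMap D)
    ((f.subgroupMap_surjective D).bijective_of_nat_card_le h)⟩

theorem map_H {G K : Type*} [Group G] [Group K] (f : G →* K) (x : ℕ → G) (k : ℕ) :
    (H x k).map f = H (fun i => f (x i)) k := by
  rw [H, H, MonoidHom.map_closure, Set.image_image]

theorem pc_iso {G K : Type*} [Group G] [Group K] [Finite G] [Finite K] {T : Tb} (wf : T.wf = true)
    {x : ℕ → G} {y : ℕ → K} (Px : Pres T x) (Py : Pres T y) (Ix : Ind x T.n) (Iy : Ind y T.n) :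
    Nonempty (H x T.n ≃* H y T.n) := by
  have P : Pres T (fun i => (x i, y i)) :=
    ⟨fun s hs r hr => by rw [W_pair]; exact Prod.ext (Px.cj s hs r hr) (Py.cj s hs r hr),
      fun s hs => by rw [W_pair]; exact Prod.ext (Px.sq s hs) (Py.sq s hs)⟩
  have h := Nat.le_of_dvd (by positivity) (P.card_dvd wf le_rfl)
  obtain ⟨e1⟩ := equiv_of_map (MonoidHom.fst G K) (H (fun i => (x i, y i)) T.n) (by
    rw [map_H]; exact h.trans (Px.card wf le_rfl Ix).ge)
  obtain ⟨e2⟩ := equiv_of_map (MonoidHom.snd G K) (H (fun i => (x i, y i)) T.n) (by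
    rw [map_H]; exact h.trans (Py.card wf le_rfl Iy).ge)
  exact ⟨(MulEquiv.subgroupCongr (map_H (MonoidHom.fst G K) _ _)).symm.trans
    (e1.symm.trans (e2.trans (MulEquiv.subgroupCongr (map_H (MonoidHom.snd G K) _ _))))⟩

/-- the table of `C₂ ≀ C₂ ≀ C₂` -/
def T8 : Tb := Tb.of 7 [(4, 2, [2, 0]), (4, 3, [3, 1]), (5, 2, [2, 1]), (5, 3, [3, 1]),
  (6, 1, [1, 0]), (6, 3, [3, 2]), (6, 5, [5, 4])]

noncomputable abbrev CP := csP 3 7 8 16434824
noncomputable abbrev CM := csM 6 1090785345 63 34630287489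

noncomputable def xs : List (UG CP) := UG.mkL CP
  ([14570689, 16434369, 16406145, 16434817, 11788826, 16433690, 6852524].map fun a => (a, a))
noncomputable def ys : List (UG CM) := UG.mkL CM
  ([15124047354, 15686190775, 15592236894, 35166634767, 60400113100, 23713981434,
    67921884638].map fun a => (a, a))

theorem wf8 : T8.wf = true := by decide
theorem px : Pres T8 (val xs) := ⟨by decide +kernel, by decide +kernel⟩
theorem py : Pres T8 (val ys) := ⟨by decide +kernel, by decide +kernel⟩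
theorem ix : Ind (val xs) T8.n := ind_of_check px wf8 (by decide +kernel)
theorem iy : Ind (val ys) T8.n := ind_of_check py wf8 (by decide +kernel)

/-- the index set -/
def ee : Fin 6 ≃ (Fin 2 ⊕ Fin 2) ⊕ Fin 2 :=
  (finSumFinEquiv (m := 4) (n := 2)).symm.trans
    (Equiv.sumCongr (finSumFinEquiv (m := 2) (n := 2)).symm (Equiv.refl _))

noncomputable def toG {K : Type} [Field K] (e : ZMod 2 ≃+* K) :
    UG CM →* GL ((Fin 2 ⊕ Fin 2) ⊕ Fin 2) K :=
  (Units.map ((RingHom.mapMatrix e.toRingHom).toMonoidHom.comp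
    (reindexAlgEquiv (ZMod 2) (ZMod 2) ee).toRingEquiv.toRingHom.toMonoidHom)).comp (UG.toUnits CM)

theorem toG_inj {K : Type} [Field K] (e : ZMod 2 ≃+* K) : Function.Injective (toG e) :=
  (Units.map_injective ((Matrix.map_injective e.injective).comp
    (reindexAlgEquiv (ZMod 2) (ZMod 2) ee).injective)).comp UG.toUnits_inj

theorem pres2 : ∀ y ∈ ys, ∀ v : (Fin 2 ⊕ Fin 2) ⊕ Fin 2 → ZMod 2,
    quadFormMinus 2 (ZMod 2) 1 1 ((H73.dec2 6 y.c).submatrix ee.symm ee.symm *ᵥ v) =
      quadFormMinus 2 (ZMod 2) 1 1 v := by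
  decide +kernel

theorem toG_mem {K : Type} [Field K] (e : ZMod 2 ≃+* K) (i : ℕ) (hi : i < 7) :
    toG e (val ys i) ∈ isometryGroup K (quadFormMinus 2 K 1 1) := by
  have hq : ∀ v : (Fin 2 ⊕ Fin 2) ⊕ Fin 2 → ZMod 2,
      quadFormMinus 2 K 1 1 (e ∘ v) = e (quadFormMinus 2 (ZMod 2) 1 1 v) := by
    intro v
    simp only [quadFormMinus, map_add, map_mul, map_pow, map_sum, map_one, Function.comp_apply]
  intro u _
  obtain ⟨v, rfl⟩ : ∃ v : (Fin 2 ⊕ Fin 2) ⊕ Fin 2 → ZMod 2, u = e ∘ v :=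
    ⟨e.symm ∘ u, by ext; simp⟩
  have h1 : val ys i ∈ ys := by
    have : ys.length = 7 := by decide +kernel
    rw [val, List.getD_eq_getElem _ _ (by omega)]
    exact List.getElem_mem _
  have h2 := pres2 _ h1 v
  change quadFormMinus 2 K 1 1 (((H73.dec2 6 (val ys i).c).submatrix ee.symm ee.symm).map e *ᵥ
    (e ∘ v)) = quadFormMinus 2 K 1 1 (e ∘ v)
  rw [hq, ← h2, ← hq]
  congr 1
  ext j
  exact (RingHom.map_mulVec e.toRingHom _ v j).symm

theorem exists_sub {K : Type} [Field K] (e : ZMod 2 ≃+* K) :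
    ∃ (A : Subgroup (Equiv.Perm (Fin 8))) (B : Subgroup (isometryGroup K (quadFormMinus 2 K 1 1))),
      Nat.card A = 2 ^ 7 ∧ Nonempty (A ≃* B) := by
  obtain ⟨f⟩ := pc_iso wf8 px py ix iy
  have hle : (H (val ys) T8.n).map (toG e) ≤ isometryGroup K (quadFormMinus 2 K 1 1) := by
    rw [map_H]
    exact H_le fun i hi => toG_mem e i hi
  refine ⟨(H (val xs) T8.n).map toPermP, _, ?_, ⟨((H (val xs) T8.n).equivMapOfInjective _
    toPermP_inj).symm.trans (f.trans (((H (val ys) T8.n).equivMapOfInjective _ (toG_inj e)).trans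
      (Subgroup.subgroupOfEquivOfLe hle).symm))⟩⟩
  rw [Subgroup.card_map_of_injective toPermP_inj]
  exact px.card wf8 le_rfl ix

end H65.PcIso
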