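import Cfsg.Agent.H64.SFBasic

/-! STD-F4 job `P3b`, part 1: the action of the torus and of the Weyl group on the `A r`. -/

set_option autoImplicit false
set_option linter.unusedSectionVars false
set_option synthInstance.maxSize 2000

namespace H65.SF3

open Cfsg.Lie H63 H64 Subgroup H64.SF
open H64.SG (Cz Cs Ns cjs mem_Cs mem_Cz)
open H67.SA (cm)
open H59.SO (B1)
open H86.WR (XF)
open H46.SF (sh)

universe u

/-- The exponent of `h_v` on `X_r`. -/
abbrev ex (v r : ℕ) : ℤ := 2 * ip v r / ip v v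

theorem t120 : ∀ r < 48, ∀ s < 48, sh r = true → sh s = true → ip r s = -2 →
    (S (ad r s) ∧ rf s r = ad r s ∧ ad s r = ad r s ∧ s ≠ 47 - r ∧ r ≠ ad r s) ∧
    (S (47 - s) ∧ ip (ad r s) (47 - s) = -2 ∧ ad (ad r s) (47 - s) = r ∧ (47 - s) ∈ lY r) ∧
    (ip r (ad r s) = 2 ∧ ip s (ad r s) = 2) ∧
    ∃ v < 48, ex v r = 0 ∧ ex v s = 1 ∧ ex v (ad r s) = 1 := by decide +kernel

theorem t90 : ∀ r < 48, ∀ s < 48, sh r = true → sh s = true → ip r s = 0 →
    (ad r s < 48 ∧ ad s r = ad r s ∧ ad r s ∈ lY r ∧ ad r s ∈ lY s) ∧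
    ∃ p < 48, sh p = true ∧ ip r p = 2 ∧ S (ad s (47 - p)) ∧ ip p (ad s (47 - p)) = -2 ∧
      ad p (ad s (47 - p)) = s ∧ ip r (ad s (47 - p)) = -2 ∧ ip p (ad r (ad s (47 - p))) = 0 ∧
      ad p (ad r (ad s (47 - p))) = ad r s ∧ ip s (ad r (ad s (47 - p))) = 2 := by decide +kernel

theorem tsum : ∀ u < 48, sh u = true → u ∈ lY u ∧ ∃ r < 48, sh r = true ∧ S (ad u (47 - r)) ∧
    ip r (ad u (47 - r)) = -2 ∧ ad r (ad u (47 - r)) = u := by decide +kernel

theorem tpar : ∀ s ∈ [24, 25, 27, 33], ∀ r < 48, sh r = true →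
    (s :: wd0 r).countP sh % 2 = (wd0 (rf s r) ++ stb s r).countP sh % 2 := by decide +kernel

theorem tpair : ∀ s < 48, ip 44 s = -2 → ∃ w ∈ [[], [27], [28], [29], [27, 28], [27, 29], [28, 29],
    [27, 28, 29]], Wd w ∧ act w 44 = 44 ∧ act w 7 = s := by decide +kernel

theorem wd0_S {r : ℕ} (hr : S r) : Wd (wd0 r) ∧ act (wd0 r) 44 = r := by
  have := (wd0_spec r hr.1).2
  rwa [if_pos hr.2] at this

theorem S_act {w : List ℕ} (hw : Wd w) {r : ℕ} (hr : S r) : S (act w r) :=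
  ⟨(act_lt hw hr.1).1, (act_lt hw hr.1).2.trans hr.2⟩

theorem s44 : S 44 := by decide +kernel

theorem pair_tr {r s : ℕ} (hr : S r) (hs : S s) (h : ip r s = -2) :
    ∃ w, Wd w ∧ act w 44 = r ∧ act w 7 = s := by
  obtain ⟨h1, h2⟩ := wd0_S hr
  have h3 := (act_lt h1.reverse hs.1).1
  have h4 : act (wd0 r) (act (wd0 r).reverse s) = s := by simpa using act_reverse h1.reverse hs.1
  obtain ⟨w, -, k1, k2, k3⟩ := tpair _ h3 (by rw [← ip_act h1 (by decide) h3, h2, h4, h])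
  exact ⟨wd0 r ++ w, h1.append k1, by rw [act_append, k2, h2], by rw [act_append, k3, h4]⟩

section Grp

variable {G : Type u} [Group G] {a a' b b' : G}

theorem map_cm (φ : MulAut G) (a b : G) : φ (cm a b) = cm (φ a) (φ b) := by
  simp only [cm, map_mul, map_inv]

theorem cm_mul_left (h : Commute a (cm a' b)) : cm (a * a') b = cm a' b * cm a b := by
  rw [show cm (a * a') b = a * cm a' b * a⁻¹ * cm a b by simp only [cm]; group, h.eq,
    mul_inv_cancel_right]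

theorem cm_mul_right (h : Commute b (cm a b')) : cm a (b * b') = cm a b * cm a b' := by
  rw [show cm a (b * b') = cm a b * (b * cm a b' * b⁻¹) by simp only [cm]; group, h.eq,
    mul_inv_cancel_right]

theorem cm_swap (a b : G) : cm a b = (cm b a)⁻¹ := by simp only [cm]; group

theorem cm_one_left (b : G) : cm 1 b = 1 := by simp [cm]
theorem cm_one_right (a : G) : cm a 1 = 1 := by simp [cm]

end Grp

variable {F : Type} [Field F] [Finite F] [CharP F 2] {G : Type u} [Group G]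
  {e : XF F →* G} {t : G} {k : F} {A : ℕ → Subgroup G} {r s : ℕ} {a b : G} {c d : F}

variable (F) in
/-- The diagonal elements. -/
def DS : Subgroup (XF F) where
  carrier := {g | ∀ s < 48, ∃ l, l ≠ 0 ∧ ∀ a, g * x F s a * g⁻¹ = x F s (l * a)}
  one_mem' := fun _ _ => ⟨1, one_ne_zero, by simp⟩
  mul_mem' := fun {g g'} hg hg' s hs => by
    obtain ⟨l, h1, h2⟩ := hg s hs
    obtain ⟨l', h1', h2'⟩ := hg' s hs
    exact ⟨l * l', mul_ne_zero h1 h1', fun a => by rw [mul_assoc l, ← h2, ← h2']; group⟩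
  inv_mem' := fun {g} hg s hs => by
    obtain ⟨l, h1, h2⟩ := hg s hs
    refine ⟨l⁻¹, inv_ne_zero h1, fun a => ?_⟩
    have := h2 (l⁻¹ * a)
    rw [mul_inv_cancel_left₀ h1] at this
    rw [← this]; group

theorem h_DS (hs : s < 48) {l : F} (hl : l ≠ 0) : h F s l ∈ DS F := fun r hr =>
  ⟨_, zpow_ne_zero _ hl, h_conj hs hr hl⟩

theorem DS_nW {w : List ℕ} (hw : Wd w) {g : XF F} (hg : g ∈ DS F) :
    (nW F w)⁻¹ * g * nW F w ∈ DS F := fun r hr => by
  obtain ⟨l, h1, h2⟩ := hg _ (act_lt hw hr).1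
  refine ⟨l, h1, fun a => ?_⟩
  have := h2 a
  rw [← nW_conj hw hr, ← nW_conj hw hr] at this
  calc _ = (nW F w)⁻¹ * (g * (nW F w * x F r a * (nW F w)⁻¹) * g⁻¹) * nW F w := by group
    _ = _ := by rw [this]; group

theorem DS_pow {g : XF F} (hg : g ∈ DS F) : ∃ m, g = (g * g) ^ m := by
  have := Fintype.ofFinite F
  obtain ⟨m, hm⟩ : 2 ∣ Fintype.card F := Nat.dvd_of_mod_eq_zero
    (FiniteField.even_card_of_char_two (ringChar.eq F 2))
  refine ⟨m, eq_of_conj fun r hr a => ?_⟩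
  obtain ⟨l, -, h2⟩ := hg r hr
  have : ∀ i : ℕ, g ^ i * x F r a * (g ^ i)⁻¹ = x F r (l ^ i * a) := fun i => by
    induction i with
    | zero => simp
    | succ i ih => rw [pow_succ' l, mul_assoc l, ← h2, ← ih, pow_succ']; group
  rw [← sq, ← pow_mul, ← hm, this, FiniteField.pow_card, h2]

/-- Conjugation by `e g`. -/
abbrev κ (e : XF F →* G) (g : XF F) : MulAut G := MulAut.conj (e g)
/-- The root elements of `L`. -/
noncomputable abbrev X (e : XF F →* G) (r : ℕ) (c : F) : G := e (x F r c)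

theorem κ_mul (g g' : XF F) (a : G) : κ e (g * g') a = κ e g (κ e g' a) := by
  simp only [κ, map_mul, MulAut.mul_apply]

theorem κ_e (g u : XF F) : κ e g (e u) = e (g * u * g⁻¹) := by
  simp only [κ, MulAut.conj_apply, map_mul, map_inv]

theorem κ_nW {w : List ℕ} (hw : Wd w) (hr : r < 48) (c : F) :
    κ e (nW F w) (X e r c) = X e (act w r) c := by rw [κ_e, nW_conj hw hr]

theorem κ_n (hs : s < 48) (hr : r < 48) (c : F) : κ e (n F s) (X e r c) = X e (rf s r) c := by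
  rw [κ_e, n_conj hs hr]

theorem κ_h (hs : s < 48) (hr : r < 48) {l : F} (hl : l ≠ 0) (c : F) :
    κ e (h F s l) (X e r c) = X e r (l ^ ex s r * c) := by rw [κ_e, h_conj hs hr hl]

theorem κ_of_comm {g : XF F} (h : Commute (e g) a) : κ e g a = a := h.mul_inv_cancel

theorem X_add (hr : r < 48) (c d : F) : X e r c * X e r d = X e r (c + d) := by
  rw [← map_mul, x_add hr]

theorem X_zero (hr : r < 48) : X e r 0 = 1 := by rw [X, x_zero hr, map_one]

theorem X_sq (hr : r < 48) (c : F) : X e r c * X e r c = 1 := by rw [← map_mul, x_sq hr, map_one]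

theorem X_inv (hr : r < 48) (c : F) : (X e r c)⁻¹ = X e r c := inv_eq_of_mul_eq_one_right (X_sq hr c)

theorem X_c0 (hr : r < 48) (hs : s < 48) (h : 0 ≤ ip r s) (c d : F) : Commute (X e r c) (X e s d) := by
  rw [Commute, SemiconjBy, ← map_mul, x_c0 hr hs h, map_mul]

theorem X_c1 (hr : S r) (hs : S s) (h : ip r s = -2) (c d : F) :
    cm (X e r c) (X e s d) = X e (ad r s) (c * d) :=
  (H59.SO.map_cm ..).symm.trans (congrArg e (x_c1 hr.1 hs.1 (hr.2.trans hs.2.symm) (by omega)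
    (t120 r hr.1 s hs.1 hr.2 hs.2 h).1.2.2.2.1 c d))

theorem sig_iff (b : B1 e t) {w u : G} : w * t * w⁻¹ = t * u ↔ MulAut.conj t w = u * w := by
  rw [MulAut.conj_apply, mul_inv_eq_iff_eq_mul, mul_assoc t, ← inv_mul_eq_iff_eq_mul, b.inv_eq,
    mul_assoc]

theorem sig_κ (b : B1 e t) (g : XF F) (w : G) :
    MulAut.conj t (κ e g w) = κ e g (MulAut.conj t w) := by
  rw [← MulAut.mul_apply, ← MulAut.mul_apply, ← map_mul, ← map_mul, b.comm]

theorem sig_e (b : B1 e t) (g : XF F) : MulAut.conj t (e g) = e g := b.conj_eq g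

variable (e t k A) in
/-- The hypotheses of the job. -/
structure E : Prop extends Fam2 e t k A where
  b : B1 e t

namespace E

variable (h : E e t k A)
include h

theorem X_inj (hr : r < 48) (i : X e r c = X e r d) : c = d := x_inj hr (h.b.inj i)

theorem xA (hr : S r) (c : F) : X e r c ∈ A r :=
  h.le r hr (mem_map_of_mem e ((mem_Z hr.1).2 ⟨c, rfl⟩))

theorem inv (hr : S r) (ha : a ∈ A r) : a⁻¹ = a := inv_eq_of_mul_eq_one_right (h.sq r hr a ha)

theorem ab (hr : S r) (ha : a ∈ A r) (hb : b ∈ A r) : Commute a b := by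
  rw [Commute, SemiconjBy, ← h.inv hr (mul_mem ha hb), mul_inv_rev, h.inv hr ha, h.inv hr hb]

theorem cx (hr : S r) (hs : s ∈ lY r) (ha : a ∈ A r) (c : F) : Commute (X e s c) a :=
  mem_Cs_US.1 (h.cp r hr ha) s hs (mem_lY.1 hs).1 c

theorem c2 (hr : S r) (hs : S s) (i : ip r s = 2) (ha : a ∈ A r) (hb : b ∈ A s) : Commute a b :=
  (h.col r s hr hs i ha b hb).symm

theorem sg (hr : S r) (ha : a ∈ A r) : ∃ c, MulAut.conj t a = X e r c * a :=
  (h.tc r hr a ha).imp fun _ i => (sig_iff h.b).1 i.1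

theorem tc' (hr : S r) (ha : a ∈ A r) (hc : MulAut.conj t a = X e r c * a) (hs : S s)
    (i : ip r s = 0) (d : F) : cm a (X e s d) = X e (ad r s) (k * c * d) := by
  obtain ⟨c', h1, h2⟩ := h.tc r hr a ha
  rw [h.X_inj hr.1 (mul_right_cancel (hc.symm.trans ((sig_iff h.b).1 h1)))]
  exact h2 s hs i d

theorem fix' (hr : S r) (ha : a ∈ A r) (i : MulAut.conj t a = a) : ∃ c, a = X e r c := by
  obtain ⟨u, hu, rfl⟩ := h.fix r hr a ha (mem_Cz.2 (mul_inv_eq_iff_eq_mul.1 i))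
  obtain ⟨c, rfl⟩ := (mem_Z hr.1).1 hu
  exact ⟨c, rfl⟩

theorem diff (hr : S r) (ha : a ∈ A r) (hb : b ∈ A r) (r1 : MulAut.conj t a = X e r c * a)
    (r2 : MulAut.conj t b = X e r c * b) : ∃ d, a = X e r d * b :=
  (h.fix' hr (mul_mem ha hb) (by
    rw [map_mul, r1, r2, mul_assoc, ← mul_assoc a, (h.ab hr ha (h.xA hr c)).eq,
      ← mul_assoc, ← mul_assoc, X_sq hr.1, one_mul])).imp fun d i => by
    rw [← i, mul_assoc, h.sq r hr b hb, mul_one]

theorem inf (hr : S r) (hs : S s) (ne : r ≠ s) (ha : a ∈ A r) (ha' : a ∈ A s) : a = 1 := by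
  have key : ∀ {c d : F}, X e r c = X e s d → c = 0 := fun i => by
    by_contra hc
    exact ne (x_ne hr.1 hs.1 hc (h.b.inj i))
  obtain ⟨c, r1⟩ := h.sg hr ha
  obtain ⟨d, r2⟩ := h.sg hs ha'
  obtain rfl := key (mul_right_cancel (r1.symm.trans r2))
  rw [X_zero hr.1, one_mul] at r1
  obtain ⟨c, r3⟩ := h.fix' hr ha r1
  obtain ⟨d, r4⟩ := h.fix' hs ha' r1
  rw [r3, key (r3.symm.trans r4), X_zero hr.1]

theorem nA' {w : List ℕ} (hw : Wd w) (hr : S r) : cjs (e (nW F w)) (A r) = A (act w r) :=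
  h.eqv _ (mem_NW.2 ⟨w, hw, rfl⟩) r _ hr (S_act hw hr) (cjs_Z hw hr.1)

theorem nA {w : List ℕ} (hw : Wd w) (hr : S r) (ha : a ∈ A r) : κ e (nW F w) a ∈ A (act w r) :=
  h.nA' hw hr ▸ mem_map_of_mem _ ha

theorem nA_inv {w : List ℕ} (hw : Wd w) (hr : S r) (ha : a ∈ A (act w r)) :
    κ e (nW F w)⁻¹ a ∈ A r := by
  rw [← h.nA' hw hr] at ha
  obtain ⟨b, hb, rfl⟩ := ha
  have : κ e (nW F w)⁻¹ (κ e (nW F w) b) = b := by rw [← κ_mul, inv_mul_cancel]; simp
  exact this.symm ▸ hb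

theorem hA (hr : S r) (hs : s < 48) {l : F} (hl : l ≠ 0) (ha : a ∈ A r) : κ e (SF.h F s l) a ∈ A r :=
  (mem_normalizer_iff.1 (h.tor r hr s hs l hl) a).1 ha

theorem hA_inv (hr : S r) (hs : s < 48) {l : F} (hl : l ≠ 0) (ha : a ∈ A r) :
    κ e (SF.h F s l)⁻¹ a ∈ A r := by
  have := (mem_normalizer_iff.1 (inv_mem (h.tor r hr s hs l hl)) a).1 ha
  rwa [← map_inv] at this

/-- A diagonal element fixing `X_r` fixes `A r`. -/
theorem torus (hr : S r) {g : XF F} (hg : g ∈ DS F) (ha : a ∈ A r) (h1 : κ e g a ∈ A r)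
    (h2 : ∀ c, κ e g (X e r c) = X e r c) : κ e g a = a := by
  obtain ⟨c, i⟩ := h.sg hr ha
  obtain ⟨d, i'⟩ := h.diff hr h1 ha (by rw [sig_κ h.b, i, map_mul, h2]) i
  obtain ⟨m, hm⟩ := DS_pow hg
  have : Commute (e (g * g)) a := mul_inv_eq_iff_eq_mul.1 (by
    change κ e (g * g) a = a
    rw [κ_mul, i', map_mul, i', h2, ← mul_assoc, X_sq hr.1, one_mul])
  rw [hm]
  exact κ_of_comm (map_pow e _ m ▸ this.pow_left m)

theorem κx (hr : S r) (ha : a ∈ A r) (g : XF F) : κ e g a = a * cm a (e g) := by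
  rw [cm, h.inv hr ha, ← mul_assoc, ← mul_assoc, ← mul_assoc, h.sq r hr a ha, one_mul]; rfl

/-- The short reflection `n₂₇` on `A 44`. -/
theorem om (ha : a ∈ A 44) (hc : MulAut.conj t a = X e 44 c * a) :
    κ e (n F 27) a = X e 44 (k * c) * a := by
  have e1 : κ e (x F 27 1) a = a * X e 45 (k * c) := by
    rw [h.κx s44 ha, h.tc' s44 ha hc (by decide +kernel) (by decide +kernel), mul_one]; rfl
  have e2 : κ e (x F 20 1) a = a * X e 43 (k * c) := by
    rw [h.κx s44 ha, h.tc' s44 ha hc (by decide +kernel) (by decide +kernel), mul_one]; rfl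
  have e3 : x F 20 1 * x F 45 (k * c) * (x F 20 1)⁻¹ =
      x F 43 (k * c) * (x F 44 (k * c) * x F 45 (k * c)) := by
    rw [← mul_assoc, ← c0' 44 43, mul_inv_eq_iff_eq_mul, ← mul_inv_eq_iff_eq_mul,
      ← mul_inv_eq_iff_eq_mul]
    simpa using c2' 20 45 44 43 1 (k * c)
  rw [n_eq (by decide), κ_mul, κ_mul, e1, map_mul, e2, κ_e, e3, map_mul e, mul_assoc, ← mul_assoc (X e 43 _),
    X_sq (by decide), one_mul, map_mul, e1, κ_e, ← conj_mul, c0' 27 44, c0' 27 45, mul_inv_cancel_right,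
    mul_inv_cancel_right, ← c0' 45 44, map_mul e, mul_assoc, ← mul_assoc (X e 45 _), X_sq (by decide),
    one_mul, (h.ab s44 ha (h.xA s44 _)).eq]

theorem n_fix (hr : S r) (hs : s < 48) (h1 : s ∈ lY r) (h2 : 47 - s ∈ lY r) (ha : a ∈ A r) :
    κ e (n F s) a = a := by
  rw [n_eq hs, κ_mul, κ_mul, κ_of_comm (h.cx hr h1 ha 1), κ_of_comm (h.cx hr h2 ha 1),
    κ_of_comm (h.cx hr h1 ha 1)]

theorem stabw {w : List ℕ} (hw : ∀ v ∈ w, v ∈ [24, 25, 27]) (ha : a ∈ A 44)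
    (hc : MulAut.conj t a = X e 44 c * a) :
    κ e (nW F w) a = X e 44 ((w.countP sh : ℕ) * (k * c)) * a := by
  induction w with
  | nil => simp [X_zero (e := e) s44.1]
  | cons s w ih =>
    rw [nW_cons, κ_mul, ih fun v hv => hw v (List.mem_cons_of_mem _ hv), map_mul, List.countP_cons]
    have hs := hw s List.mem_cons_self
    simp only [List.mem_cons, List.not_mem_nil, or_false] at hs
    rcases hs with rfl | rfl | rfl
    · rw [κ_n (by decide) (by decide), h.n_fix s44 (by decide) (by decide +kernel)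
        (by decide +kernel) ha, if_neg (by decide +kernel)]; rfl
    · rw [κ_n (by decide) (by decide), h.n_fix s44 (by decide) (by decide +kernel)
        (by decide +kernel) ha, if_neg (by decide +kernel)]; rfl
    · rw [κ_n (by decide) (by decide), h.om ha hc, if_pos (by decide +kernel), ← mul_assoc,
        show rf 27 44 = 44 by decide +kernel, X_add s44.1, Nat.cast_succ, add_one_mul]

/-- The commutator with `x_s(1)` is the conjugate by `n_s`. -/
theorem R1 (hr : S r) (hs : S s) (i : ip r s = -2) (ha : a ∈ A r) :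
    cm a (X e s 1) = κ e (n F s) a := by
  obtain ⟨⟨k1, k2, -, -, k3⟩, ⟨k4, k5, k6, k7⟩, ⟨k8, k9⟩, -⟩ := t120 r hr.1 s hs.1 hr.2 hs.2 i
  have hv := h.neg r s hr hs i a ha 1
  have hv' := h.neg _ _ k1 k4 k5 _ hv 1
  rw [k6] at hv'
  have hn : κ e (n F s) a ∈ A (ad r s) := by
    simpa [k2] using h.nA (w := [s]) (by simp [Wd, hs.1]) hr ha
  have e1 : κ e (x F s 1) (κ e (n F s) a) = κ e (n F s) a :=
    κ_of_comm (h.cx k1 (mem_lY.2 ⟨hs.1, .inl (by rw [ip_comm]; omega)⟩) hn 1)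
  conv_lhs at e1 => rw [← κ_mul, n_eq hs.1, ← mul_assoc, ← mul_assoc, x_sq hs.1, one_mul, κ_mul,
    h.κx hr ha, map_mul, κ_of_comm (h.cx hr k7 ha 1), h.κx k1 hv,
    (h.c2 hr k1 k8 hv' hv).symm.eq, ← mul_assoc]
  rw [← e1, h.inf hr k1 k3 (mul_mem ha hv') (by
    rw [eq_mul_inv_of_mul_eq e1]; exact mul_mem hn (inv_mem hv)), one_mul]

end E

end H65.SF3
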