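/- STD-R (S3323): all jobs but W2. -/
import Cfsg.Agent.H65.SRAsm
import Cfsg.Agent.H65.SRSM
import Cfsg.Agent.H17.SRF3
import Cfsg.Agent.H17.SRLA
import Cfsg.Agent.H23.SRS1
import Cfsg.Agent.H23.SRS2
import Cfsg.Agent.H37.SRLT
import Cfsg.Agent.H37.SRSemi
import Cfsg.Agent.H42.SREnd
import Cfsg.Agent.H42.SRLiftA
import Cfsg.Agent.H42.SRLiftC
import Cfsg.Agent.H52.SRF2
import Cfsg.Agent.H71.SRCT
import Cfsg.Agent.H71.SRLB2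
import Cfsg.Agent.H76.SRW1

set_option autoImplicit false

universe u v

namespace H65.SR

theorem jobs_of (w2 : JobW2.{u, v}) : Jobs.{u, v} :=
  ⟨H23.SRS.jobS1, H71.SRLB.jobLB, H37.SR.jobSemi, H17.SRL.jobLA, H23.SRS.jobS2a, H23.SRS.jobS2b, H37.SR.jobLT,
    jobA1, jobA1c, jobA2, jobA3, jobV1, jobV2, jobQ1, jobQ2, jobU1, jobU2, jobRa, jobRb, jobRc, jobRP, jobDW, jobRT,
    jobSM, H76.SRW1.jobW1, w2, H52.SR.jobF2, H17.SRF.jobF3, H71.SRCT.jobCT, H17.SRF.jobF5, H42.SR.jobLiftA,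
    H42.SR.jobLiftB, H42.SR.jobLiftC, H42.SR.jobEnd⟩

end H65.SR
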