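/- Symplectic frames: fixers of basis vectors, Eichler transformations, transitivity. -/
import Cfsg.Agent.Base

set_option autoImplicit false
set_option linter.unusedSectionVars false

namespace H65.SpA

variable {F V G : Type*} [Field F] [AddCommGroup V] [Module F V] [Group G] [DistribMulAction G V]
  [SMulCommClass G F V]

/-- Eichler transformations -/
def IsE (ω : LinearMap.BilinForm F V) (g : G) (a v : V) (c : F) : Prop :=
  ∀ x, g • x = x + ω v x • a + ω a x • v + (c * ω a x) • a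

/-- a group of isometries of an alternating form with a symplectic basis -/
structure Frm (G : Type*) [Group G] [DistribMulAction G V] (ω : LinearMap.BilinForm F V) (n : ℕ)
    (e f : ℕ → V) : Prop where
  alt : ∀ x, ω x x = 0
  ee : ∀ i j, ω (e i) (e j) = 0
  ff : ∀ i j, ω (f i) (f j) = 0
  ef_ne : ∀ i j, i ≠ j → ω (e i) (f j) = 0
  ef : ∀ i, i < n → ω (e i) (f i) = 1
  exp : ∀ y, y = ∑ l ∈ Finset.range n, (ω (e l) y • f l - ω (f l) y • e l)
  inv : ∀ (g : G) x y, ω (g • x) (g • y) = ω x y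
  ext : ∀ g g' : G, (∀ x : V, g • x = g' • x) → g = g'
  eich : ∀ a v c, ω a v = 0 → ∃ g : G, IsE ω g a v c

/-- fixers of basis vectors -/
def Fx (G : Type*) [Group G] [DistribMulAction G V] (e f : ℕ → V) (A B : ℕ → Prop) : Subgroup G where
  carrier := {g | (∀ l, A l → g • e l = e l) ∧ ∀ l, B l → g • f l = f l}
  mul_mem' ha hb := ⟨fun l h => by rw [mul_smul, hb.1 l h, ha.1 l h],
    fun l h => by rw [mul_smul, hb.2 l h, ha.2 l h]⟩
  one_mem' := ⟨fun _ _ => one_smul _ _, fun _ _ => one_smul _ _⟩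
  inv_mem' ha := ⟨fun l h => by rw [inv_smul_eq_iff, ha.1 l h], fun l h => by
    rw [inv_smul_eq_iff, ha.2 l h]⟩

/-- the vectors orthogonal to some basis vectors -/
def Pp (ω : LinearMap.BilinForm F V) (e f : ℕ → V) (A B : ℕ → Prop) : Submodule F V where
  carrier := {x | (∀ l, A l → ω (e l) x = 0) ∧ ∀ l, B l → ω (f l) x = 0}
  add_mem' ha hb := ⟨fun l h => by simp [ha.1 l h, hb.1 l h], fun l h => by simp [ha.2 l h, hb.2 l h]⟩
  zero_mem' := by simp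
  smul_mem' c x hx := ⟨fun l h => by simp [hx.1 l h], fun l h => by simp [hx.2 l h]⟩

variable {ω : LinearMap.BilinForm F V} {n : ℕ} {e f : ℕ → V} {A B A' B' : ℕ → Prop}

theorem Fx_mono (h1 : ∀ l, A' l → A l) (h2 : ∀ l, B' l → B l) : Fx G e f A B ≤ Fx G e f A' B' :=
  fun _ h => ⟨fun l hl => h.1 l (h1 l hl), fun l hl => h.2 l (h2 l hl)⟩

theorem Pp_mono (h1 : ∀ l, A' l → A l) (h2 : ∀ l, B' l → B l) : Pp ω e f A B ≤ Pp ω e f A' B' :=
  fun _ h => ⟨fun l hl => h.1 l (h1 l hl), fun l hl => h.2 l (h2 l hl)⟩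

theorem avoid2 {W : Submodule F V} {a b : V} (ha : ∃ z ∈ W, ω a z ≠ 0) (hb : ∃ z ∈ W, ω b z ≠ 0) :
    ∃ z ∈ W, ω a z ≠ 0 ∧ ω b z ≠ 0 := by
  obtain ⟨x, hx, ha⟩ := ha
  obtain ⟨y, hy, hb⟩ := hb
  by_cases h1 : ω b x = 0
  · by_cases h2 : ω a y = 0
    · exact ⟨x + y, W.add_mem hx hy, by simpa [h2], by simpa [h1]⟩
    · exact ⟨y, hy, h2, hb⟩
  · exact ⟨x, hx, ha, h1⟩

theorem avoid3 (hF : ∃ t : F, t ≠ 0 ∧ t ≠ 1) {W : Submodule F V} {a b c : V}
    (ha : ∃ z ∈ W, ω a z ≠ 0) (hb : ∃ z ∈ W, ω b z ≠ 0) (hc : ∃ z ∈ W, ω c z ≠ 0) :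
    ∃ z ∈ W, ω a z ≠ 0 ∧ ω b z ≠ 0 ∧ ω c z ≠ 0 := by
  obtain ⟨x, hx, h1, h2⟩ := avoid2 ha hb
  by_cases h3 : ω c x = 0
  swap
  · exact ⟨x, hx, h1, h2, h3⟩
  obtain ⟨y, hy, hc⟩ := hc
  obtain ⟨t, t0, t1⟩ := hF
  by_contra! hh
  have key : ∀ s : F, ω a y + s * ω a x = 0 ∨ ω b y + s * ω b x = 0 := fun s => by
    by_contra! h
    have := hh _ (W.add_mem hy (W.smul_mem s hx)) (by simpa using h.1) (by simpa using h.2)
    exact hc (by simpa [h3] using this)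
  have k0 := key 0
  have k1 := key 1
  have kt := key t
  grind

variable (fr : Frm G ω n e f)
include fr

theorem Frm.swap (x y : V) : ω x y = -ω y x := by
  have := fr.alt (x + y)
  simp only [map_add, LinearMap.add_apply, fr.alt] at this
  linear_combination this

theorem Frm.zero_comm {x y : V} (h : ω x y = 0) : ω y x = 0 := by rw [fr.swap, h, neg_zero]

theorem Frm.ne_comm {x y : V} (h : ω x y ≠ 0) : ω y x ≠ 0 := fun h' => h (fr.zero_comm h')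

theorem Frm.inv_left (g : G) (x y : V) : ω (g⁻¹ • x) y = ω x (g • y) := by
  rw [← fr.inv g, smul_inv_smul]

theorem Frm.inv_right (g : G) (x y : V) : ω x (g⁻¹ • y) = ω (g • x) y := by
  rw [← fr.inv g, smul_inv_smul]

theorem Frm.e_ne {i : ℕ} (hi : i < n) : e i ≠ 0 := fun h => by simpa [h] using fr.ef i hi

theorem Frm.e_mem {l : ℕ} (h : ¬ B l) : e l ∈ Pp ω e f A B :=
  ⟨fun _ _ => fr.ee _ _, fun k hk => fr.zero_comm (fr.ef_ne _ _ fun e => h (e ▸ hk))⟩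

theorem Frm.f_mem {l : ℕ} (h : ¬ A l) : f l ∈ Pp ω e f A B :=
  ⟨fun k hk => fr.ef_ne _ _ fun e => h (e ▸ hk), fun _ _ => fr.ff _ _⟩

theorem Frm.smul_mem {g : G} (hg : g ∈ Fx G e f A B) {x : V} (hx : x ∈ Pp ω e f A B) :
    g • x ∈ Pp ω e f A B :=
  ⟨fun l h => by rw [← hg.1 l h, fr.inv, hx.1 l h], fun l h => by rw [← hg.2 l h, fr.inv, hx.2 l h]⟩

theorem Frm.sub_mem {g : G} (hg : g ∈ Fx G e f A B) (x : V) : g • x - x ∈ Pp ω e f A B :=
  ⟨fun l h => by rw [map_sub, ← fr.inv g _ x, hg.1 l h, sub_self],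
    fun l h => by rw [map_sub, ← fr.inv g _ x, hg.2 l h, sub_self]⟩

theorem Frm.fix {g : G} (hg : g ∈ Fx G e f A' B') {x : V} (hx : x ∈ Pp ω e f A B)
    (h1 : ∀ l, A l ∨ B' l) (h2 : ∀ l, B l ∨ A' l) : g • x = x := by
  rw [fr.exp x, Finset.smul_sum]
  refine Finset.sum_congr rfl fun l _ => ?_
  rw [smul_sub, smul_comm g, smul_comm g]
  congr 1
  · rcases h1 l with h | h
    exacts [by simp [hx.1 l h], by rw [hg.2 l h]]
  · rcases h2 l with h | h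
    exacts [by simp [hx.2 l h], by rw [hg.1 l h]]

theorem Frm.comm {g g' : G} (hg : g ∈ Fx G e f A B) (hg' : g' ∈ Fx G e f A' B')
    (h1 : ∀ l, A l ∨ B' l) (h2 : ∀ l, B l ∨ A' l) : g * g' = g' * g := fr.ext _ _ fun x => by
  have e1 := fr.fix hg' (fr.sub_mem hg x) h1 h2
  have e2 := fr.fix hg (fr.sub_mem hg' x) (fun l => (h2 l).symm) fun l => (h1 l).symm
  rw [smul_sub, sub_eq_iff_eq_add] at e1 e2
  rw [mul_smul, mul_smul, e1, e2]
  abel

theorem Frm.eq_zero {x : V} (h1 : ∀ l, ω (e l) x = 0) (h2 : ∀ l, ω (f l) x = 0) : x = 0 := by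
  rw [fr.exp x]; simp [h1, h2]

theorem Frm.nd {x : V} (hx : x ∈ Pp ω e f A A) (h0 : x ≠ 0) : ∃ z ∈ Pp ω e f A A, ω x z ≠ 0 := by
  by_contra! hh
  refine h0 (fr.eq_zero (fun l => ?_) fun l => ?_) <;> by_cases h : A l
  exacts [hx.1 l h, fr.zero_comm (hh _ (fr.e_mem h)), hx.2 l h, fr.zero_comm (hh _ (fr.f_mem h))]

theorem IsE.mem {g : G} {a v : V} {c : F} (h : IsE ω g a v c) (ha : a ∈ Pp ω e f A B)
    (hv : v ∈ Pp ω e f A B) : g ∈ Fx G e f A B :=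
  ⟨fun l hl => by simp [h (e l), fr.zero_comm (ha.1 l hl), fr.zero_comm (hv.1 l hl)],
    fun l hl => by simp [h (f l), fr.zero_comm (ha.2 l hl), fr.zero_comm (hv.2 l hl)]⟩

theorem IsE.mul {g g' : G} {a v w : V} {c d : F} (h : IsE ω g a v c) (h' : IsE ω g' a w d)
    (hv : ω a v = 0) (hw : ω a w = 0) : IsE ω (g * g') a (v + w) (c + d + ω v w) := fun x => by
  rw [mul_smul, h', h]
  simp only [map_add, map_smul, fr.alt, hw, fr.zero_comm hv, LinearMap.add_apply, smul_eq_mul]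
  module

theorem IsE.conj {g : G} {a v : V} {c : F} (h : IsE ω g a v c) {t : G} (ht : t • a = a) :
    IsE ω (t * g * t⁻¹) a (t • v) c := fun x => by
  rw [mul_smul, mul_smul, h]
  simp only [smul_add, smul_comm t, fr.inv_right, ht, smul_inv_smul]

theorem IsE.unique {g g' : G} {a v : V} {c : F} (h : IsE ω g a v c) (h' : IsE ω g' a v c) : g = g' :=
  fr.ext _ _ fun x => (h x).trans (h' x).symm

theorem Frm.move {v w : V} (hv : v ∈ Pp ω e f A B) (hw : w ∈ Pp ω e f A B) (h : ω w v ≠ 0) :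
    ∃ g ∈ Fx G e f A B, g • v = w := by
  obtain ⟨g, hg⟩ := fr.eich (w - v) 0 (ω w v)⁻¹ (by simp)
  exact ⟨g, hg.mem fr (Submodule.sub_mem _ hw hv) (zero_mem _), by simp [hg v, fr.alt, h]⟩

theorem Frm.trans1 {v w : V} (hv : v ∈ Pp ω e f A A) (hw : w ∈ Pp ω e f A A) (v0 : v ≠ 0)
    (w0 : w ≠ 0) : ∃ g ∈ Fx G e f A A, g • v = w := by
  obtain ⟨z, hz, h1, h2⟩ := avoid2 (fr.nd hv v0) (fr.nd hw w0)
  obtain ⟨g, hg, e1⟩ := fr.move hv hz (fr.ne_comm h1)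
  obtain ⟨g', hg', e2⟩ := fr.move hz hw h2
  exact ⟨g' * g, mul_mem hg' hg, by rw [mul_smul, e1, e2]⟩

/-- removing the components in one hyperbolic plane -/
theorem Frm.split {k : ℕ} (hk : k < n) {x : V} (hx : x ∈ Pp ω e f A B) (hA : ∀ l, A' l → A l ∨ l = k) (hB : ∀ l, B' l → B l ∨ l = k) :
    x - ω (e k) x • f k + ω (f k) x • e k ∈ Pp ω e f A' B' := by
  refine ⟨fun l hl => ?_, fun l hl => ?_⟩ <;> by_cases h : l = k
  · simp [h, fr.ee, fr.ef k hk]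
  · simp [hx.1 l ((hA l hl).resolve_right h), fr.ee, fr.ef_ne _ _ h]
  · simp [h, fr.ff, fr.swap (f k) (e k), fr.ef k hk]
  · simp [hx.2 l ((hB l hl).resolve_right h), fr.ff, fr.zero_comm (fr.ef_ne _ _ (Ne.symm h))]

theorem Frm.trans2 {k : ℕ} (hk : k < n) (hA : ¬ A k) {v w : V} (hv : v ∈ Pp ω e f A A)
    (hw : w ∈ Pp ω e f A A) (h : ω v w ≠ 0) : ∃ g ∈ Fx G e f A A,
      g • v ∈ Pp ω e f (· ≠ k) (· ≠ k) ∧ g • w ∈ Pp ω e f (· ≠ k) (· ≠ k) := by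
  obtain ⟨g, hg, e1⟩ := fr.trans1 hv (fr.e_mem hA) (fun e => h (by simp [e])) (fr.e_ne hk)
  have h1 : ω (e k) (g • w) ≠ 0 := by rwa [← e1, fr.inv]
  have h2 := fr.smul_mem hg hw
  generalize hx : g • w = x at h1 h2
  have h3 := fr.split (A' := fun l => A l ∨ l = k) (B' := fun l => A l ∨ l = k) hk h2
    (fun _ h => h) fun _ h => h
  set z := x - ω (e k) x • f k + ω (f k) x • e k with hz
  have z1 := h3.1 k (Or.inr rfl)
  have z2 := h3.2 k (Or.inr rfl)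
  obtain ⟨t, ht⟩ := fr.eich (e k) (-(ω (e k) x)⁻¹ • z) 0 (by simp [z1])
  refine ⟨t * g, mul_mem (ht.mem fr (fr.e_mem hA) (Submodule.smul_mem _ _
    (Pp_mono (fun _ => Or.inl) (fun _ => Or.inl) h3))) hg, ?_, ?_⟩
  · rw [mul_smul, e1, ht]
    simpa [fr.alt, fr.zero_comm z1] using fr.e_mem (B := (· ≠ k)) (by simp)
  · rw [mul_smul, hx, ht, smul_smul, mul_neg, mul_inv_cancel₀ h1, neg_one_smul, zero_mul, zero_smul,
      add_zero, hz]
    convert add_mem (Submodule.smul_mem _ (ω (-(ω (e k) x)⁻¹ • z) x - ω (f k) x)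
      (fr.e_mem (A := (· ≠ k)) (B := (· ≠ k)) (l := k) (by simp)))
      (Submodule.smul_mem _ (ω (e k) x) (fr.f_mem (l := k) (by simp))) using 1
    module

end H65.SpA
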