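/- The symplectic group as the universal completion of the slim amalgam. -/
import Cfsg.Agent.H65.SpGeo

set_option autoImplicit false
set_option linter.unusedSectionVars false

namespace H65.SpA

variable {F V G : Type*} [Field F] [AddCommGroup V] [Module F V] [Group G] [DistribMulAction G V]
  [SMulCommClass G F V] {ω : LinearMap.BilinForm F V} {n : ℕ} {e f : ℕ → V} {A B : ℕ → Prop}
  {K : Type*} [Group K] {π : K →* G}

/-- injectivity on a subgroup -/
def Inj (π : K →* G) (Y : Subgroup K) : Prop := ∀ y ∈ Y, π y = 1 → y = 1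

/-- bijective lifts -/
structure Lf (π : K →* G) (Y : Subgroup K) (X : Subgroup G) : Prop where
  map : ∀ y ∈ Y, π y ∈ X
  surj : ∀ a ∈ X, ∃ y ∈ Y, π y = a
  inj : Inj π Y

theorem Inj.eq {Y : Subgroup K} (h : Inj π Y) {x y : K} (hx : x ∈ Y) (hy : y ∈ Y) (e : π x = π y) :
    x = y := by
  rw [← mul_inv_eq_one]
  exact h _ (mul_mem hx (inv_mem hy)) (by simp [e])

theorem Inj.mem {Y Y' : Subgroup K} {X : Subgroup G} (h : Inj π Y) (hY : Y' ≤ Y) (L : Lf π Y' X)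
    {y : K} (hy : y ∈ Y) (ha : π y ∈ X) : y ∈ Y' := by
  obtain ⟨x, hx, e⟩ := L.surj _ ha
  rwa [← h.eq (hY hx) hy e]

theorem Inj.comm {Y Y' : Subgroup K} (h : Inj π (Y ⊔ Y')) {x y : K} (hx : x ∈ Y) (hy : y ∈ Y')
    (e : π x * π y = π y * π x) : x * y = y * x :=
  h.eq (Subgroup.mul_mem_sup hx hy) (mul_mem (Subgroup.mem_sup_right hy) (Subgroup.mem_sup_left hx))
    (by simpa using e)

variable (G e f) in
/-- the symplectic group on the first `m` planes -/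
abbrev Lg (m : ℕ) : Subgroup G := Fx G e f (m ≤ ·) (m ≤ ·)
variable (G e f) in
/-- the stabiliser of a vector -/
abbrev Pg (m : ℕ) : Subgroup G := Fx G e f (m ≤ ·) (m < ·)
variable (G e f) in
/-- the groups `SL₂` -/
abbrev Sg (j : ℕ) : Subgroup G := Fx G e f (· ≠ j) (· ≠ j)
variable (G e f) in
/-- the abelian groups -/
abbrev Mg (k : ℕ) : Subgroup G := Fx G e f (fun _ => True) fun l => l ≠ k ∧ l ≠ k + 1

variable (fr : Frm G ω n e f)
include fr

theorem Frm.dec {m : ℕ} (hm : m < n) {g : G} (hg : g ∈ Fx G e f A B) (hA : A m) :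
    ∃ v ∈ Pp ω e f A fun l => B l ∨ l = m, ∃ c, ∀ t : G, IsE ω t (e m) v c → t • f m = g • f m := by
  have h1 := fr.sub_mem hg (f m)
  have h2 := fr.split (A' := A) (B' := fun l => B l ∨ l = m) hm h1 (fun _ => Or.inl) fun _ h => h
  refine ⟨_, h2, -ω (f m) (g • f m - f m), fun t ht => ?_⟩
  rw [ht, fr.zero_comm (h2.2 m (Or.inr rfl)), fr.ef m hm, h1.1 m hA]
  generalize g • f m = x
  module

theorem Frm.dec2 {m : ℕ} (hm : m < n) {v : V} (hv : v ∈ Pp ω e f A B) (h : ω (e m) v ≠ 0) :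
    ∃ s ∈ Sg G e f m, ∃ t : G, ∃ w ∈ Pp ω e f (fun l => A l ∨ l = m) fun l => B l ∨ l = m,
      IsE ω t (e m) w 0 ∧ t • s • e m = v ∧ ω (e m) (s • e m) ≠ 0 := by
  have h1 := fr.split (A' := fun l => A l ∨ l = m) (B' := fun l => B l ∨ l = m) hm hv (fun _ h => h)
    fun _ h => h
  set z := v - ω (e m) v • f m + ω (f m) v • e m with hz
  have z1 := h1.1 m (Or.inr rfl)
  have z2 := h1.2 m (Or.inr rfl)
  have h2 : ω (e m) (ω (e m) v • f m - ω (f m) v • e m) = ω (e m) v := by simp [fr.ee, fr.ef m hm]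
  obtain ⟨s, hs, e1⟩ := fr.trans1 (A := (· ≠ m)) (fr.e_mem (l := m) (by simp))
    (Submodule.sub_mem _ (Submodule.smul_mem _ (ω (e m) v) (fr.f_mem (l := m) (by simp)))
      (Submodule.smul_mem _ (ω (f m) v) (fr.e_mem (l := m) (by simp)))) (fr.e_ne hm)
    fun e => h (by rw [← h2, e, map_zero])
  obtain ⟨t, ht⟩ := fr.eich (e m) ((ω (e m) v)⁻¹ • z) 0 (by simp [z1])
  refine ⟨s, hs, t, _, Submodule.smul_mem _ _ h1, ht, ?_, by rwa [e1, h2]⟩
  rw [e1, ht, h2, smul_smul, mul_inv_cancel₀ h]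
  simp only [map_sub, map_smul, LinearMap.smul_apply, fr.zero_comm z1, fr.zero_comm z2]
  rw [hz]
  module

/-- from the symplectic group to the stabiliser of a vector in the next one -/
theorem stepA (hF : ∃ t : F, t ≠ 0 ∧ t ≠ 1) {k : ℕ} (hk : k + 1 < n) {L M S : Subgroup K}
    (hL : Lf π L (Lg G e f (k + 1))) (hM : Lf π M (Mg G e f k)) (hS : Lf π S (Sg G e f k))
    (hSL : S ≤ L) (hMS : Inj π (M ⊔ S)) (hz : ∀ g ∈ L, ∀ y ∈ M, π y • f k = f k → g * y = y * g)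
    (hC : ∀ g ∈ L, π g • e k = e k → ∀ y ∈ M, g * y = y * g) :
    Lf π (L ⊔ M) (Pg G e f (k + 1)) ∧ ∀ p ∈ L ⊔ M, ∃ g ∈ L, ∃ y ∈ M, ∃ l ∈ L, p = g * y * g⁻¹ * l := by
  let W := Pp ω e f (k + 1 ≤ ·) (k + 1 ≤ ·)
  let Pl := Pp ω e f (· ≠ k) (· ≠ k)
  have PW : Pl ≤ W := Pp_mono (fun _ _ => by omega) fun _ _ => by omega
  have uP : e k ∈ Pl := fr.e_mem (by simp)
  have u0 := fr.e_ne (show k < n by omega)
  have aW : ∀ v ∈ W, ω (e (k + 1)) v = 0 := fun v hv => hv.1 _ le_rfl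
  have La : ∀ g ∈ L, π g • e (k + 1) = e (k + 1) := fun g hg => (hL.map g hg).1 _ le_rfl
  have LW : ∀ g ∈ L, ∀ v ∈ W, π g • v ∈ W := fun g hg v hv => fr.smul_mem (hL.map g hg) hv
  have exM : ∀ t c : F, ∃ y ∈ M, IsE ω (π y) (e (k + 1)) (t • e k) c := fun t c => by
    obtain ⟨g, hg⟩ := fr.eich (e (k + 1)) (t • e k) c (by simp [fr.ee])
    obtain ⟨y, hy, rfl⟩ := hM.surj g (hg.mem fr (fr.e_mem (by simp))
      (Submodule.smul_mem _ _ (fr.e_mem (by simp))))
    exact ⟨y, hy, hg⟩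
  let R : V → F → K → Prop := fun v c x => ∃ g ∈ L, ∃ y ∈ M, ∃ t : F, (t = 0 ∨ t = 1) ∧
    IsE ω (π y) (e (k + 1)) (t • e k) c ∧ π g • t • e k = v ∧ x = g * y * g⁻¹
  have RE : ∀ {v c x}, R v c x → IsE ω (π x) (e (k + 1)) v c ∧ v ∈ W := by
    rintro _ c _ ⟨g, hg, y, -, t, -, h, rfl, rfl⟩
    exact ⟨by simpa using h.conj fr (La g hg), LW g hg _ (W.smul_mem _ (PW uP))⟩
  have uniq : ∀ {v c x x'}, R v c x → R v c x' → x = x' := by
    rintro v c _ _ ⟨g, hg, y, hy, t, ht, h, e1, rfl⟩ ⟨g', hg', y', hy', t', ht', h', e2, rfl⟩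
    obtain rfl : t = t' := by
      have := e1.trans e2.symm
      rcases ht with rfl | rfl <;> rcases ht' with rfl | rfl
      exacts [rfl, (u0 (by simpa [smul_eq_zero_iff_eq] using this.symm)).elim,
        (u0 (by simpa [smul_eq_zero_iff_eq] using this)).elim, rfl]
    obtain rfl := hM.inj.eq hy hy' (h.unique fr h')
    have : g'⁻¹ * g * y = y * (g'⁻¹ * g) := by
      rcases ht with rfl | rfl
      · exact hz _ (mul_mem (inv_mem hg') hg) y hy (by simp [h (f k), fr.ef_ne])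
      · refine hC _ (mul_mem (inv_mem hg') hg) ?_ y hy
        rw [one_smul] at e1 e2
        rw [map_mul, mul_smul, e1, map_inv, inv_smul_eq_iff, e2]
    calc _ = g' * (g'⁻¹ * g * y) * g⁻¹ := by group
      _ = _ := by rw [this]; group
  have exR : ∀ w ∈ Pl, ∀ c, ∃ y ∈ M ⊔ S, ∀ g ∈ L, R (π g • w) c (g * y * g⁻¹) := fun w hw c => by
    by_cases h0 : w = 0
    · obtain ⟨y, hy, h⟩ := exM 0 c
      exact ⟨y, Subgroup.mem_sup_left hy, fun g hg => ⟨g, hg, y, hy, 0, Or.inl rfl, h, by simp [h0], rfl⟩⟩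
    · obtain ⟨y, hy, h⟩ := exM 1 c
      obtain ⟨s, hs, e1⟩ := fr.trans1 uP hw u0 h0
      obtain ⟨s, hs', rfl⟩ := hS.surj s hs
      exact ⟨s * y * s⁻¹, mul_mem (mul_mem (Subgroup.mem_sup_right hs') (Subgroup.mem_sup_left hy))
        (inv_mem (Subgroup.mem_sup_right hs')), fun g hg => ⟨g * s, mul_mem hg (hSL hs'), y, hy, 1,
          Or.inr rfl, h, by rw [map_mul, mul_smul, one_smul, e1], by group⟩⟩
  have relR : ∀ w ∈ Pl, ∀ c, ∀ y ∈ M ⊔ S, IsE ω (π y) (e (k + 1)) w c →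
      ∀ g ∈ L, R (π g • w) c (g * y * g⁻¹) := fun w hw c y hy h => by
    obtain ⟨y', hy', h'⟩ := exR w hw c
    rwa [hMS.eq hy hy' (h.unique fr (by simpa using (RE (h' 1 (one_mem _))).1))]
  let Gd : V → V → Prop := fun v w => ∃ g ∈ L, ∃ v' ∈ Pl, ∃ w' ∈ Pl, π g • v' = v ∧ π g • w' = w
  have good : ∀ {v w c d x y}, Gd v w → R v c x → R w d y → R (v + w) (c + d + ω v w) (x * y) := by
    rintro _ _ c d x y ⟨g, hg, v, hv, w, hw, rfl, rfl⟩ hx hy
    obtain ⟨x', hx', h1⟩ := exR v hv c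
    obtain ⟨y', hy', h2⟩ := exR w hw d
    rw [uniq hx (h1 g hg), uniq hy (h2 g hg), fr.inv, ← smul_add,
      show g * x' * g⁻¹ * (g * y' * g⁻¹) = g * (x' * y') * g⁻¹ by group]
    refine relR _ (add_mem hv hw) _ _ (mul_mem hx' hy') ?_ g hg
    rw [map_mul]
    exact IsE.mul fr (by simpa using (RE (h1 1 (one_mem _))).1)
      (by simpa using (RE (h2 1 (one_mem _))).1) (aW v (PW hv)) (aW w (PW hw))
  have gd1 : ∀ v ∈ W, ∀ w ∈ W, ω v w ≠ 0 → Gd v w := fun v hv w hw h => by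
    obtain ⟨g, hg, h1, h2⟩ := fr.trans2 (k := k) (by omega) (by omega) hv hw h
    obtain ⟨g, hg', rfl⟩ := hL.surj g hg
    exact ⟨g⁻¹, inv_mem hg', _, h1, _, h2, by simp, by simp⟩
  have gd2 : ∀ v ∈ W, ∀ s t : F, Gd (s • v) (t • v) := fun v hv s t => by
    by_cases h0 : v = 0
    · exact ⟨1, one_mem _, 0, zero_mem _, 0, zero_mem _, by simp [h0], by simp [h0]⟩
    · obtain ⟨g, hg, e1⟩ := fr.trans1 (PW uP) hv u0 h0
      obtain ⟨g, hg', rfl⟩ := hL.surj g hg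
      exact ⟨g, hg', _, Pl.smul_mem s uP, _, Pl.smul_mem t uP, by rw [smul_comm, e1],
        by rw [smul_comm, e1]⟩
  have ex : ∀ v ∈ W, ∀ c, ∃ x, R v c x := fun v hv c => by
    obtain ⟨g, hg, w, hw, -, -, e1, -⟩ := gd2 v hv 1 1
    obtain ⟨y, -, h⟩ := exR w hw c
    exact ⟨_, by simpa [e1] using h g hg⟩
  have mul : ∀ {v w c d x y}, R v c x → R w d y → R (v + w) (c + d + ω v w) (x * y) := by
    intro v w c d x y hx hy
    have hv := (RE hx).2
    have hw := (RE hy).2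
    by_cases h1 : v = 0
    · exact good (by simpa [h1] using gd2 w hw 0 1) hx hy
    by_cases h2 : w = 0
    · exact good (by simpa [h2] using gd2 v hv 1 0) hx hy
    by_cases h3 : v + w = 0
    · exact good (by simpa [eq_neg_of_add_eq_zero_right h3] using gd2 v hv 1 (-1)) hx hy
    by_cases h4 : ω v w = 0
    swap
    · exact good (gd1 v hv w hw h4) hx hy
    obtain ⟨z, hz, z1, z2, z3⟩ := avoid3 hF (fr.nd hv h1) (fr.nd hw h2) (fr.nd (add_mem hv hw) h3)
    obtain ⟨y1, hy1⟩ := ex z hz 0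
    obtain ⟨y2, hy2⟩ := ex _ (W.sub_mem hw hz) (d - ω z w)
    have e1 := good (gd1 _ hz _ (W.sub_mem hw hz) (by simpa [fr.alt] using fr.ne_comm z2)) hy1 hy2
    rw [add_sub_cancel, show 0 + (d - ω z w) + ω z (w - z) = d by simp [fr.alt]] at e1
    have e2 := good (gd1 _ (add_mem hv hz) _ (W.sub_mem hw hz) fun e => z3 (by
      simp only [map_add, map_sub, LinearMap.add_apply, h4, fr.alt, fr.swap z w] at e ⊢
      linear_combination -e)) (good (gd1 v hv z hz z1) hx hy1) hy2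
    rw [uniq hy e1, ← mul_assoc]
    convert e2 using 1
    · abel
    · simp only [map_add, map_sub, LinearMap.add_apply, fr.alt]; ring
  have one : R 0 0 1 := by
    simpa using relR 0 (zero_mem _) 0 1 (one_mem _) (fun x => by simp) 1 (one_mem _)
  have conj : ∀ {v c x}, R v c x → ∀ l ∈ L, R (π l • v) c (l * x * l⁻¹) := by
    rintro _ c _ ⟨g, hg, y, hy, t, ht, h, rfl, rfl⟩ l hl
    exact ⟨l * g, mul_mem hl hg, y, hy, t, ht, h, by rw [map_mul, mul_smul], by group⟩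
  let T : Subgroup K :=
    { carrier := {p | ∃ v c x, R v c x ∧ ∃ l ∈ L, p = x * l}
      mul_mem' := by
        rintro _ _ ⟨v, c, x, hx, l, hl, rfl⟩ ⟨w, d, y, hy, l', hl', rfl⟩
        exact ⟨_, _, _, mul hx (conj hy l hl), l * l', mul_mem hl hl', by group⟩
      one_mem' := ⟨_, _, _, one, 1, one_mem _, by simp⟩
      inv_mem' := by
        rintro _ ⟨v, c, x, hx, l, hl, rfl⟩
        obtain ⟨y, hy⟩ := ex _ (neg_mem (RE hx).2) (-c)
        have := uniq (by simpa [fr.alt] using mul hx hy) one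
        exact ⟨_, _, _, conj hy _ (inv_mem hl), l⁻¹, inv_mem hl, by
          rw [eq_inv_of_mul_eq_one_right this]; group⟩ }
  have hT : L ⊔ M ≤ T := sup_le (fun l hl => ⟨_, _, _, one, l, hl, by simp⟩) fun y hy => by
    obtain ⟨v, hv, c, h⟩ := fr.dec hk (hM.map y hy) trivial
    have hv' : v ∈ Pl := Pp_mono (fun _ _ => trivial) (fun _ _ => by omega) hv
    obtain ⟨x, hx, h1⟩ := exR v hv' c
    have h2 : R v c x := by simpa using h1 1 (one_mem _)
    have h3 : π x ∈ Mg G e f k := (RE h2).1.mem fr (fr.e_mem (by simp))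
      (Pp_mono (fun _ _ => trivial) (fun _ => Or.inl) hv)
    have h4 := mul_mem (inv_mem h3) (hM.map y hy)
    refine ⟨v, c, x, h2, x⁻¹ * y, hSL (hMS.mem le_sup_right hS
      (mul_mem (inv_mem hx) (Subgroup.mem_sup_left hy)) ?_), by group⟩
    rw [map_mul, map_inv]
    refine ⟨fun l _ => h4.1 l trivial, fun l hl => ?_⟩
    by_cases h5 : l = k + 1
    · rw [h5, mul_smul, inv_smul_eq_iff, h _ (RE h2).1]
    · exact h4.2 l ⟨hl, h5⟩
  have RK : ∀ {v c x}, R v c x → x ∈ L ⊔ M := by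
    rintro _ c _ ⟨g, hg, y, hy, -, -, -, -, rfl⟩
    exact mul_mem (Subgroup.mul_mem_sup hg hy) (inv_mem (Subgroup.mem_sup_left hg))
  have mp : L ⊔ M ≤ (Pg G e f (k + 1)).comap π := sup_le
    (fun g hg => Fx_mono (fun _ h => h) (fun _ h => by omega) (hL.map g hg))
    fun g hg => Fx_mono (fun _ _ => trivial) (fun _ h => by omega) (hM.map g hg)
  refine ⟨⟨mp, fun p hp => ?_, fun p hp h1 => ?_⟩, fun p hp => ?_⟩
  · obtain ⟨v, hv, c, h⟩ := fr.dec hk hp le_rfl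
    obtain ⟨x, hx⟩ := ex v (Pp_mono (fun _ h => h) (fun _ _ => by omega) hv) c
    have h4 := mul_mem (inv_mem (Subgroup.mem_comap.1 (mp (RK hx)))) hp
    obtain ⟨l, hl, e1⟩ := hL.surj ((π x)⁻¹ * p) ⟨h4.1, fun l hl => by
      by_cases h5 : l = k + 1
      · rw [h5, mul_smul, inv_smul_eq_iff, h _ (RE hx).1]
      · exact h4.2 l (by omega)⟩
    exact ⟨x * l, mul_mem (RK hx) (Subgroup.mem_sup_left hl), by simp [e1]⟩
  · obtain ⟨v, c, x, hx, l, hl, rfl⟩ := hT hp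
    have h2 := congrArg (· • f (k + 1)) h1
    have h3 := (RE hx).2.2 _ le_rfl
    simp only [map_mul, mul_smul, (hL.map l hl).2 _ le_rfl, (RE hx).1 (f (k + 1)), one_smul,
      fr.zero_comm h3, fr.ef _ hk, zero_smul, add_zero, mul_one, add_assoc, add_eq_left] at h2
    obtain rfl : c = 0 := by
      simpa [h3, fr.swap (f (k + 1)) (e (k + 1)), fr.ef _ hk] using congrArg (ω (f (k + 1))) h2
    obtain rfl : v = 0 := by simpa using h2
    obtain rfl := uniq hx one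
    exact hL.inj _ (by simpa) h1
  · obtain ⟨v, c, _, ⟨g, hg, y, hy, -, -, -, -, rfl⟩, l, hl, rfl⟩ := hT hp
    exact ⟨g, hg, y, hy, l, hl, rfl⟩

/-- from the stabiliser of a vector to the symplectic group -/
theorem stepB {k : ℕ} (hk : k + 1 < n) {L M S : Subgroup K}
    (hL : Lf π L (Lg G e f (k + 1))) (hM : Lf π M (Mg G e f k)) (hS : Lf π S (Sg G e f (k + 1)))
    (hP : Lf π (L ⊔ M) (Pg G e f (k + 1))) (hMS : Inj π (M ⊔ S))
    (hLS : ∀ g ∈ L, ∀ s ∈ S, g * s = s * g)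
    (hd : ∀ p ∈ L ⊔ M, ∃ g ∈ L, ∃ y ∈ M, ∃ l ∈ L, p = g * y * g⁻¹ * l) :
    Lf π (L ⊔ M ⊔ S) (Lg G e f (k + 2)) := by
  have hLP : L ≤ L ⊔ M := le_sup_left
  have hMP : M ≤ L ⊔ M := le_sup_right
  generalize L ⊔ M = P at *
  let W := Pp ω e f (k + 2 ≤ ·) (k + 2 ≤ ·)
  have aW : e (k + 1) ∈ W := fr.e_mem (by omega)
  have mp : P ⊔ S ≤ (Lg G e f (k + 2)).comap π := sup_le
    (fun g hg => Fx_mono (fun _ h => by omega) (fun _ h => by omega) (hP.map g hg))
    fun g hg => Fx_mono (fun _ h => by omega) (fun _ h => by omega) (hS.map g hg)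
  have KW : ∀ g ∈ P ⊔ S, ∀ v ∈ W, π g • v ∈ W := fun g hg v hv => fr.smul_mem (mp hg) hv
  have Pa : ∀ g ∈ P, π g • e (k + 1) = e (k + 1) := fun g hg => (hP.map g hg).1 _ le_rfl
  have mR : M ⊔ S ≤ (Fx G e f (· ≠ k + 1) fun l => l ≠ k ∧ l ≠ k + 1).comap π := sup_le
    (fun g hg => Fx_mono (fun _ _ => trivial) (fun _ h => h) (hM.map g hg))
    fun g hg => Fx_mono (fun _ h => h) (fun _ h => h.2) (hS.map g hg)
  have RM : ∀ r ∈ M ⊔ S, π r • e (k + 1) = e (k + 1) → r ∈ M := fun r hr h => by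
    have h1 := Subgroup.mem_comap.1 (mR hr)
    refine hMS.mem le_sup_left hM hr ⟨fun l _ => ?_, h1.2⟩
    by_cases h5 : l = k + 1
    exacts [h5 ▸ h, h1.1 l h5]
  have SP : ∀ s ∈ S, π s • e (k + 1) = e (k + 1) → s ∈ P := fun s hs h =>
    hMP (RM s (Subgroup.mem_sup_right hs) h)
  let N : K → Prop := fun g => ω (e (k + 1)) (π g • e (k + 1)) ≠ 0
  let D : K → Prop := fun d => ∃ p ∈ P, ∃ s ∈ S, ∃ p' ∈ P, N s ∧ d = p * s * p'
  have Nl : ∀ p ∈ P, ∀ g, N (p * g) ↔ N g := fun p hp g => by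
    simp only [N, map_mul, mul_smul]
    rw [← fr.inv (π p) (e (k + 1)) (π g • _), Pa p hp]
  have Nr : ∀ p ∈ P, ∀ g, N (g * p) ↔ N g := fun p hp g => by
    simp only [N, map_mul, mul_smul, Pa p hp]
  have D1 : ∀ {d}, D d → N d := by
    rintro _ ⟨p, hp, s, -, p', hp', h, rfl⟩
    rwa [Nr _ hp', Nl _ hp]
  have DK : ∀ {d}, D d → d ∈ P ⊔ S := by
    rintro _ ⟨p, hp, s, hs, p', hp', -, rfl⟩
    exact mul_mem (Subgroup.mul_mem_sup hp hs) (Subgroup.mem_sup_left hp')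
  have Dl : ∀ p ∈ P, ∀ {d}, D d → D (p * d) := by
    rintro q hq _ ⟨p, hp, s, hs, p', hp', h, rfl⟩
    exact ⟨q * p, mul_mem hq hp, s, hs, p', hp', h, by group⟩
  have Dr : ∀ p ∈ P, ∀ {d}, D d → D (d * p) := by
    rintro q hq _ ⟨p, hp, s, hs, p', hp', h, rfl⟩
    exact ⟨p, hp, s, hs, p' * q, mul_mem hp' hq, h, by group⟩
  have Di : ∀ {d}, D d → D d⁻¹ := by
    rintro _ ⟨p, hp, s, hs, p', hp', h, rfl⟩
    exact ⟨_, inv_mem hp', _, inv_mem hs, _, inv_mem hp, by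
      simpa only [N, map_inv, fr.inv_right] using fr.ne_comm h, by group⟩
  have DS : ∀ s ∈ S, N s → D s := fun s hs h => ⟨1, one_mem _, s, hs, 1, one_mem _, h, by simp⟩
  have D2 : ∀ {d d'}, D d → D d' → π d • e (k + 1) = π d' • e (k + 1) → d⁻¹ * d' ∈ P := by
    rintro _ _ ⟨p1, h1, s, hs, p2, h2, n1, rfl⟩ ⟨p3, h3, s', hs', p4, h4, n2, rfl⟩ h
    simp only [map_mul, mul_smul, Pa _ h2, Pa _ h4] at h
    have hr := mul_mem (inv_mem h3) h1
    have e1 : π (p3⁻¹ * p1) • π s • e (k + 1) = π s' • e (k + 1) := by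
      rw [map_mul, mul_smul, h, map_inv, inv_smul_smul]
    have e0 : (p1 * s * p2)⁻¹ * (p3 * s' * p4) = p2⁻¹ * (s⁻¹ * (p3⁻¹ * p1)⁻¹ * s') * p4 := by group
    rw [e0]
    refine mul_mem (mul_mem (inv_mem h2) ?_) h4
    generalize p3⁻¹ * p1 = r at hr e1
    have pl : ∀ s ∈ S, π s • e (k + 1) = ω (e (k + 1)) (π s • e (k + 1)) • f (k + 1) -
        ω (f (k + 1)) (π s • e (k + 1)) • e (k + 1) := fun s hs => by
      have := fr.split (A' := fun _ => True) (B' := fun _ => True) hk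
        (fr.smul_mem (hS.map s hs) (fr.e_mem (l := k + 1) (by simp))) (fun l _ => by omega)
        fun l _ => by omega
      rw [← sub_eq_zero, ← fr.eq_zero (fun l => this.1 l trivial) fun l => this.2 l trivial]
      abel
    have e2 : ω (e (k + 1)) (π s' • e (k + 1)) = ω (e (k + 1)) (π s • e (k + 1)) := by
      rw [← e1, ← fr.inv (π r) _ (π s • _), Pa r hr]
    obtain ⟨b, hb⟩ := fr.eich (e (k + 1)) 0 ((ω (f (k + 1)) (π s • e (k + 1)) -
      ω (f (k + 1)) (π s' • e (k + 1))) / ω (e (k + 1)) (π s • e (k + 1))) (by simp)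
    obtain ⟨b, hb', rfl⟩ := hS.surj b (hb.mem fr (fr.e_mem (by simp)) (zero_mem _))
    have bP := SP b hb' (by simp [hb (e (k + 1)), fr.alt])
    have e3 : π b • π s • e (k + 1) = π s' • e (k + 1) := by
      rw [hb, div_mul_cancel₀ _ n1]
      simp only [map_zero, LinearMap.zero_apply]
      have p1 := pl s hs
      have p2 := pl s' hs'
      generalize π s • e (k + 1) = x at *
      generalize π s' • e (k + 1) = y at *
      linear_combination (norm := module) p1 - p2 - e2 • f (k + 1)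
    have hl := mul_mem (inv_mem bP) hr
    have e4 : π (b⁻¹ * r) • π s • e (k + 1) = π s • e (k + 1) := by
      rw [map_mul, mul_smul, e1, map_inv, inv_smul_eq_iff, e3]
    have lL : b⁻¹ * r ∈ L := hP.inj.mem hLP hL hl ⟨(hP.map _ hl).1, fun l h => by
      by_cases h5 : l = k + 1
      · rw [pl s hs, smul_sub, smul_comm, smul_comm (π _), Pa _ hl, sub_left_inj] at e4
        rw [h5]
        exact smul_right_injective _ n1 e4
      · exact (hP.map _ hl).2 l (by omega)⟩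
    have e5 : s⁻¹ * r⁻¹ * s' = (b⁻¹ * r)⁻¹ * (s⁻¹ * b⁻¹ * s') := by
      rw [← mul_assoc, ← mul_assoc, hLS _ (inv_mem lL) _ (inv_mem hs)]; group
    rw [e5]
    exact mul_mem (inv_mem hl) (SP _ (mul_mem (mul_mem (inv_mem hs) (inv_mem hb')) hs') (by
      rw [map_mul, map_mul, mul_smul, mul_smul, ← e3, map_inv, map_inv, inv_smul_smul, inv_smul_smul]))
  have D3 : ∀ v ∈ W, ω (e (k + 1)) v ≠ 0 → ∃ d, D d ∧ π d • e (k + 1) = v := fun v hv h => by
    obtain ⟨s, hs, t, w, hw, ht, e1, n1⟩ := fr.dec2 hk hv h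
    obtain ⟨s, hs', rfl⟩ := hS.surj s hs
    obtain ⟨t, ht', rfl⟩ := hP.surj t (ht.mem fr (fr.e_mem (by omega))
      (Pp_mono (fun _ _ => by omega) (fun _ _ => by omega) hw))
    exact ⟨t * s, Dl t ht' (DS s hs' n1), by rw [map_mul, mul_smul, e1]⟩
  have DR : ∀ r ∈ M ⊔ S, N r → D r := fun r hr h => by
    have h1 := Subgroup.mem_comap.1 (mR hr)
    obtain ⟨s, hs, t, w, hw, ht, e1, n1⟩ := fr.dec2 hk
      (fr.smul_mem h1 (fr.e_mem (l := k + 1) (by simp))) h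
    obtain ⟨s, hs', rfl⟩ := hS.surj s hs
    obtain ⟨t, ht', rfl⟩ := hM.surj t (ht.mem fr (fr.e_mem (by simp))
      (Pp_mono (fun _ _ => by omega) (fun _ => Or.inl) hw))
    exact ⟨t, hMP ht', s, hs', _, hMP (RM _ (mul_mem (inv_mem (Subgroup.mul_mem_sup ht' hs')) hr) (by
      rw [map_mul, mul_smul, ← e1, map_inv, inv_smul_eq_iff, map_mul, mul_smul])), n1, by group⟩
  have D4 : ∀ {d d'}, D d → D d' → N (d * d') → D (d * d') := by
    rintro _ _ ⟨p1, h1, s, hs, p2, h2, -, rfl⟩ ⟨p3, h3, s', hs', p4, h4, -, rfl⟩ h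
    obtain ⟨g, hg, y, hy, l, hl, e1⟩ := hd _ (mul_mem h2 h3)
    have e2 : p1 * s * p2 * (p3 * s' * p4) = p1 * g * (s * y * s') * (g⁻¹ * l * p4) := by
      calc _ = p1 * (s * g) * y * (g⁻¹ * l * s') * p4 := by
            rw [show p1 * s * p2 * (p3 * s' * p4) = p1 * s * (p2 * p3) * s' * p4 by group, e1]; group
        _ = _ := by rw [← hLS g hg s hs, hLS _ (mul_mem (inv_mem hg) hl) s' hs']; group
    have q1 := mul_mem h1 (hLP hg)
    have q2 := mul_mem (hLP (mul_mem (inv_mem hg) hl)) h4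
    rw [e2] at h ⊢
    rw [Nr _ q2, Nl _ q1] at h
    exact Dr _ q2 (Dl _ q1 (DR _ (mul_mem (mul_mem (Subgroup.mem_sup_right hs)
      (Subgroup.mem_sup_left hy)) (Subgroup.mem_sup_right hs')) h))
  have Nq : ∀ g g', N (g⁻¹ * g') ↔ ω (π g • e (k + 1)) (π g' • e (k + 1)) ≠ 0 := fun g g' => by
    simp only [N, map_mul, mul_smul, map_inv, fr.inv_right]
  have path : ∀ x ∈ W, ∀ v ∈ W, ω (e (k + 1)) x ≠ 0 → ω x v ≠ 0 → ∃ d d', D d ∧ D d' ∧
      π d • e (k + 1) = x ∧ π (d * d') • e (k + 1) = v := fun x hx v hv h1 h2 => by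
    obtain ⟨d, hd, e1⟩ := D3 x hx h1
    obtain ⟨d', hd', e2⟩ := D3 _ (KW _ (inv_mem (DK hd)) v hv) (by rwa [map_inv, fr.inv_right, e1])
    exact ⟨d, d', hd, hd', e1, by rw [map_mul, mul_smul, e2, map_inv, smul_inv_smul]⟩
  have U1 : ∀ {d1 d2 d3 d4}, D d1 → D d2 → D d3 → D d4 →
      π (d1 * d2) • e (k + 1) = π (d3 * d4) • e (k + 1) →
      ω (π d1 • e (k + 1)) (π d3 • e (k + 1)) ≠ 0 → (d1 * d2)⁻¹ * (d3 * d4) ∈ P := by
    intro d1 d2 d3 d4 h1 h2 h3 h4 h h'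
    have a1 := D4 (Di h1) h3 ((Nq _ _).2 h')
    have a2 := D4 (Di h2) a1 (by
      rw [← mul_assoc, ← mul_inv_rev, Nq, h]
      exact fr.ne_comm ((Nq _ _).1 (by simpa using D1 h4)))
    have a3 := D2 (Di a2) h4 (by
      rw [← mul_assoc, ← mul_inv_rev, mul_inv_rev, inv_inv, map_mul, mul_smul, h, map_mul, mul_smul,
        map_inv, inv_smul_smul])
    simpa [mul_assoc] using a3
  have U2 : ∀ {d1 d2 d3 d4}, D d1 → D d2 → D d3 → D d4 →
      π (d1 * d2) • e (k + 1) = π (d3 * d4) • e (k + 1) → (d1 * d2)⁻¹ * (d3 * d4) ∈ P := by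
    intro d1 d2 d3 d4 h1 h2 h3 h4 h
    by_cases h5 : N (d1 * d2)
    · exact D2 (D4 h1 h2 h5) (D4 h3 h4 (by simpa only [N, h] using h5)) h
    by_cases h6 : ω (π d1 • e (k + 1)) (π d3 • e (k + 1)) = 0
    swap
    · exact U1 h1 h2 h3 h4 h h6
    simp only [N, not_not] at h5
    obtain ⟨d, d', hd, hd', e1, e2⟩ := path _ (add_mem (KW _ (DK h1) _ aW) aW) _
      (KW _ (mul_mem (DK h1) (DK h2)) _ aW) (by simpa [fr.alt] using D1 h1) (by
        simpa [-map_mul, h5] using (Nq _ _).1 (show N (d1⁻¹ * (d1 * d2)) by simpa using D1 h2))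
    simpa [mul_assoc] using mul_mem (U1 h1 h2 hd hd' e2.symm (by
      simpa [e1, fr.alt] using fr.ne_comm (D1 h1))) (U1 hd hd' h3 h4 (e2.trans h) (by
      simpa [e1, h6] using D1 h3))
  obtain ⟨d0, hd0, e0⟩ := D3 _ (fr.f_mem (l := k + 1) (by omega)) (by simp [fr.ef _ hk])
  let Z : K → Prop := fun g => D g ∨ ∃ d d', D d ∧ D d' ∧ g = d * d'
  have ZD : ∀ {g d}, Z g → D d → Z (g * d) := by
    rintro g d (h | ⟨d1, d2, h1, h2, rfl⟩) hd
    · exact Or.inr ⟨g, d, h, hd, rfl⟩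
    by_cases h5 : N (d1 * d2)
    · exact Or.inr ⟨_, d, D4 h1 h2 h5, hd, rfl⟩
    simp only [N, not_not] at h5
    have hv := KW _ (mul_mem (DK h1) (DK h2)) _ aW
    have hw := KW _ (mul_mem (mul_mem (DK h1) (DK h2)) (DK hd)) _ aW
    have vw := (Nq _ _).1 (show N ((d1 * d2)⁻¹ * (d1 * d2 * d)) by
      rw [inv_mul_cancel_left]; exact D1 hd)
    obtain ⟨x, hx, x1, x2, x3⟩ : ∃ x ∈ W, ω (e (k + 1)) x ≠ 0 ∧ ω x (π (d1 * d2) • e (k + 1)) ≠ 0 ∧
        ω x (π (d1 * d2 * d) • e (k + 1)) ≠ 0 := by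
      generalize π (d1 * d2) • e (k + 1) = v at *
      generalize π (d1 * d2 * d) • e (k + 1) = w at *
      by_cases h6 : ω (e (k + 1)) w = 0
      · have hf : f (k + 1) ∈ W := fr.f_mem (by omega)
        have wv := fr.ne_comm vw
        by_cases h7 : ω (f (k + 1)) v = 0 <;> by_cases h8 : ω (f (k + 1)) w = 0
        · exact ⟨_, add_mem (add_mem hf hv) hw, by simp [h5, h6, fr.ef _ hk],
            by simpa [h7, fr.alt], by simpa [h8, fr.alt]⟩
        · exact ⟨_, add_mem hf hw, by simp [h6, fr.ef _ hk], by simpa [h7], by simpa [fr.alt]⟩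
        · exact ⟨_, add_mem hf hv, by simp [h5, fr.ef _ hk], by simpa [fr.alt], by simpa [h8]⟩
        · exact ⟨_, hf, by simp [fr.ef _ hk], h7, h8⟩
      · exact ⟨_, add_mem hv hw, by simpa [h5], by simpa [fr.alt] using fr.ne_comm vw,
          by simpa [fr.alt]⟩
    obtain ⟨d3, d4, h3, h4, e1, e2⟩ := path x hx _ hv x1 x2
    have h7 := Dr _ (U2 h3 h4 h1 h2 e2) h4
    refine Or.inr ⟨d3, _, h3, D4 h7 hd ?_, by group⟩
    rw [show d4 * ((d3 * d4)⁻¹ * (d1 * d2)) * d = d3⁻¹ * (d1 * d2 * d) by group, Nq, e1]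
    exact x3
  have ZK : ∀ g ∈ P ⊔ S, ∀ z, Z z → Z (z * g) := fun g hg => by
    have two : ∀ g, D (g * d0) → ∀ z, Z z → Z (z * g) := fun g h z hz => by
      simpa [mul_assoc] using ZD (ZD hz h) (Di hd0)
    have gen : ∀ x ∈ (P : Set K) ∪ S, ∀ z, Z z → Z (z * x) := by
      rintro x (hx | hx)
      · exact two x (Dl x hx hd0)
      by_cases h : N x
      · exact fun z hz => ZD hz (DS x hx h)
      obtain ⟨s, hs, e1⟩ := fr.trans1 (A := (· ≠ k + 1)) (fr.e_mem (l := k + 1) (by simp))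
        (fr.f_mem (l := k + 1) (by simp)) (fr.e_ne hk) fun e => by simpa [e] using fr.ef _ hk
      obtain ⟨s, hs', rfl⟩ := hS.surj s hs
      have n1 : N s := by simp [N, e1, fr.ef _ hk]
      suffices n2 : N (x * s) from fun z hz => by
        simpa [mul_assoc] using ZD (ZD hz (DS _ (mul_mem hx hs') n2)) (Di (DS s hs' n1))
      intro e2
      simp only [N, not_not] at h
      have h1 := fr.smul_mem (hS.map _ (inv_mem hx)) (fr.e_mem (l := k + 1) (by simp))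
      rw [map_mul, mul_smul, e1, ← fr.inv_left, ← map_inv] at e2
      rw [← fr.inv_left, ← map_inv] at h
      refine fr.e_ne hk ((smul_eq_zero_iff_eq (π x⁻¹)).1 (fr.eq_zero (fun l => ?_) fun l => ?_)) <;>
        by_cases h5 : l = k + 1
      exacts [by rw [h5]; exact fr.zero_comm h, h1.1 l h5, by rw [h5]; exact fr.zero_comm e2,
        h1.2 l h5]
    rw [Subgroup.sup_eq_closure] at hg
    exact Subgroup.closure_induction'' (p := fun g _ => ∀ z, Z z → Z (z * g)) gen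
      (fun x hx => gen _ (hx.imp inv_mem inv_mem)) (by simp)
      (fun x y _ _ hx hy z hz => mul_assoc z x y ▸ hy _ (hx z hz)) hg
  have stab : ∀ g ∈ P ⊔ S, π g • e (k + 1) = e (k + 1) → g ∈ P := fun g hg h => by
    rcases ZK g hg 1 (Or.inr ⟨d0, _, hd0, Di hd0, by simp⟩) with h1 | ⟨d, d', h1, h2, e1⟩
    · exact (D1 h1 (by simp [h, fr.alt])).elim
    · rw [one_mul] at e1
      simpa [← e1] using U2 hd0 (Di hd0) h1 h2 (by simp [← e1, h])
  refine ⟨mp, fun g hg => ?_, fun g hg h => hP.inj g (stab g hg (by simp [h])) h⟩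
  have hv := fr.smul_mem hg aW
  obtain ⟨x, hx, x1, x2⟩ := avoid2 (fr.nd aW (fr.e_ne hk)) (fr.nd hv fun e =>
    fr.e_ne hk ((smul_eq_zero_iff_eq g).1 e))
  obtain ⟨d, d', h1, h2, -, e1⟩ := path x hx _ hv x1 (fr.ne_comm x2)
  have h3 := mul_mem (DK h1) (DK h2)
  have h4 := mul_mem (inv_mem (Subgroup.mem_comap.1 (mp h3))) hg
  obtain ⟨p, hp, e2⟩ := hP.surj ((π (d * d'))⁻¹ * g) ⟨fun l hl => by
    by_cases h5 : l = k + 1
    · rw [h5, mul_smul, inv_smul_eq_iff, e1]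
    · exact h4.1 l (by omega), h4.2⟩
  exact ⟨_, mul_mem h3 (Subgroup.mem_sup_left hp), by rw [map_mul, e2, mul_inv_cancel_left]⟩

omit fr in
/-- the lifted symplectic groups -/
def Lh (S M : ℕ → Subgroup K) : ℕ → Subgroup K
  | 0 => S 0
  | k + 1 => Lh S M k ⊔ M k ⊔ S (k + 1)

omit fr in
theorem Lh_le {S M : ℕ → Subgroup K} {X : Subgroup K} {k : ℕ} (h1 : ∀ j, j ≤ k → S j ≤ X)
    (h2 : ∀ i, i < k → M i ≤ X) : Lh S M k ≤ X := by
  induction k with
  | zero => exact h1 0 le_rfl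
  | succ k ih =>
    exact sup_le (sup_le (ih (fun j _ => h1 j (by omega)) fun i _ => h2 i (by omega))
      (h2 k (by omega))) (h1 _ le_rfl)

omit fr in
theorem le_Lh {S M : ℕ → Subgroup K} (k : ℕ) :
    (∀ j, j ≤ k → S j ≤ Lh S M k) ∧ ∀ i, i < k → M i ≤ Lh S M k := by
  induction k with
  | zero => exact ⟨fun j h => by rw [show j = 0 by omega]; rfl, fun _ h => by omega⟩
  | succ k ih =>
    refine ⟨fun j h => ?_, fun i h => ?_⟩
    · rcases h.eq_or_lt with rfl | h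
      exacts [le_sup_right, le_sup_of_le_left (le_sup_of_le_left (ih.1 j (by omega)))]
    · rcases (Nat.lt_succ_iff.1 h).eq_or_lt with rfl | h
      exacts [le_sup_of_le_left le_sup_right, le_sup_of_le_left (le_sup_of_le_left (ih.2 i h))]

/-- **The slim amalgam.** -/
theorem amalgam (hF : ∃ t : F, t ≠ 0 ∧ t ≠ 1) {S M : ℕ → Subgroup K}
    (hS : ∀ j, j < n → Lf π (S j) (Sg G e f j)) (hM : ∀ i, i + 1 < n → Lf π (M i) (Mg G e f i))
    (hSS : ∀ j l, j < n → l < n → j ≠ l → Inj π (S j ⊔ S l))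
    (hMM : ∀ i l, i + 1 < n → l + 1 < n → i ≠ l → Inj π (M i ⊔ M l))
    (hMS : ∀ i j, i + 1 < n → j < n → Inj π (M i ⊔ S j)) (k : ℕ) (hk : k < n) :
    Lf π (Lh S M k) (Lg G e f (k + 1)) := by
  have cen : ∀ {k y}, (∀ j, j ≤ k → ∀ g ∈ S j, g * y = y * g) → (∀ i, i < k → ∀ g ∈ M i,
      g * y = y * g) → ∀ g ∈ Lh S M k, g * y = y * g := fun {k y} h1 h2 g hg =>
    Subgroup.mem_centralizer_singleton_iff.1 (Lh_le
      (fun j h g hg => Subgroup.mem_centralizer_singleton_iff.2 (h1 j h g hg))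
      (fun j h g hg => Subgroup.mem_centralizer_singleton_iff.2 (h2 j h g hg)) hg)
  have mm : ∀ i l, i + 1 < n → l + 1 < n → i ≠ l → ∀ g ∈ M i, ∀ y ∈ M l, g * y = y * g :=
    fun i l hi hl h g hg y hy => (hMM i l hi hl h).comm hg hy
      (fr.comm ((hM i hi).map g hg) ((hM l hl).map y hy) (by simp) (by simp))
  suffices h : Lf π (Lh S M k) (Lg G e f (k + 1)) ∧ (k + 1 < n → ∀ g ∈ Lh S M k,
    π g • e k = e k → ∀ y ∈ M k, g * y = y * g) from h.1
  induction k with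
  | zero =>
    have e1 : Lg G e f 1 = Sg G e f 0 := le_antisymm (Fx_mono (fun _ _ => by omega) fun _ _ => by omega)
      (Fx_mono (fun _ _ => by omega) fun _ _ => by omega)
    refine ⟨e1 ▸ hS 0 hk, fun h g hg h1 y hy => ((hMS 0 0 h hk).comm hy hg (fr.comm ((hM 0 h).map y hy)
      (A' := fun _ => True) ⟨fun l _ => ?_, ((hS 0 hk).map g hg).2⟩ (by simp) (by simp))).symm⟩
    by_cases h2 : l = 0
    exacts [by rw [h2, h1], ((hS 0 hk).map g hg).1 l h2]
  | succ k ih =>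
    obtain ⟨hL, hC⟩ := ih (by omega)
    obtain ⟨hP, hd⟩ := stepA fr hF hk hL (hM k hk) (hS k (by omega)) ((le_Lh k).1 k le_rfl)
      (hMS k k hk (by omega)) (fun g hg y hy h => cen (fun j hj g hg =>
        ((hMS k j hk (by omega)).comm hy hg (fr.comm (A := fun _ => True) (B := (· ≠ k + 1))
          ⟨((hM k hk).map y hy).1, fun l hl => by
            by_cases h2 : l = k
            exacts [by rw [h2, h], ((hM k hk).map y hy).2 l ⟨h2, hl⟩]⟩
          ((hS j (by omega)).map g hg) (by simp) fun l => by omega)).symm)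
        (fun i hi g hg => mm i k (by omega) hk (by omega) g hg y hy) g hg) (hC hk)
    have hL' := stepB fr hk hL (hM k hk) (hS _ hk) hP (hMS k _ hk hk) (fun g hg s hs => cen
      (fun j hj g hg => (hSS j _ (by omega) hk (by omega)).comm hg hs (fr.comm
        ((hS j (by omega)).map g hg) ((hS _ hk).map s hs) (fun l => by omega) fun l => by omega))
      (fun i hi g hg => (hMS i _ (by omega) hk).comm hg hs (fr.comm
        ((hM i (by omega)).map g hg) ((hS _ hk).map s hs) (by simp) fun l => by omega)) g hg) hd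
    refine ⟨hL', fun h g hg h1 y hy => ?_⟩
    have h2 := hL'.inj.mem le_sup_left hP hg ⟨fun l hl => by
      by_cases h2 : l = k + 1
      exacts [by rw [h2, h1], (hL'.map g hg).1 l (by omega)], (hL'.map g hg).2⟩
    refine Subgroup.mem_centralizer_singleton_iff.1 (sup_le (c := Subgroup.centralizer {y})
      (fun g hg => Subgroup.mem_centralizer_singleton_iff.2 ?_)
      (fun g hg => Subgroup.mem_centralizer_singleton_iff.2 (mm k _ hk h (by omega) g hg y hy)) h2)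
    exact cen (fun j hj g hg => ((hMS _ j h (by omega)).comm hy hg (fr.comm ((hM _ h).map y hy)
      ((hS j (by omega)).map g hg) (by simp) fun l => by omega)).symm)
      (fun i hi g hg => mm i _ (by omega) h (by omega) g hg y hy) g hg

end H65.SpA
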