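/- Tower T3, job CC: a Sylow `3`-subgroup of order `9` that is the centraliser of each of its
nontrivial elements. -/
import Cfsg.Agent.H48.T3Lem
import Cfsg.Agent.S0058
import Cfsg.Agent.H57.SLCard

set_option autoImplicit false
set_option linter.unusedSectionVars false

namespace H65.T3
open Subgroup Cfsg H98 H96.CG H48.T3

universe u

/-- counting orbits -/
theorem burn {H X : Type*} [Group H] [Finite H] [Finite X] [MulAction H X] (A : Subgroup H) (x₀ : X)
    (h1 : ∀ a ∈ A, ∀ x : X, a • x = x) (h2 : ∀ g ∉ A, ∀ x : X, g • x = x ↔ x = x₀) :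
    Nat.card H ∣ Nat.card A * (Nat.card X - 1) := by
  classical
  letI := Fintype.ofFinite H
  letI := Fintype.ofFinite X
  have h := MulAction.sum_card_fixedBy_eq_card_orbits_mul_card_group H X
  have h3 : ∀ g : H, Fintype.card (MulAction.fixedBy X g) =
      1 + if g ∈ A then Nat.card X - 1 else 0 := by
    intro g
    split_ifs with hg
    · have : MulAction.fixedBy X g = Set.univ := Set.eq_univ_of_forall fun x => h1 g hg x
      have h4 : 0 < Nat.card X := Nat.card_pos_iff.2 ⟨⟨x₀⟩, inferInstance⟩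
      rw [← Nat.card_eq_fintype_card, this, Nat.card_congr (Equiv.Set.univ X)]
      omega
    · have : MulAction.fixedBy X g = {x₀} := Set.ext fun x => h2 g hg x
      rw [← Nat.card_eq_fintype_card, this]; simp
  simp_rw [h3] at h
  rw [Finset.sum_add_distrib, ← Finset.sum_filter, Finset.sum_const, Finset.sum_const,
    Finset.card_univ, smul_eq_mul, mul_one, smul_eq_mul] at h
  have h5 : (Finset.univ.filter (· ∈ A)).card = Nat.card A := by
    rw [Nat.card_eq_fintype_card, Fintype.card_subtype]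
  rw [h5, ← Nat.card_eq_fintype_card (α := H)] at h
  exact (Nat.dvd_add_right dvd_rfl).1 (h ▸ Dvd.intro_left _ rfl)

section
variable {G : Type*} [Group G] [Finite G]

theorem burnside {p : ℕ} [Fact p.Prime] {Q K : Subgroup G} (h : IsSyl p Q K)
    (hc : K ⊓ nor Q ≤ cen Q) : ∃ R ≤ K, ¬ p ∣ Nat.card R ∧ nor K ≤ nor R ∧ R ⊔ Q = K := by
  refine ⟨res p K, res_le K, ?_, normalizer_le_normalizer_res K, by rw [sup_comm, h.sup_res]⟩
  obtain ⟨P, rfl⟩ := h.exists_sylow_map
  have hP : normalizer ((P : Subgroup K) : Set K) ≤ centralizer ((P : Subgroup K) : Set K) :=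
    fun x hx y hy => Subtype.ext
      (hc ⟨x.2, le_normalizer_map K.subtype ⟨x, hx, rfl⟩⟩ y ⟨y, hy, rfl⟩)
  have h1 : res p K ≤ (MonoidHom.transferSylow P hP).ker.map K.subtype :=
    res_le_of_forall_pow fun x hx => by
      obtain ⟨k, hk⟩ := P.isPGroup' (MonoidHom.transferSylow P hP ⟨x, hx⟩)
      exact ⟨k, ⟨x, hx⟩ ^ p ^ k, MonoidHom.mem_ker.2 (by rw [map_pow, hk]), rfl⟩
  refine not_dvd_card_of_le h1 ?_
  rw [card_map_of_injective K.subtype_injective]
  exact MonoidHom.not_dvd_card_ker_transferSylow P hP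

theorem mem_c1 {s c : G} : c ∈ cen1 s ↔ c * s = s * c := mem_centralizer_singleton_iff

theorem cj_cen1 (g s : G) : cj g (cen1 s) = cen1 (g * s * g⁻¹) := by
  ext c
  rw [mem_cj, mem_c1, mem_c1]
  constructor
  · intro h
    calc _ = g * (g⁻¹ * c * g * s) * g⁻¹ := by group
      _ = _ := by rw [h]; group
  · intro h
    calc _ = g⁻¹ * (c * (g * s * g⁻¹)) * g := by group
      _ = _ := by rw [h]; group

/-- the hypothesis of job CC -/
structure CC (P : Subgroup G) : Prop where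
  card : Nat.card P = 9
  pow : ∀ y ∈ P, y ^ 3 = 1
  cn : ∀ y ∈ P, y ≠ 1 → cen1 y = P

instance : Fact (Nat.Prime 3) := ⟨Nat.prime_three⟩

namespace CC
variable {P : Subgroup G} (h : CC P)
include h

theorem isP : IsPGroup 3 P := IsPGroup.of_card (n := 2) h.card

theorem comm {a b : G} (ha : a ∈ P) (hb : b ∈ P) : a * b = b * a := by
  by_cases h1 : b = 1
  · simp [h1]
  · exact mem_c1.1 (h.cn b hb h1 ▸ ha)

theorem ex : ∃ y ∈ P, y ≠ 1 := by
  by_contra hc
  push Not at hc
  have := h.card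
  rw [(eq_bot_iff_forall _).2 hc, card_bot] at this
  omega

theorem syl : IsSyl 3 P ⊤ := by
  refine ⟨le_top, h.isP, fun Q hQ h1 _ => le_antisymm (fun g hg => ?_) h1⟩
  obtain ⟨y, hy, y1⟩ := h.ex
  haveI : Nontrivial Q := ⟨⟨⟨y, h1 hy⟩, 1, fun e => y1 (congrArg Subtype.val e)⟩⟩
  obtain ⟨⟨z, hz⟩, z1⟩ := @exists_ne _ hQ.center_nontrivial 1
  have hz' := mem_center_iff.1 hz
  have h2 : (z : G) ∈ P := by
    rw [← h.cn y hy y1, mem_c1]
    exact (congrArg Subtype.val (hz' ⟨y, h1 hy⟩)).symm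
  rw [← h.cn z h2 fun e => z1 (Subtype.ext (Subtype.ext e)), mem_c1]
  exact congrArg Subtype.val (hz' ⟨g, hg⟩)

theorem sub {L : Subgroup G} (hL : P ≤ L) : CC (P.subgroupOf L) := by
  refine ⟨by rw [Nat.card_congr (subgroupOfEquivOfLe hL).toEquiv, h.card],
    fun y hy => Subtype.ext (h.pow y hy), fun y hy y1 => ?_⟩
  ext c
  rw [mem_subgroupOf, ← h.cn y hy fun e => y1 (Subtype.ext e), mem_c1, mem_c1, Subtype.ext_iff]
  rfl

theorem nor_of {g y : G} (hy : y ∈ P) (y1 : y ≠ 1) (hg : g * y * g⁻¹ ∈ P) : g ∈ nor P := by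
  rw [← cj_eq_self_iff, ← h.cn y hy y1, cj_cen1, h.cn _ hg (by simpa using y1), h.cn y hy y1]

theorem card_nor : Nat.card (nor P) ∣ 72 := by
  letI : MulAction (nor P) P := MulAction.compHom _ P.normalizerMonoidHom
  have := burn (X := P) (P.subgroupOf (nor P)) 1 (fun a ha x => Subtype.ext (by
    change (a : G) * x * (a : G)⁻¹ = x
    rw [h.comm (a := (a : G)) ha x.2, mul_inv_cancel_right])) (fun g hg x => ⟨fun e => by
      by_contra x1
      have e' : (g : G) * x * (g : G)⁻¹ = x := congrArg Subtype.val e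
      refine hg (mem_subgroupOf.2 ((h.cn x x.2 fun e => x1 (Subtype.ext e)).le ?_))
      rw [mem_c1, ← mul_inv_eq_iff_eq_mul, e'],
    fun e => Subtype.ext (by
      change (g : G) * x * (g : G)⁻¹ = x
      rw [e]; simp)⟩)
  rwa [Nat.card_congr (subgroupOfEquivOfLe le_normalizer).toEquiv, h.card] at this

theorem index_nor : 9 ∣ (nor P).index - 1 := by
  have := burn (H := P) (X := G ⧸ nor P) ⊥ ((1 : G) : G ⧸ nor P) (fun a ha x => by
    rw [mem_bot.1 ha, one_smul]) (fun g hg x => by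
      induction x using QuotientGroup.induction_on with | H x =>
      change (((g : G) * x : G) : G ⧸ nor P) = _ ↔ _
      rw [QuotientGroup.eq, QuotientGroup.eq, mul_one]
      have g1 : (g : G) ≠ 1 := fun e => hg (mem_bot.2 (Subtype.ext e))
      constructor
      · intro e
        have e1 : x⁻¹ * g * x⁻¹⁻¹ ∈ nor P := by simpa [mul_assoc] using inv_mem e
        refine h.nor_of g.2 g1 (h.syl.le_of_le_normalizer' (Q := zpowers _)
          (isPGroup_zpowers (k := 1) ?_) le_top (zpowers_le.2 e1) (mem_zpowers _))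
        rw [pow_one, conj_pow, h.pow g g.2]; simp
      · intro e
        rw [mul_inv_rev]
        exact mul_mem (mul_mem e (inv_mem (le_normalizer g.2))) (by simpa using inv_mem e))
  rwa [card_bot, one_mul, h.card] at this

theorem cen3 {s : G} (hs : orderOf s = 3) : ∃ g, cen1 s = cj g P := by
  obtain ⟨g, -, hg⟩ := h.syl.exists_cj_le (isPGroup_zpowers (x := s) (k := 1)
    (by rw [pow_one, pow3_of hs])) le_top
  have h1 := hg (conj_mem_cj (mem_zpowers s))
  refine ⟨g⁻¹, ?_⟩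
  rw [← h.cn _ h1 (by simpa using ne_one_of hs), ← cj_cen1, cj_inv_cj]

theorem pow3 {s c : G} (hs : orderOf s = 3) (hc : c * s = s * c) : c ^ 3 = 1 := by
  obtain ⟨g, hg⟩ := h.cen3 hs
  obtain ⟨a, ha, rfl⟩ : c ∈ cj g P := hg ▸ mem_c1.2 hc
  rw [← map_pow, h.pow a ha, map_one]

theorem V_bot {s : G} (hs : orderOf s = 3) : V s = ⊥ := by
  rw [V, closure_eq_bot_iff]
  rintro c ⟨h1, h2⟩
  have := h.pow3 hs h1
  rwa [pow_succ, pow_two, h2, one_mul] at this

theorem triv {R : Subgroup G} (hR : ¬ 3 ∣ Nat.card R) (hn : P ≤ nor R) : R = ⊥ := by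
  haveI : IsMulCommutative P := ⟨⟨fun a b => Subtype.ext (h.comm a.2 b.2)⟩⟩
  have hc : (Nat.card P).Coprime (Nat.card R) := by
    rw [h.card]
    exact Nat.Coprime.pow_left 2 ((Nat.Prime.coprime_iff_not_dvd Nat.prime_three).2 hR)
  rw [← Cfsg.Agent.S0058.result P R (fun hcyc => by
    obtain ⟨g, hg⟩ := hcyc.exists_ofOrder_eq_natCard
    have := Nat.le_of_dvd (by norm_num) (orderOf_dvd_of_pow_eq_one
      (show g ^ 3 = 1 from Subtype.ext (h.pow g g.2)))
    rw [hg, h.card] at this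
    omega) hn hc, iSup₂_eq_bot]
  rintro a ⟨ha, a1⟩
  have := h.cn a ha a1
  unfold cen1 at this
  rw [this, inf_comm]
  exact inf_eq_bot_of_coprime hc

end CC

end

theorem CC.hy {G : Type u} [Group G] [Finite G] {P : Subgroup G} (h : CC P) : Hy G := by
  refine ⟨fun s hs c => ?_, fun s hs => Or.inl (h.V_bot hs), fun s hs => ?_,
    fun s hs c hc k hk => ?_, fun s hs y hy _ => ⟨h.pow3 hs hy, fun v hv _ => ?_⟩,
    h.card ▸ card_subgroup_dvd_card P, fun h27 => ?_⟩
  · refine ⟨fun hc => ?_, fun hc => subset_closure hc⟩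
    rw [h.V_bot hs, mem_bot] at hc
    simp [hc]
  · obtain ⟨g, hg⟩ := h.cen3 hs
    rw [hg, card_cj, h.card, h.V_bot hs, card_bot]
  · rw [h.V_bot hs, mem_bot, ← orderOf_eq_one_iff]
    exact Nat.eq_one_of_dvd_coprimes (Nat.Coprime.pow_left k (by norm_num : Nat.Coprime 2 3))
      (orderOf_dvd_of_pow_eq_one hk) (orderOf_dvd_of_pow_eq_one (h.pow3 hs hc))
  · rwa [h.V_bot hs, mem_bot] at hv
  · have h1 := h.syl.not_dvd_relIndex
    have h2 := P.card_mul_index
    rw [relIndex_top_right] at h1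
    rw [← h2, h.card] at h27
    exact h1 (Nat.dvd_of_mul_dvd_mul_left (by norm_num : 0 < 9) h27)

theorem CC.simple {G : Type u} [Group G] [Finite G] {P : Subgroup G} (h : CC P) (hn : ¬ P.Normal) :
    IsSimpleGroup (normalClosure (P : Set G)) := by
  set L := normalClosure (P : Set G) with hL
  have hPL : P ≤ L := le_normalClosure
  have hS : IsSyl 3 P L := h.syl.of_le hPL le_top
  have conj : ∀ g, ∃ l ∈ L, cj g P = cj l P := fun g => by
    obtain ⟨l, hl, e⟩ := hS.exists_cj_eq (hS.cj_of_mem_normalizer (g := g)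
      (by rw [normalizer_eq_top]; trivial))
    exact ⟨l, hl, e.symm⟩
  obtain ⟨y₀, hy₀, y1⟩ := h.ex
  haveI : Nontrivial L := ⟨⟨⟨y₀, hPL hy₀⟩, 1, fun e => y1 (congrArg Subtype.val e)⟩⟩
  refine ⟨fun J hJ => ?_⟩
  by_contra hcon
  push Not at hcon
  set J' := J.map L.subtype with hJ'
  have hJL : J' ≤ L := map_subtype_le _
  have hLJ : L ≤ nor J' := le_normalizer_map_subtype J
  have hb : J' ≠ ⊥ := fun e => hcon.1 ((map_eq_bot_iff_of_injective _ L.subtype_injective).1 e)
  have hnP : ¬ P ≤ J' := fun hle => by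
    refine hcon.2 (eq_top_iff.2 fun x _ => ?_)
    have : L ≤ J' := by
      refine (closure_le _).2 fun a ha => ?_
      obtain ⟨b, hb, hc⟩ := Group.mem_conjugatesOfSet_iff.1 ha
      obtain ⟨c, rfl⟩ := isConj_iff.1 hc
      obtain ⟨l, hl, e⟩ := conj c
      exact cj_le_of_le hle (hLJ hl) (e ▸ conj_mem_cj hb)
    obtain ⟨z, hz, e⟩ := this x.2
    exact Subtype.ext e ▸ hz
  have hQ := h.syl.inf_of_le_normalizer (N := J') le_top (hPL.trans hLJ)
  have h3 : 3 ∣ Nat.card J' := by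
    by_contra h3
    exact hb (h.triv h3 (hPL.trans hLJ))
  obtain ⟨⟨y, hyP, hyJ⟩, y1⟩ := ne_bot_iff_exists_ne_one.1 fun e => hQ.eq_bot_iff.1 e h3
  replace y1 : y ≠ 1 := fun e => y1 (Subtype.ext e)
  have oy := ord3_of (h.pow y hyP) y1
  have hQy : P ⊓ J' = zpowers y := by
    refine (eq_of_le_of_card_ge (zpowers_le.2 (mem_inf.2 ⟨hyP, hyJ⟩)) ?_).symm
    rw [Nat.card_zpowers, oy]
    have h4 : Nat.card (P ⊓ J' : Subgroup G) ∣ 3 ^ 2 :=
      (card_dvd_of_le inf_le_left).trans (by rw [h.card]; norm_num)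
    obtain ⟨k, hk, e⟩ := (Nat.dvd_prime_pow Nat.prime_three).1 h4
    interval_cases k
    · omega
    · omega
    · exact absurd ((eq_of_le_of_card_ge inf_le_left (by rw [e, h.card]; norm_num)).ge.trans
        inf_le_right) hnP
  rw [hQy] at hQ
  have hc : J' ⊓ nor (zpowers y) ≤ cen (zpowers y) := by
    intro w hw0
    obtain ⟨hw, hw'⟩ := mem_inf.1 hw0
    have h4 := conj_mem_of_mem_normalizer hw' (mem_zpowers y)
    have key : w ∈ P := by
      rcases (mem_zp oy).1 h4 with e | e | e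
      · exact absurd (by simpa using e) y1
      · rw [← h.cn y hyP y1, mem_c1, ← mul_inv_eq_iff_eq_mul, e]
      · have hwP := h.nor_of hyP y1 (zpowers_le.2 hyP h4)
        obtain ⟨x, hx, hxJ⟩ := SetLike.not_le_iff_exists.1 hnP
        have h5 : w * x * w⁻¹ * x⁻¹ ∈ zpowers y := hQy ▸
          mem_inf.2 ⟨mul_mem (conj_mem_of_mem_normalizer hwP hx) (inv_mem hx), by
            have := mul_mem hw (conj_mem_of_mem_normalizer (hLJ (hPL hx)) (inv_mem hw))
            simpa [mul_assoc] using this⟩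
        set d := w * x * w⁻¹ * x⁻¹ with hd
        have hdP : d ∈ P := zpowers_le.2 hyP h5
        have h6 : w * d * w⁻¹ = d⁻¹ := by
          obtain ⟨k, hk⟩ := h5
          rw [← hk]
          change w * y ^ k * w⁻¹ = (y ^ k)⁻¹
          rw [← conj_zpow, e, inv_zpow]
        have h7 : d⁻¹ * x ∈ P := mul_mem (inv_mem hdP) hx
        have h8 : d⁻¹ * x ≠ 1 := fun e' => hxJ (by
          rw [← inv_mul_eq_one.1 e']; exact zpowers_le.2 hyJ h5)
        rw [← h.cn _ h7 h8, mem_c1, ← mul_inv_eq_iff_eq_mul]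
        have h9 : d * d = d⁻¹ := by
          rw [eq_inv_iff_mul_eq_one, ← h.pow d hdP]; simp [pow_succ]
        calc w * (d⁻¹ * x) * w⁻¹ = (w * d * w⁻¹)⁻¹ * (w * x * w⁻¹ * x⁻¹) * x := by group
          _ = _ := by rw [h6, inv_inv, ← hd, h9]
    intro a ha
    exact h.comm (zpowers_le.2 hyP ha) key
  obtain ⟨R, -, hR, hnR, e⟩ := burnside hQ hc
  rw [h.triv hR ((hPL.trans hLJ).trans hnR), bot_sup_eq] at e
  refine hn (normal_of_top_le_normalizer fun g _ => ?_)
  obtain ⟨l, hl, e'⟩ := conj g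
  rw [← cj_eq_self_iff, e', cj_eq_self_iff]
  exact h.nor_of hyP y1 (zpowers_le.2 hyP (e ▸ conj_mem_of_mem_normalizer (hLJ hl) hyJ))

theorem card_A6 : Nat.card (alternatingGroup (Fin 6)) = 360 := by
  rw [nat_card_alternatingGroup]; simp [Nat.factorial]

theorem jobCC (hId : JobId.{u}) : JobCC.{u} := by
  intro K _ _ P h1 h2 h3
  have h : CC P := ⟨h1, h2, h3⟩
  by_cases hn : P.Normal
  · exact Or.inl hn
  right
  have hs := h.simple hn
  set L := normalClosure (P : Set K) with hL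
  have hPL : P ≤ L := le_normalClosure
  have h' := h.sub hPL
  have hc : Nat.card (L ⊓ nor P : Subgroup K) = Nat.card (nor (P.subgroupOf L)) := by
    rw [nor, nor, ← subgroupOf_normalizer_eq hPL, ← inf_subgroupOf_left,
      Nat.card_congr (subgroupOfEquivOfLe inf_le_left).toEquiv]
  have d1 := h'.card_nor
  have d2 := h'.index_nor
  have d3 := (nor (P.subgroupOf L)).card_mul_index
  have d4 : 9 ∣ Nat.card (nor (P.subgroupOf L)) := h'.card ▸ card_dvd_of_le le_normalizer
  refine ⟨L, inferInstance, hPL, hs, ?_, h.card_nor, ?_⟩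
  · have := (h.syl.of_le hPL le_top).frattini le_top (by rw [normalizer_eq_top])
    rwa [top_inf_eq, sup_comm] at this
  · rw [hc]
    have d5 := Nat.le_of_dvd (by norm_num) d1
    generalize Nat.card (nor (P.subgroupOf L)) = a at *
    generalize (nor (P.subgroupOf L)).index = b at *
    obtain ⟨c, rfl⟩ := d4
    have d6 : c ∣ 8 := Nat.dvd_of_mul_dvd_mul_left (by norm_num : 0 < 9) d1
    have d7 : c = 1 ∨ c = 2 ∨ c = 4 ∨ c = 8 := by
      have : c ≤ 8 := by omega
      interval_cases c <;> simp_all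
    rcases (hId L h'.hy).2 fun s hs => h'.V_bot hs with ⟨⟨e⟩⟩ | ⟨F, _, _, hF, ⟨e⟩⟩
    · refine Or.inl ⟨⟨e⟩, ?_⟩
      rw [Nat.card_congr e.toEquiv, card_A6] at d3
      rcases d7 with rfl | rfl | rfl | rfl <;> omega
    · refine Or.inr ⟨⟨F, _, _, hF, ⟨e⟩⟩, ?_⟩
      have := H57.card_psl_fin (F := F) (n := 3) (by omega)
      rw [hF, Fin.prod_univ_three, ← Nat.card_congr e.toEquiv] at this
      norm_num at this
      rcases d7 with rfl | rfl | rfl | rfl <;> omega

end H65.T3
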