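/- Tower T3, job A20: `N(W) / W ≅ A₆`. -/
import Cfsg.Agent.H65.T3CC
import Cfsg.Agent.H1.Coprime

set_option autoImplicit false
set_option linter.unusedSectionVars false

namespace H65.T3
open Subgroup Cfsg H98 H96.CG H48.T3 Equiv

universe u

abbrev A6 := alternatingGroup (Fin 6)

def a0 : A6 := ⟨swap 0 1 * swap 2 3, by rw [Perm.mem_alternatingGroup]; decide⟩

theorem f1 : ∀ a : A6, a * a = 1 → a ≠ 1 → ∃ g : A6, g * a0 = a * g := by decide +kernel

theorem f2 : ∀ b : A6, b * b = 1 → b ≠ 1 → a0 * b ≠ 1 → a0 * b * (a0 * b) = 1 →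
    ∃ s : A6, s * a0 = b * s ∧ s * b = a0 * b * s ∧ s * s * s = 1 := by decide +kernel

theorem f3 : ∃ c : A6, c * c * (c * c) = 1 ∧ c * c ≠ 1 := by decide +kernel

theorem a6_conj {a b : A6} (ha : a * a = 1) (a1 : a ≠ 1) (hb : b * b = 1) (b1 : b ≠ 1) :
    ∃ g : A6, g * a * g⁻¹ = b := by
  obtain ⟨g, hg⟩ := f1 a ha a1
  obtain ⟨k, hk⟩ := f1 b hb b1
  refine ⟨k * g⁻¹, ?_⟩
  rw [← mul_inv_eq_iff_eq_mul] at hg hk
  rw [← hg, ← hk]; group

theorem a6_four {a b : A6} (ha : a * a = 1) (a1 : a ≠ 1) (hb : b * b = 1) (b1 : b ≠ 1)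
    (h1 : a * b ≠ 1) (h2 : a * b * (a * b) = 1) :
    ∃ s : A6, s * a * s⁻¹ = b ∧ s * b * s⁻¹ = a * b ∧ s ^ 3 = 1 := by
  obtain ⟨g, hg⟩ := f1 a ha a1
  rw [← mul_inv_eq_iff_eq_mul] at hg
  subst hg
  obtain ⟨b, rfl⟩ : ∃ c, b = g * c * g⁻¹ := ⟨g⁻¹ * b * g, by group⟩
  rw [conj_mul] at hb h1 h2
  rw [conj_mul] at h2
  obtain ⟨s, e1, e2, e3⟩ := f2 b (by simpa using hb) (by simpa using b1) (by simpa using h1)
    (by simpa using h2)
  rw [← mul_inv_eq_iff_eq_mul] at e1 e2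
  refine ⟨g * s * g⁻¹, ?_, ?_, ?_⟩
  · rw [← e1]; group
  · calc _ = g * (s * b * s⁻¹) * g⁻¹ := by group
      _ = _ := by rw [e2]; group
  · rw [conj_pow, pow_three, ← mul_assoc s, e3]; simp

theorem a6_rk (A : Subgroup A6) (h : ∀ a ∈ A, a * a = 1) : Nat.card A ≤ 4 := by
  have hp : IsPGroup 2 A := isPGroup_iff_forall.2 fun a ha => ⟨1, by simpa [pow_two] using h a ha⟩
  obtain ⟨k, hk⟩ := IsPGroup.iff_card.1 hp
  have h1 := A.card_mul_index
  rw [hk, card_A6] at h1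
  by_contra hc
  rw [hk] at hc
  have h3 : 3 ≤ k := by
    by_contra h3
    have : k ≤ 2 := by omega
    interval_cases k <;> omega
  have hS : IsSyl 2 A ⊤ := isSyl_of_not_dvd_relIndex le_top hp (by
    rw [relIndex_top_right]
    rintro ⟨m, hm⟩
    obtain ⟨j, rfl⟩ := Nat.exists_eq_add_of_le h3
    rw [hm, pow_add] at h1
    have : 16 ∣ 360 := ⟨2 ^ j * m, by rw [← h1]; ring⟩
    omega)
  obtain ⟨c, c1, c2⟩ := f3
  obtain ⟨g, -, hg⟩ := hS.exists_cj_le (isPGroup_zpowers (x := c) (k := 2)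
    (by rw [← c1]; simp [pow_succ, mul_assoc])) le_top
  have := h _ (hg (conj_mem_cj (mem_zpowers c)))
  rw [conj_mul] at this
  exact c2 (by simpa using this)

theorem card_le_of_orbit {K : Type*} [Group K] [Finite K] (H : Subgroup K) (a : K) (S : Set K)
    (hS : ∀ g ∈ H, g * a * g⁻¹ ∈ S) : Nat.card H ≤ Nat.card (cen1 a) * S.ncard := by
  letI : MulAction H K := MulAction.compHom K (MulAut.conj.comp H.subtype)
  rw [← (MulAction.stabilizer H a).card_mul_index, MulAction.index_stabilizer]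
  refine Nat.mul_le_mul (Nat.card_le_card_of_injective
    (fun g => (⟨g.1.1, mem_c1.2 (mul_inv_eq_iff_eq_mul.1 g.2)⟩ : cen1 a))
    fun g g' e => Subtype.ext (Subtype.ext (congrArg (fun z : cen1 a => (z : K)) e)))
    (Set.ncard_le_ncard ?_)
  rintro _ ⟨g, rfl⟩
  exact hS g g.2

theorem cne {K : Type*} [Group K] {a : K} (h : a ≠ 1) (g : K) : g * a * g⁻¹ ≠ 1 := by
  simpa using h

theorem rel_card {K : Type*} [Group K] (W A : Subgroup K) :
    W.relIndex A * Nat.card (A ⊓ W : Subgroup K) = Nat.card A := by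
  rw [← (W.subgroupOf A).index_mul_card, relIndex, ← inf_subgroupOf_left W A,
    Nat.card_congr (subgroupOfEquivOfLe inf_le_left).toEquiv]

variable {G : Type u} [Group G] [Finite G] (B : Bs G) {x y u : G}
include B

theorem e_cm (e : Edge x y u) : Cm (V x) (V y) :=
  (cm_of_le_cen ((le_sup_right.trans e.n1.ge).trans (B.Nc x))).symm

theorem e_card (e : Edge x y u) : Nat.card (N x) = 16 := by
  rw [e.n1]; exact B.toHy.card16 e.toPu e.v1 e.v2 (e_cm B e)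

theorem e_mem (e : Edge x y u) {w : G} : w ∈ N x ↔ ∃ a ∈ V x, ∃ b ∈ V y, w = a * b := by
  rw [e.n1]; exact mem_sup_left_norm (le_normalizer_of_le_centralizer (e_cm B e).le_cen)

theorem e_c2 (e : Edge x y u) : N x ≤ cen (V y) := e.n1.trans e.n2.symm ▸ B.Nc y

theorem e_comm (e : Edge x y u) {a b : G} (ha : a ∈ N x) (hb : b ∈ N x) : a * b = b * a := by
  obtain ⟨c, hc, d, hd, rfl⟩ := (e_mem B e).1 hb
  rw [← mul_assoc, ← mem_centralizer_iff.1 (B.Nc x ha) c hc, mul_assoc,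
    ← mem_centralizer_iff.1 (e_c2 B e ha) d hd, mul_assoc]

theorem e_sq (e : Edge x y u) {a : G} (ha : a ∈ N x) : a * a = 1 := by
  obtain ⟨c, hc, d, hd, rfl⟩ := (e_mem B e).1 ha
  rw [mul_assoc, ← mul_assoc d, ← e_cm B e c hc d hd, mul_assoc, B.toHy.sq e.oy hd, mul_one,
    B.toHy.sq e.ox hc]

theorem e_uniq (e : Edge x y u) {a b a' b' : G} (ha : a ∈ V x) (hb : b ∈ V y) (ha' : a' ∈ V x)
    (hb' : b' ∈ V y) (h : a * b = a' * b') : a = a' ∧ b = b' := by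
  have h1 : a'⁻¹ * a ∈ V x ⊓ V y := mem_inf.2 ⟨mul_mem (inv_mem ha') ha, by
    rw [show a'⁻¹ * a = b' * b⁻¹ by
      calc _ = a'⁻¹ * (a * b) * b⁻¹ := by group
        _ = _ := by rw [h]; group]
    exact mul_mem hb' (inv_mem hb)⟩
  rw [B.toHy.inf_bot e.toPu, mem_bot, inv_mul_eq_one] at h1
  subst h1
  exact ⟨rfl, mul_left_cancel h⟩

theorem e_three (e : Edge x y u) {s : G} (hs : s ∈ N x) (h3 : s ^ 3 = 1) : s = 1 := by
  rwa [pow_succ, pow_two, e_sq B e hs, one_mul] at h3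

theorem e_Vs (e : Edge x y u) {s : G} (hs : s ∈ Pl x y) (s1 : s ≠ 1) (h : V s ≤ N x)
    (hb : V s ≠ ⊥) : s ∈ zpowers x ∨ s ∈ zpowers y := by
  by_contra hc
  push Not at hc
  have os := e.toPu.ord hs s1
  have h1 := (e.toPu.of_mem hs (left_mem_Pl x y) s1 (zp_symm e.ox os hc.1)).1
  have h2 := (e.toPu.of_mem hs (right_mem_Pl x y) s1 (zp_symm e.oy os hc.2)).1
  have h3 := B.toHy.le_of_le_sup h1 (e.toPu.le_nor_V (right_mem_Pl x y) (left_mem_Pl x y))
    (le_normalizer_of_le_centralizer (e_cm B e).le_cen) (e.n1 ▸ h)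
  exact hb (by rw [← B.toHy.inf_bot h2]; exact (inf_eq_left.2 h3).symm)

theorem e_syl (h : Pu x y u) : IsSyl 3 (Pl x y) ⊤ := by
  refine isSyl_of_not_dvd_relIndex le_top h.isP ?_
  rw [relIndex_top_right]
  rintro ⟨m, hm⟩
  refine B.no27 ⟨m, ?_⟩
  rw [← (Pl x y).card_mul_index, h.card, hm]; ring

/-- elements of `N(W)` that normalise `W P` -/
theorem e_frat (e : Edge x y u) {g : G} (hg : g ∈ nor (N x))
    (h : cj g (Pl x y) ≤ N x ⊔ Pl x y) : ∃ k ∈ N x ⊔ Pl x y,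
      k * g * x * (k * g)⁻¹ ∈ zpowers x ∨ k * g * x * (k * g)⁻¹ ∈ zpowers y := by
  obtain ⟨k, hk, h1⟩ := ((e_syl B e.toPu).of_le le_sup_right le_top).exists_cj_le
    (isPGroup_cj g e.toPu.isP) h
  rw [cj_cj] at h1
  have h2 : k * g ∈ nor (N x) := mul_mem (sup_le le_normalizer
    (e.toPu.le_nor_N (left_mem_Pl x y)) hk) hg
  refine ⟨k, hk, e_Vs B e (h1 (conj_mem_cj (left_mem_Pl x y))) (cne (ne_one_of e.ox) _) ?_ ?_⟩
  · rw [← V_cj]; exact cj_le_of_le (B.VN x e.ox) h2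
  · rw [← V_cj]; exact fun h3 => e.v1 (cj_eq_bot_iff.1 h3)

theorem cen_eq (h : Pu x y u) {s : G} (hs : s ∈ Pl x y) (s1 : s ≠ 1) : cen1 s = V s ⊔ Pl x y := by
  have os := h.ord hs s1
  refine (eq_of_le_of_card_ge (sup_le (fun c hc => mem_c1.2 (B.toHy.cs os hc))
    fun c hc => mem_c1.2 (h.comm hc hs)) ?_).symm
  rw [B.cardC s os]
  refine Nat.le_of_dvd Nat.card_pos (Nat.Coprime.mul_dvd_of_dvd_of_dvd ?_
    (h.card ▸ card_dvd_of_le le_sup_right) (card_dvd_of_le le_sup_left))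
  rcases B.cardV s os with e | e
  · rw [e, card_bot]; simp
  · rw [e]; norm_num

theorem e_Vle (hA : CaseA G) (e : Edge x y u) {s v : G} (hs : s ∈ Pl x y) (s1 : s ≠ 1)
    (hv : v ∈ V s) (hM : v ∈ nor (N x)) : v ∈ N x := by
  by_cases v1 : v = 1
  · rw [v1]; exact one_mem _
  have hP := e.toPu.le_nor_N (left_mem_Pl x y)
  obtain ⟨r, hr, er⟩ := e.toPu.extend hs s1
  have h1 : V s ≤ nor (N x) := (B.toHy.le_or hr (le_normalizer
    (hP (er ▸ right_mem_Pl s r)))).resolve_left fun h => v1 (mem_bot.1 (h ▸ mem_inf.2 ⟨hv, hM⟩))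
  have hQ : IsPGroup 2 (V s ⊔ N x : Subgroup G) :=
    (B.toHy.isP hr.ox).to_sup_of_normal_right' (B.Np x) h1
  have h2 : Pl x y ≤ nor (V s ⊔ N x) := le_normalizer_sup (e.toPu.le_nor_V hs) hP
  obtain ⟨r', hr', r1, hb, -, -, hc⟩ := B.cenq x y u e.toPu _ ⊥ hQ (h2 (left_mem_Pl x y))
    (h2 (right_mem_Pl x y)) (le_normalizer_bot ⊤ trivial) (le_normalizer_bot ⊤ trivial) bot_le
    (le_normalizer_bot _) fun h => v1 (mem_bot.1 (h ▸ mem_sup_left hv))
  have or' := e.toPu.ord hr' r1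
  have h3 := B.Ntwo r' or' hb _ (le_centralizer_iff.1
    (commutator_eq_bot_iff_le_centralizer.1 (le_bot_iff.1 hc))) hQ
  obtain ⟨s', u', e'⟩ := hA r' or' hb
  rw [eq_of_le_of_card_ge (le_sup_right.trans h3) (by rw [e_card B e, e_card B e'])]
  exact h3 (mem_sup_left hv)

theorem e_hom (hC : JobCC.{u}) (hA : CaseA G) (e : Edge x y u)
    (hg : ∃ g ∈ nor (N x), cj g (V x) ≠ V x ∧ cj g (V x) ≠ V y) :
    ∃ ψ : nor (N x) →* A6, Function.Surjective ψ ∧ ∀ m, ψ m = 1 ↔ (m : G) ∈ N x := by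
  have hP := e.toPu.le_nor_N (left_mem_Pl x y)
  let φ := QuotientGroup.mk' ((N x).subgroupOf (nor (N x)))
  have hφ : ∀ m, φ m = 1 ↔ (m : G) ∈ N x := fun m => QuotientGroup.eq_one_iff m
  let P := ((Pl x y).subgroupOf (nor (N x))).map φ
  have mP : ∀ m, φ m ∈ P ↔ (m : G) ∈ N x ⊔ Pl x y := fun m => by
    rw [← mem_comap, comap_map_eq, QuotientGroup.ker_mk', ← subgroupOf_sup hP le_normalizer,
      sup_comm, mem_subgroupOf]
  have cP : CC P := by
    refine ⟨?_, ?_, ?_⟩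
    · rw [← relIndex_ker, QuotientGroup.ker_mk', relIndex_subgroupOf hP, ← inf_relIndex_right,
        (eq_bot_iff_forall _).2 fun s hs => e_three B e (mem_inf.1 hs).1
          (e.toPu.pow3 (mem_inf.1 hs).2), relIndex_bot_left, e.toPu.card]
    · rintro _ ⟨s, hs, rfl⟩
      rw [← map_pow, show s ^ 3 = 1 from Subtype.ext (e.toPu.pow3 hs), map_one]
    · rintro _ ⟨s, hs, rfl⟩ s1
      replace hs : (s : G) ∈ Pl x y := hs
      have s1' : (s : G) ≠ 1 := fun h => s1 (by rw [show s = 1 from Subtype.ext h, map_one])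
      refine le_antisymm (fun c hc => ?_) ?_
      · obtain ⟨g, rfl⟩ := QuotientGroup.mk'_surjective _ c
        obtain ⟨n, hn, h1⟩ := H1.exists_centralizer_mem_coset' (A := zpowers (s : G)) (N := N x)
          (zpowers_le.2 s.2) (by
            rw [Nat.card_zpowers, e.toPu.ord hs s1', e_card B e]; norm_num)
          (Or.inl inferInstance) g (by
            rintro _ ⟨k, rfl⟩
            refine (hφ (s ^ k * g * (s ^ k)⁻¹ * g⁻¹)).1 ?_
            have : Commute (φ s ^ k) (φ g) := (show Commute (φ g) (φ s) from mem_c1.1 hc).symm.zpow_left k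
            rw [map_mul, map_mul, map_mul, map_inv, map_inv, map_zpow, this.eq]; simp)
        have h2 : n * g ∈ V (s : G) ⊔ Pl x y := cen_eq B e.toPu hs s1' ▸
          mem_c1.2 (h1 s (mem_zpowers _)).symm
        obtain ⟨v, hv, p, hp, h3⟩ := (mem_sup_right_norm (e.toPu.le_nor_V hs)).1 h2
        have h4 := e_Vle B hA e hs s1' hv (by
          rw [← mul_inv_eq_iff_eq_mul] at h3
          exact h3 ▸ mul_mem (mul_mem (le_normalizer hn) g.2) (inv_mem (hP hp)))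
        refine (mP g).2 ?_
        rw [← eq_inv_mul_iff_mul_eq] at h3
        rw [h3]
        exact mul_mem (inv_mem (mem_sup_left hn)) (mul_mem (mem_sup_left h4) (mem_sup_right hp))
      · rintro _ ⟨t, ht, rfl⟩
        rw [mem_c1, ← map_mul, ← map_mul]
        exact congrArg φ (Subtype.ext (e.toPu.comm ht hs))
  have frat : ∀ g : nor (N x), φ g ∈ nor P → ∃ k ∈ N x ⊔ Pl x y,
      k * g * x * (k * g)⁻¹ ∈ zpowers x ∨ k * g * x * (k * g)⁻¹ ∈ zpowers y := by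
    intro g hg
    refine e_frat B e g.2 ?_
    rintro _ ⟨p, hp, rfl⟩
    refine (mP (g * ⟨p, hP hp⟩ * g⁻¹)).1 ?_
    rw [map_mul, map_mul, map_inv]
    exact conj_mem_of_mem_normalizer hg ⟨⟨p, hP hp⟩, hp, rfl⟩
  have hWP : N x ⊔ Pl x y ≤ nor (N x) := sup_le le_normalizer hP
  rcases hC _ P cP.card cP.pow cP.cn with hn | ⟨L, -, -, -, hL, -, hc⟩
  · exfalso
    obtain ⟨g, hg, g1, g2⟩ := hg
    obtain ⟨k, hk, h1⟩ := frat ⟨g, hg⟩ ((normalizer_eq_top P).ge trivial)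
    have k1 : k ∈ nor (V x) := sup_le (le_normalizer_of_le_centralizer (B.Nc x))
      (e.toPu.le_nor_V (left_mem_Pl x y)) hk
    have k2 : k ∈ nor (V y) := sup_le (le_normalizer_of_le_centralizer (e_c2 B e))
      (e.toPu.le_nor_V (right_mem_Pl x y)) hk
    have h2 : k * g * x * (k * g)⁻¹ ≠ 1 := cne (ne_one_of e.ox) _
    rcases h1 with h1 | h1
    · have := V_of_zp e.ox h1 h2
      rw [← V_cj, ← cj_cj] at this
      exact g1 (cj_inj.1 (this.trans (cj_eq_self k1).symm))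
    · have := V_of_zp e.oy h1 h2
      rw [← V_cj, ← cj_cj] at this
      exact g2 (cj_inj.1 (this.trans (cj_eq_self k2).symm))
  · let x' : nor (N x) := ⟨x, hP (left_mem_Pl x y)⟩
    let y' : nor (N x) := ⟨y, hP (right_mem_Pl x y)⟩
    have hx' : φ x' ∈ P := ⟨x', left_mem_Pl x y, rfl⟩
    have x1 : φ x' ≠ 1 := fun h => ne_one_of e.ox (e_three B e ((hφ x').1 h) (pow3_of e.ox))
    have h36 := card_le_of_orbit (nor P) (φ x') {φ x', (φ x')⁻¹, φ y', (φ y')⁻¹} (by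
      intro c hc
      obtain ⟨g, rfl⟩ := QuotientGroup.mk'_surjective _ c
      obtain ⟨k, hk, h1⟩ := frat g hc
      let k' : nor (N x) := ⟨k, hWP hk⟩
      have h2 : φ g * φ x' * (φ g)⁻¹ = φ (k' * g * x' * (k' * g)⁻¹) := by
        have hc' : φ g ∈ nor P := hc
        have := cP.comm ((mP k').2 hk) (conj_mem_of_mem_normalizer hc' hx')
        simp only [map_mul, map_inv]
        calc _ = φ k' * (φ g * φ x' * (φ g)⁻¹) * (φ k')⁻¹ := by rw [this]; group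
          _ = _ := by group
      have h3 : k * g * x * (k * g)⁻¹ ≠ 1 := cne (ne_one_of e.ox) _
      change φ g * φ x' * (φ g)⁻¹ ∈ _
      rw [h2, ← map_inv, ← map_inv]
      rcases h1 with h1 | h1
      · rcases (mem_zp e.ox).1 h1 with h | h | h
        · exact absurd h h3
        · exact Or.inl (congrArg φ (Subtype.ext h))
        · exact Or.inr (Or.inl (congrArg φ (Subtype.ext h)))
      · rcases (mem_zp e.oy).1 h1 with h | h | h
        · exact absurd h h3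
        · exact Or.inr (Or.inr (Or.inl (congrArg φ (Subtype.ext h))))
        · exact Or.inr (Or.inr (Or.inr (congrArg φ (Subtype.ext h)))))
    rw [cP.cn _ hx' x1, cP.card] at h36
    have h4 : ({φ x', (φ x')⁻¹, φ y', (φ y')⁻¹} : Set _).ncard ≤ 4 :=
      (Set.ncard_insert_le _ _).trans (Nat.succ_le_succ ((Set.ncard_insert_le _ _).trans
        (Nat.succ_le_succ ((Set.ncard_insert_le _ _).trans (by simp)))))
    have h5 := card_le_of_le (inf_le_right : L ⊓ nor P ≤ nor P)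
    rcases hc with ⟨⟨f⟩, hc⟩ | ⟨-, hc⟩
    · have h6 : L = ⊤ := by
        rw [← hL, ← eq_of_le_of_card_ge (inf_le_right : L ⊓ nor P ≤ nor P) (by omega)]
        exact (sup_inf_self).symm
      subst h6
      refine ⟨(f.toMonoidHom.comp topEquiv.symm.toMonoidHom).comp φ,
        (f.surjective.comp topEquiv.symm.surjective).comp (QuotientGroup.mk'_surjective _),
        fun m => ?_⟩
      rw [← hφ]
      simp
    · omega

theorem e_free (e : Edge x y u) : Nat.card (N x ⊓ cen1 u : Subgroup G) = 4 := by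
  obtain ⟨t, ht, t1, ut, hu⟩ := B.toHy.u_fix e.toPu e.v1
  obtain ⟨r, hr, r1, ur, hu'⟩ := B.toHy.u_fix e.toPu.symm e.v2
  have h : ((N x ⊓ cen1 u : Subgroup G) : Set G) = {1, t, r, t * r} := by
    ext w
    simp only [SetLike.mem_coe, mem_inf, mem_c1, Set.mem_insert_iff, Set.mem_singleton_iff]
    constructor
    · rintro ⟨hw, h⟩
      obtain ⟨a, ha, b, hb, rfl⟩ := (e_mem B e).1 hw
      obtain ⟨h1, h2⟩ := e_uniq B e
        (conj_mem_of_mem_normalizer (e.toPu.u_nor_V (left_mem_Pl x y)) ha)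
        (conj_mem_of_mem_normalizer (e.toPu.u_nor_V (right_mem_Pl x y)) hb) ha hb
        (by rw [conj_mul, ← h]; group)
      rcases hu a ha (mul_inv_eq_iff_eq_mul.1 h1) with rfl | rfl <;>
        rcases hu' b hb (mul_inv_eq_iff_eq_mul.1 h2) with rfl | rfl <;> simp
    · have m1 : t ∈ N x := (e_mem B e).2 ⟨t, ht, 1, one_mem _, by simp⟩
      have m2 : r ∈ N x := (e_mem B e).2 ⟨1, one_mem _, r, hr, by simp⟩
      rintro (rfl | rfl | rfl | rfl)
      · simp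
      · exact ⟨m1, ut.symm⟩
      · exact ⟨m2, ur.symm⟩
      · exact ⟨mul_mem m1 m2, by rw [mul_assoc, ← ur, ← mul_assoc, ← ut, mul_assoc]⟩
  have d1 : t ≠ r := fun h => t1 (e_uniq B e ht (one_mem _) (one_mem _) hr (by simp [h])).1
  have d2 : 1 ≠ t * r := fun h =>
    t1 (e_uniq B e (one_mem _) (one_mem _) ht hr (by simp [← h])).1.symm
  rw [← SetLike.coe_sort_coe, Nat.card_coe_set_eq, h, Set.ncard_insert_of_notMem (by
    simp [t1.symm, r1.symm, d2]), Set.ncard_insert_of_notMem (by simp [d1, r1]),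
    Set.ncard_pair (by simp [t1])]

theorem e_tr (e : Edge x y u) (hg : ∃ g ∈ nor (N x), cj g (V x) ≠ V x ∧ cj g (V x) ≠ V y)
    (hc : Nat.card (nor (N x)) = 5760) :
    ∀ w ∈ N x, ∀ w' ∈ N x, w ≠ 1 → w' ≠ 1 → ∃ g ∈ nor (N x), g * w * g⁻¹ = w' := by
  have hP := e.toPu.le_nor_N (left_mem_Pl x y)
  let R : G → G → Prop := fun a b => ∃ g ∈ nor (N x), g * a * g⁻¹ = b
  have rs : ∀ {a b}, R a b → R b a := by
    rintro a _ ⟨g, hg, rfl⟩
    exact ⟨g⁻¹, inv_mem hg, by group⟩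
  have rt : ∀ {a b c}, R a b → R b c → R a c := by
    rintro a _ _ ⟨g, hg, rfl⟩ ⟨k, hk, rfl⟩
    exact ⟨k * g, mul_mem hk hg, by group⟩
  have hy : zpowers y ≤ nor (N x) := zpowers_le.2 (hP (right_mem_Pl x y))
  have hx : zpowers x ≤ nor (N x) := zpowers_le.2 (hP (left_mem_Pl x y))
  have fix : ∀ {s p b : G}, orderOf s = 3 → p ∈ zpowers s → b ∈ V s → p * b * p⁻¹ = b := by
    rintro s _ b hs ⟨k, rfl⟩ hb
    rw [mul_inv_eq_iff_eq_mul]
    exact ((show Commute b s from B.toHy.cs hs hb).zpow_right k).symm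
  have r1 : ∀ {a a' b}, a ∈ V x → a' ∈ V x → a ≠ 1 → a' ≠ 1 → b ∈ V y → R (a * b) (a' * b) := by
    intro a a' b ha ha' a1 a1' hb
    obtain ⟨p, hp, h⟩ := B.toHy.trans e.toPu ha a1 ha' a1'
    exact ⟨p, hy hp, by rw [← conj_mul, h, fix e.oy hp hb]⟩
  have r2 : ∀ {a b b'}, a ∈ V x → b ∈ V y → b' ∈ V y → b ≠ 1 → b' ≠ 1 → R (a * b) (a * b') := by
    intro a b b' ha hb hb' b1 b1'
    obtain ⟨p, hp, h⟩ := B.toHy.trans e.toPu.symm hb b1 hb' b1'
    exact ⟨p, hx hp, by rw [← conj_mul, h, fix e.ox hp ha]⟩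
  obtain ⟨⟨t, ht⟩, t1⟩ := ne_bot_iff_exists_ne_one.1 e.v1
  replace t1 : t ≠ 1 := fun h => t1 (Subtype.ext h)
  obtain ⟨⟨r, hr⟩, r1'⟩ := ne_bot_iff_exists_ne_one.1 e.v2
  replace r1' : r ≠ 1 := fun h => r1' (Subtype.ext h)
  have c1 := B.toHy.card4 e.ox e.v1
  have c2 := B.toHy.card4 e.oy e.v2
  have rx : ∀ {a}, a ∈ V x → a ≠ 1 → R t a := fun ha a1 => by
    simpa using r1 ht ha t1 a1 (one_mem _)
  have rA : R t (t * r) := by
    obtain ⟨g, hg, g1, g2⟩ := hg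
    obtain ⟨a, ha, ha1⟩ := SetLike.not_le_iff_exists.1 fun h : cj g (V x) ≤ V x =>
      g1 (eq_of_le_of_card_ge h (card_cj _ _).ge)
    obtain ⟨b, hb, hb1⟩ := SetLike.not_le_iff_exists.1 fun h : cj g (V x) ≤ V y =>
      g2 (eq_of_le_of_card_ge h (by rw [card_cj, c1, c2]))
    obtain ⟨c, hc, c1, c2⟩ : ∃ c ∈ cj g (V x), c ∉ V x ∧ c ∉ V y := by
      by_cases h1 : a ∈ V y
      · by_cases h2 : b ∈ V x
        · exact ⟨a * b, mul_mem ha hb, fun h => ha1 ((mul_mem_cancel_right h2).1 h),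
            fun h => hb1 ((mul_mem_cancel_left h1).1 h)⟩
        · exact ⟨b, hb, h2, hb1⟩
      · exact ⟨a, ha, ha1, h1⟩
    obtain ⟨d, hd, f, hf, h⟩ := (e_mem B e).1 (cj_le_of_le (B.VN x e.ox) hg hc)
    have d1 : d ≠ 1 := by rintro rfl; exact c2 (by simpa [h] using hf)
    have f1 : f ≠ 1 := by rintro rfl; exact c1 (by simpa [h] using hd)
    obtain ⟨z, hz, rfl⟩ := hc
    have z1 : z ≠ 1 := by rintro rfl; exact c1 (by rw [map_one]; exact one_mem _)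
    exact rt (rx hz z1) (rt ⟨g, hg, h⟩ (rt (r1 hd ht d1 t1 hf) (r2 ht hf hr f1 r1')))
  have rD : ∀ {a b}, a ∈ V x → b ∈ V y → a ≠ 1 → b ≠ 1 → R t (a * b) := fun ha hb a1 b1 =>
    rt rA (rt (r1 ht ha t1 a1 hr) (r2 ha hr hb r1' b1))
  have ry : ∀ {b}, b ∈ V y → b ≠ 1 → R t b := by
    have h1 : ¬ nor (N x) ≤ nor (V y) := fun h => by
      have := card_le_of_le h
      rw [hc, B.cardNV y e.oy e.v2, e.n2, ← e.n1, e_card B e] at this
      omega
    obtain ⟨g, hg, hg'⟩ := SetLike.not_le_iff_exists.1 h1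
    obtain ⟨_, ⟨z, hz, rfl⟩, h2⟩ := SetLike.not_le_iff_exists.1 fun h : cj g (V y) ≤ V y =>
      hg' (mem_normalizer_of_cj_le h)
    have z1 : z ≠ 1 := by rintro rfl; exact h2 (by rw [map_one]; exact one_mem _)
    obtain ⟨d, hd, f, hf, h⟩ := (e_mem B e).1 (conj_mem_of_mem_normalizer hg
      (e.n1 ▸ mem_sup_right hz : z ∈ N x))
    have d1 : d ≠ 1 := by
      rintro rfl
      refine h2 ?_
      change g * z * g⁻¹ ∈ _
      simpa [h] using hf
    have h3 : R t (d * f) := by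
      by_cases f1 : f = 1
      · rw [f1, mul_one]; exact rx hd d1
      · exact rD hd hf d1 f1
    intro b hb b1
    exact rt h3 (rt (rs ⟨g, hg, h⟩) (by simpa using r2 (one_mem _) hz hb z1 b1))
  have all : ∀ w ∈ N x, w ≠ 1 → R t w := by
    intro w hw w1
    obtain ⟨a, ha, b, hb, rfl⟩ := (e_mem B e).1 hw
    by_cases a1 : a = 1
    · rw [a1, one_mul] at w1 ⊢; exact ry hb w1
    by_cases b1 : b = 1
    · rw [b1, mul_one]; exact rx ha a1
    exact rD ha hb a1 b1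
  exact fun w hw w' hw' w1 w1' => rt (rs (all w hw w1)) (all w' hw' w1')

omit B in
theorem jobA20 (hC : JobCC.{u}) : JobA20.{u} := by
  intro G _ _ B hA x y u e hg
  obtain ⟨ψ, hs, hψ⟩ := e_hom B hC hA e hg
  have hk : ψ.ker = (N x).subgroupOf (nor (N x)) := by
    ext m; rw [MonoidHom.mem_ker, hψ, mem_subgroupOf]
  have hc : Nat.card (nor (N x)) = 5760 := by
    rw [← ψ.ker.index_mul_card, index_ker, MonoidHom.range_eq_top.2 hs, card_top, card_A6, hk,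
      Nat.card_congr (subgroupOfEquivOfLe le_normalizer).toEquiv, e_card B e]
  have hu : u ∈ nor (N x) := e.toPu.u_nor_N (left_mem_Pl x y)
  have hu' : u ∉ N x := fun h => by
    have hx := e.toPu.le_nor_N (left_mem_Pl x y) (left_mem_Pl x y)
    have h1 := mul_mem h (conj_mem_of_mem_normalizer hx (inv_mem h))
    rw [← mul_assoc, ← mul_assoc, e.ux, ← mul_inv_rev, cube_of e.ox, inv_inv] at h1
    exact ne_one_of e.ox (e_three B e h1 (pow3_of e.ox))
  have sq : ∀ a : nor (N x), (a : G) * a ∈ N x → ψ a * ψ a = 1 := fun a h => by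
    rw [← map_mul, hψ]; exact h
  have one : ∀ a ∈ nor (N x), a ∉ N x → a * a ∈ N x → ∃ g ∈ nor (N x), g * a * g⁻¹ * u ∈ N x := by
    intro a ha a1 a2
    have u2 := sq ⟨u, hu⟩ (by rw [e.uu]; exact one_mem _)
    obtain ⟨g, hg⟩ := a6_conj (sq ⟨a, ha⟩ a2) (fun h => a1 ((hψ _).1 h)) u2
      (fun h => hu' ((hψ _).1 h))
    obtain ⟨g, rfl⟩ := hs g
    refine ⟨g, g.2, (hψ (g * ⟨a, ha⟩ * g⁻¹ * ⟨u, hu⟩)).1 ?_⟩
    rw [map_mul, map_mul, map_mul, map_inv, hg, u2]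
  refine ⟨hc, e_tr B e hg hc, one, fun a ha a1 a2 => ?_, fun A hA hE => ?_,
    fun a ha b hb a1 b1 c1 a2 b2 c2 => ?_⟩
  · obtain ⟨g, hg, h⟩ := one a ha a1 a2
    rw [← card_cj g, cj_inf, cj_eq_self hg, cj_cen1, ← e_free B e]
    congr 2
    ext w
    rw [mem_inf, mem_inf, mem_c1, mem_c1]
    refine and_congr_right fun hw => ?_
    have h1 : g * a * g⁻¹ = g * a * g⁻¹ * u * u := by rw [mul_assoc _ u, e.uu, mul_one]
    rw [h1, ← mul_assoc w, e_comm B e hw h, mul_assoc _ w, mul_assoc _ u w, mul_right_inj]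
  · have h := a6_rk ((A.subgroupOf (nor (N x))).map ψ) (by
      rintro _ ⟨a, ha, rfl⟩
      rw [← map_mul, show a * a = 1 from Subtype.ext (by simpa [pow_two] using hE.2 a ha), map_one])
    rw [← relIndex_ker, hk, relIndex_subgroupOf hA] at h
    rw [← rel_card (N x) A]
    exact Nat.mul_le_mul_right _ h
  · obtain ⟨s, s1, s2, s3⟩ := a6_four (sq ⟨a, ha⟩ a2) (fun h => a1 ((hψ _).1 h)) (sq ⟨b, hb⟩ b2)
      (fun h => b1 ((hψ _).1 h)) (fun h => c1 ((hψ (⟨a, ha⟩ * ⟨b, hb⟩)).1 (by rw [map_mul, h])))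
      (by rw [← map_mul]; exact sq (⟨a, ha⟩ * ⟨b, hb⟩) c2)
    obtain ⟨m, rfl⟩ := hs s
    have h4 : ψ (m ^ 4) = ψ m := by rw [map_pow, pow_succ, s3, one_mul]
    have h3 : (m : G) ^ 3 ∈ N x := (hψ (m ^ 3)).1 (by rw [map_pow, s3])
    refine ⟨(m ^ 4 : nor (N x)), (m ^ 4).2, ord3_of ?_ fun h => ?_,
      (hψ (m ^ 4 * ⟨a, ha⟩ * (m ^ 4)⁻¹ * ⟨b, hb⟩)).1 ?_,
      (hψ (m ^ 4 * ⟨b, hb⟩ * (m ^ 4)⁻¹ * (⟨a, ha⟩ * ⟨b, hb⟩))).1 ?_⟩
    · change ((m : G) ^ 4) ^ 3 = 1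
      rw [← pow_mul, show 4 * 3 = 3 * (2 * 2) by norm_num, pow_mul, pow_mul, pow_two (_ ^ 3),
        e_sq B e h3, one_pow]
    · rw [show m ^ 4 = 1 from Subtype.ext h, map_one] at h4
      rw [← h4, one_mul, inv_one, mul_one] at s1
      refine c1 ((hψ (⟨a, ha⟩ * ⟨b, hb⟩)).1 ?_)
      rw [map_mul, s1, sq ⟨b, hb⟩ b2]
    · rw [map_mul, map_mul, map_mul, map_inv, h4, s1, sq ⟨b, hb⟩ b2]
    · rw [map_mul, map_mul, map_mul, map_inv, h4, s2, ← map_mul]
      exact sq (⟨a, ha⟩ * ⟨b, hb⟩) c2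

end H65.T3
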