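/- Tower NF, chapter TP: the reversed edge and the kernel argument (job TP-RV). -/
import Cfsg.Agent.H86.TP.Spec
import Cfsg.Agent.H14.FEKit

set_option autoImplicit false

namespace H65.TpRV

open Cfsg Subgroup MulAction H14 H98 H1.Gold H31.S2 H14.GC H14.FE H14.NF H86.TP
open scoped commutatorElement

universe u

theorem rv (cjj : CJ.{u}) (ld0 : LD0.{u}) (lp0 : LP0.{u}) : RV.{u} := by
  intro G _ _ Q Q' T R E L
  have tq' : TQ Q' := cjj G Q L.tq Q' L.vx
  have vx' : Vx Q' Q := by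
    obtain ⟨g, hg⟩ := L.vx
    exact ⟨g⁻¹, by rw [hg, cj_cj, inv_mul_cancel, cj_one]⟩
  have EC : E ≤ cen T := L.eq ▸ inf_le_right
  have ER : E ≤ R := L.eq ▸ inf_le_left
  have TC : T ≤ cen E := le_centralizer_iff.1 EC
  have pU : IsPGroup 2 (E ⊔ T : Subgroup G) :=
    IsPGroup.to_sup_of_normal_right' L.sylE.isPGroup L.syl.isPGroup
      (EC.trans (centralizer_le_normalizer _))
  have EN : E ≤ nor Q' := L.sylE.le.trans inf_le_right
  have TQ' : T ≤ Q' := L.syl.le.trans inf_le_left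
  obtain ⟨P, -, hl, hR⟩ := exists_inv_syl pU (sup_le EN (TQ'.trans le_normalizer))
  have nR : E ≤ nor (P ⊓ Q') :=
    le_normalizer_inf ((le_sup_left.trans hl).trans le_normalizer) EN
  have nb : E ≠ ⊥ := by
    obtain ⟨d, hd, h2⟩ := four_exists_inv L.fourE
    rintro rfl
    exact h2.1 (mem_bot.1 hd)
  have nf : ¬ IsSyl 2 E Q := fun h => L.lt (h.eq_of_le L.sylR.isPGroup ER L.sylR.le).le
  have L' := (ld0 G Q' tq' Q E (P ⊓ Q') vx' L.ne.symm L.sylE nb hR nR).2 nf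
  have e : P ⊓ Q' ⊓ cen E = T :=
    L.syl.eq_of_le L'.sylE.isPGroup (le_inf (le_inf (le_sup_right.trans hl) TQ') TC) L'.sylE.le
  rw [e] at L'
  exact ⟨_, _, lp0 G Q' Q E _ T L'⟩

theorem hk : HK.{u} := by
  intro G _ _ D W S a hW hD hc hS hSa
  have : Fact (Nat.Prime 2) := ⟨Nat.prime_two⟩
  let φ : D →* G := MonoidHom.mk' (fun d => ⁅a, (d : G)⁆) fun d d' => by
    have h1 : ⁅a, (d' : G)⁆ * d = d * ⁅a, (d' : G)⁆ := mem_centralizer_iff.1 (hD d.2) _ (hc _ d'.2)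
    calc ⁅a, ((d * d' : D) : G)⁆ = ⁅a, (d : G)⁆ * (d * ⁅a, (d' : G)⁆) * (d : G)⁻¹ := by
          simp only [commutatorElement_def, coe_mul]
          group
      _ = _ := by rw [← h1]; group
  have hker : ∀ d : D, d ∈ φ.ker ↔ (d : G) ∈ cen1 a := fun d => by
    rw [MonoidHom.mem_ker, mem_centralizer_singleton_iff]
    exact commutatorElement_eq_one_iff_mul_comm.trans eq_comm
  have h2 : IsPGroup 2 φ.range := by
    rintro ⟨_, d, rfl⟩
    refine ⟨1, Subtype.ext ?_⟩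
    show φ d ^ 2 ^ 1 = 1
    rw [pow_one, sq]
    exact hW _ (hc _ d.2)
  obtain ⟨k, hk⟩ := h2.exists_card_eq
  have h3 : φ.ker.index ∣ S.relIndex D :=
    index_dvd_of_le (H := S.subgroupOf D) fun d hd => (hker d).2 (hSa hd)
  rw [index_ker, hk] at h3
  have h4 : k = 0 := by
    by_contra h5
    exact hS.not_dvd_relIndex ((dvd_pow_self 2 h5).trans h3)
  rw [h4, pow_zero, card_eq_one] at hk
  intro d hd
  refine (hker ⟨d, hd⟩).1 ?_
  have : φ ⟨d, hd⟩ ∈ φ.range := ⟨_, rfl⟩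
  rw [hk] at this
  exact this

theorem jRV : H86.TP.JobRV.{u} := ⟨rv, hk⟩

end H65.TpRV
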